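import Groth.Agent.EtFound.LocConst
import Groth.Agent.EtFound.ConstStalk
import Groth.Agent.EtFound.PullConst
import Groth.Agent.EtFound.Basic
import Groth.Prelude.Def_EtCore

/-!
# Sections of a constant sheaf as locally constant functions
-/

set_option autoImplicit false

universe u

open CategoryTheory CategoryTheory.Limits AlgebraicGeometry Opposite

namespace Groth.Agent.EtFound.ConstVal

set_option backward.isDefEq.respectTransparency false
set_option backward.isDefEq.respectTransparency.types false

variable {X : Scheme.{u}} {T : X.Etale} (hT : IsTerminal T) {G : EtCoh.Ab X} {M : AddCommGrpCat.{u + 1}}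
  (φ : M ⟶ G.obj.obj (op T))

instance etale_left {V W : X.Etale} (g : W ⟶ V) : Etale g.left := by
  haveI : Etale V.hom := V.prop
  haveI : Etale W.hom := W.prop
  haveI : Etale (g.left ≫ V.hom) := by rw [MorphismProperty.Over.w g]; infer_instance
  exact Etale.of_comp g.left V.hom

/-- The constant section with value `m`. -/
noncomputable def φV (V : X.Etale) (m : M) : G.obj.obj (op V) :=
  (G.obj.map (hT.from V).op).hom (φ.hom m)

theorem map_φV {V W : X.Etale} (g : W ⟶ V) (m : M) : (G.obj.map g.op).hom (φV hT φ V m) = φV hT φ W m := by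
  show (G.obj.map g.op).hom ((G.obj.map (hT.from V).op).hom (φ.hom m)) = (G.obj.map (hT.from W).op).hom (φ.hom m)
  rw [hT.hom_ext (hT.from W) (g ≫ hT.from V), op_comp, Functor.map_comp]
  rfl

variable {φ} (h : ConstBy G φ (U := T))

include h in
theorem germ_φV_bijective {Ω : Type u} [Field Ω] [IsAlgClosed Ω] (ξ : Spec (CommRingCat.of Ω) ⟶ X) {V : X.Etale}
    (z : (Scheme.pointSmallEtale ξ).fiber.obj V) :
    Function.Bijective fun m => (Scheme.pointSmallEtale ξ).toPresheafFiber V z G.obj (φV hT φ V m) :=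
  h.restrict (hT.from V) Ω ξ z

include h in
theorem φV_injective (V : X.Etale) [Nonempty V.left] : Function.Injective (φV hT φ V) := fun m n e => by
  obtain ⟨Ω, _, _, ξ, z, -⟩ := exists_algClosed_point V (Classical.arbitrary _)
  exact (germ_φV_bijective hT h ξ z).1 (congrArg _ e)

include h in
theorem exists_value {V : X.Etale} (s : G.obj.obj (op V)) (x : V.left) :
    ∃ (m : M) (W : X.Etale) (g : W ⟶ V) (w : W.left),
      g.left w = x ∧ (G.obj.map g.op).hom s = φV hT φ W m := by
  obtain ⟨Ω, _, _, ξ, z, hz⟩ := exists_algClosed_point V x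
  obtain ⟨m, hm⟩ := (germ_φV_bijective hT h ξ z).2 ((Scheme.pointSmallEtale ξ).toPresheafFiber V z G.obj s)
  obtain ⟨W, g, v, hv, hg⟩ := ((Scheme.pointSmallEtale ξ).toPresheafFiber_eq_iff' V z _ _).1 hm.symm
  refine ⟨m, W, g, (v.left : Spec (CommRingCat.of Ω) ⟶ W.left).base (default : Spec (CommRingCat.of Ω)), ?_, ?_⟩
  · rw [← hz, ← hv]
    exact (Scheme.Hom.comp_apply _ _ _).symm
  · exact hg.trans (map_φV hT φ g m)

include h in
theorem value_unique {V W W' : X.Etale} {s : G.obj.obj (op V)} (g : W ⟶ V) (g' : W' ⟶ V) {w : W.left} {w' : W'.left}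
    (hw : g.left w = g'.left w') {m n : M} (hm : (G.obj.map g.op).hom s = φV hT φ W m)
    (hn : (G.obj.map g'.op).hom s = φV hT φ W' n) : m = n := by
  obtain ⟨q, -, -⟩ := Scheme.Pullback.exists_preimage_pullback (f := g.left) (g := g'.left) w w' hw
  haveI : Etale W.hom := W.prop
  let P : X.Etale := Scheme.Etale.mk (pullback.fst g.left g'.left ≫ W.hom)
  let p₁ : P ⟶ W := MorphismProperty.Over.homMk (pullback.fst g.left g'.left) rfl trivial
  let p₂ : P ⟶ W' := MorphismProperty.Over.homMk (pullback.snd g.left g'.left) (by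
    show pullback.snd g.left g'.left ≫ W'.hom = pullback.fst g.left g'.left ≫ W.hom
    rw [← MorphismProperty.Over.w g, ← MorphismProperty.Over.w g', pullback.condition_assoc]) trivial
  haveI : Nonempty P.left := ⟨q⟩
  refine φV_injective hT h P ?_
  rw [← map_φV hT φ p₁, ← map_φV hT φ p₂, ← hm, ← hn]
  have hp : p₁ ≫ g = p₂ ≫ g' := MorphismProperty.Over.Hom.ext pullback.condition
  have h1 := congrArg (fun t : P ⟶ V => (G.obj.map t.op).hom s) hp
  simp only [op_comp, Functor.map_comp] at h1
  exact h1

/-- The value of a section at a point. -/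
noncomputable def valAt {V : X.Etale} (s : G.obj.obj (op V)) (x : V.left) : M :=
  (exists_value hT h s x).choose

theorem valAt_eq {V W : X.Etale} {s : G.obj.obj (op V)} (g : W ⟶ V) (w : W.left) {m : M}
    (hm : (G.obj.map g.op).hom s = φV hT φ W m) : valAt hT h s (g.left w) = m := by
  obtain ⟨W', g', w', hw', hn⟩ := (exists_value hT h s (g.left w)).choose_spec
  exact value_unique hT h g' g hw' hn hm

/-- The value of a section, as a locally constant function. -/
noncomputable def val {V : X.Etale} (s : G.obj.obj (op V)) : LocallyConstant V.left M where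
  toFun := valAt hT h s
  isLocallyConstant := (IsLocallyConstant.iff_exists_open _).2 fun x => by
    obtain ⟨m, W, g, w, hw, hm⟩ := exists_value hT h s x
    refine ⟨Set.range g.left, g.left.isOpenMap.isOpen_range, ⟨w, hw⟩, ?_⟩
    rintro _ ⟨w', rfl⟩
    rw [valAt_eq hT h g w' hm, ← hw, valAt_eq hT h g w hm]

theorem val_eq {V W : X.Etale} {s : G.obj.obj (op V)} (g : W ⟶ V) (w : W.left) {m : M}
    (hm : (G.obj.map g.op).hom s = φV hT φ W m) : val hT h s (g.left w) = m :=
  valAt_eq hT h g w hm

theorem val_map {V W : X.Etale} (g : W ⟶ V) (s : G.obj.obj (op V)) (w : W.left) :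
    val hT h ((G.obj.map g.op).hom s) w = val hT h s (g.left w) := by
  obtain ⟨m, W', g', w', hw', hm⟩ := exists_value hT h ((G.obj.map g.op).hom s) w
  have h1 := val_eq hT h g' w' hm
  have h2 : (G.obj.map (g' ≫ g).op).hom s = φV hT φ W' m := by
    rw [op_comp, Functor.map_comp]
    exact hm
  have h3 := val_eq hT h (g' ≫ g) w' h2
  rw [hw'] at h1
  rw [h1, ← hw']
  exact h3.symm

theorem val_φV (V : X.Etale) (m : M) (x : V.left) : val hT h (φV hT φ V m) x = m :=
  val_eq hT h (𝟙 V) x (by rw [op_id, CategoryTheory.Functor.map_id]; rfl)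

theorem val_injective {V : X.Etale} {s t : G.obj.obj (op V)} (e : ∀ x, val hT h s x = val hT h t x) : s = t := by
  refine EtFound.eq_of_cover G s t ((EtFound.mem_topology_iff _).2 fun x => ?_)
  obtain ⟨m, W, g, w, hw, hm⟩ := exists_value hT h s x
  obtain ⟨n, W', g', w', hw', hn⟩ := exists_value hT h t x
  have hmn : m = n := by
    have := e x
    rwa [← hw, val_eq hT h g w hm, hw, ← hw', val_eq hT h g' w' hn] at this
  obtain ⟨q, hq, -⟩ := Scheme.Pullback.exists_preimage_pullback (f := g.left) (g := g'.left) w w' (hw.trans hw'.symm)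
  haveI : Etale W.hom := W.prop
  let P : X.Etale := Scheme.Etale.mk (pullback.fst g.left g'.left ≫ W.hom)
  let p₁ : P ⟶ W := MorphismProperty.Over.homMk (pullback.fst g.left g'.left) rfl trivial
  let p₂ : P ⟶ W' := MorphismProperty.Over.homMk (pullback.snd g.left g'.left) (by
    show pullback.snd g.left g'.left ≫ W'.hom = pullback.fst g.left g'.left ≫ W.hom
    rw [← MorphismProperty.Over.w g, ← MorphismProperty.Over.w g', pullback.condition_assoc]) trivial
  have hp : p₁ ≫ g = p₂ ≫ g' := MorphismProperty.Over.Hom.ext pullback.condition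
  refine ⟨P, p₁ ≫ g, q, ?_, (Scheme.Hom.comp_apply _ _ _).trans ((congrArg g.left hq).trans hw)⟩
  show (G.obj.map (p₁ ≫ g).op).hom s = (G.obj.map (p₁ ≫ g).op).hom t
  have e1 : (G.obj.map (p₁ ≫ g).op).hom s = φV hT φ P m := by
    rw [op_comp, Functor.map_comp]
    exact (congrArg (G.obj.map p₁.op).hom hm).trans (map_φV hT φ p₁ m)
  have e2 : (G.obj.map (p₁ ≫ g).op).hom t = φV hT φ P n := by
    rw [hp, op_comp, Functor.map_comp]
    exact (congrArg (G.obj.map p₂.op).hom hn).trans (map_φV hT φ p₂ n)
  rw [e1, e2, hmn]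

/-- The constant sheaf is constant by the unit of sheafification. -/
theorem constBy_const (X : Scheme.{u}) (M : AddCommGrpCat.{u + 1}) (T : X.Etale) :
    ConstBy ((constantSheaf X.smallEtaleTopology AddCommGrpCat.{u + 1}).obj M) (U := T)
      ((toSheafify X.smallEtaleTopology ((Functor.const X.Etaleᵒᵖ).obj M)).app (op T)) := fun _ _ _ ξ z => by
  exact toSheafify_const_germ_bijective ξ AddCommGrpCat.{u + 1} M T z

theorem φV_const (X : Scheme.{u}) (M : AddCommGrpCat.{u + 1}) {T : X.Etale} (hT : IsTerminal T) (V : X.Etale) (m : M) :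
    φV hT ((toSheafify X.smallEtaleTopology ((Functor.const X.Etaleᵒᵖ).obj M)).app (op T)) V m =
      ((toSheafify X.smallEtaleTopology ((Functor.const X.Etaleᵒᵖ).obj M)).app (op V)).hom m :=
  (NatTrans.naturality_apply (toSheafify X.smallEtaleTopology ((Functor.const X.Etaleᵒᵖ).obj M)) (hT.from V).op m).symm

end Groth.Agent.EtFound.ConstVal
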