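import Groth.Agent.EtFound.Crit
import Groth.Agent.EtFound.Detect
import Groth.Agent.S0133
import Mathlib.Algebra.Category.Grp.Biproducts

/-! constructible sheaves are quotients of sums of extensions by zero of constant sheaves -/

universe u

open CategoryTheory CategoryTheory.Limits AlgebraicGeometry Opposite Topology

namespace Groth.Agent.EtFound

set_option backward.isDefEq.respectTransparency.types false

variable {X : Scheme.{u}}

/-- evaluation of a sum of copies of a morphism of sheaves -/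
theorem nsmul_hom_app {F G : EtCoh.Ab X} (a : F ⟶ G) (n : ℕ) (U : X.Etale) (s : F.obj.obj (op U)) :
    (n • a).hom.app (op U) s = n • a.hom.app (op U) s := by
  induction n with
  | zero => simp
  | succ n ih =>
    rw [succ_nsmul, succ_nsmul, ← ih]
    rfl

/-- being killed by `n`, as an identity of endomorphisms -/
theorem killedBy_iff_nsmul (n : ℕ) (F : EtCoh.Ab X) : EtCoh.KilledBy n F ↔ n • 𝟙 F = 0 := by
  refine ⟨fun h => Sheaf.hom_ext (NatTrans.ext (funext fun U => AddCommGrpCat.ext fun s => ?_)), fun h U s => ?_⟩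
  · refine (nsmul_hom_app (𝟙 F) n U.unop s).trans ?_
    exact h U.unop s
  · have := nsmul_hom_app (𝟙 F) n U s
    rw [h] at this
    exact this.symm

/-- zero sheaves are constructible -/
theorem isConstructible_of_isZero {F : EtCoh.Ab X} (hF : IsZero F) : EtPBC.IsConstructible F := by
  refine isConstructible_of_pieces fun V _ y hyV => ⟨Set.univ, trivial, ⟨X, 𝟙 X, inferInstance, ?_, ?_⟩, ?_⟩
  · simp
  · refine (isFiniteLocallyConstant_iff _).2 fun t => ⟨EtCoh.top X, t, rfl, ⊥, inferInstance, fun Ω _ _ ξ z => ?_⟩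
    have hs := AddCommGrpCat.subsingleton_of_isZero ((EtCoh.stalk ξ).map_isZero ((EtCoh.pull (𝟙 X)).map_isZero hF))
    exact ⟨fun a b _ => Subsingleton.elim _ _, fun c => ⟨0, @Subsingleton.elim _ hs _ _⟩⟩
  · rw [Set.preimage_univ]
    exact IsConstructible.univ

/-- finite sums of constructible sheaves are constructible -/
theorem isConstructible_biproduct : ∀ {b : ℕ} (E : Fin b → EtCoh.Ab X),
    (∀ i, EtPBC.IsConstructible (E i)) → EtPBC.IsConstructible (⨁ E)
  | 0, E, _ => isConstructible_of_isZero (IsZero.of_iso (isZero_zero _)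
      { hom := 0, inv := 0, hom_inv_id := biproduct.hom_ext _ _ fun i => i.elim0, inv_hom_id := (isZero_zero _).eq_of_src _ _ })
  | b + 1, E, h => by
    let S : ShortComplex (EtCoh.Ab X) := ShortComplex.mk (biproduct.ι E 0)
      (biproduct.lift fun i : Fin b => biproduct.π E i.succ)
      (biproduct.hom_ext _ _ fun i => by simp [biproduct.ι_π_ne _ (Fin.succ_ne_zero i).symm])
    let σ : S.Splitting :=
      { r := biproduct.π E 0
        s := biproduct.desc fun i : Fin b => biproduct.ι E i.succ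
        f_r := biproduct.ι_π_self E 0
        s_g := by
          refine biproduct.hom_ext' _ _ fun i => biproduct.hom_ext _ _ fun i' => ?_
          by_cases hi : i = i'
          · subst hi
            simp [S]
          · simp [S, biproduct.ι_π_ne _ hi, biproduct.ι_π_ne _ (fun e => hi (Fin.succ_injective _ e))]
        id := by
          change biproduct.π E 0 ≫ biproduct.ι E 0 + _ = _
          rw [biproduct.lift_desc, ← Fin.sum_univ_succ (f := fun i => biproduct.π E i ≫ biproduct.ι E i)]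
          exact biproduct.total }
    exact isConstructible_of_extension σ.shortExact (h 0) (isConstructible_biproduct _ fun i => h i.succ)

/-- maps out of an extension by zero of a constant sheaf -/
noncomputable abbrev constShriekAdj (U : X.Etale) :=
  (constantSheafAdj (X.smallEtaleTopology.over U) AddCommGrpCat.{u + 1} Over.mkIdTerminal).comp (EtPBC.extZeroAdj U)

/-- the tautological sections of an extension by zero of a constant sheaf -/
noncomputable def taut (U : X.Etale) (M : Type) [AddCommGroup M] :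
    AddCommGrpCat.of (ULift.{u + 1} M) ⟶ (EtPBC.extZeroConst U M).obj.obj (op U) :=
  (constShriekAdj U).unit.app (AddCommGrpCat.of (ULift.{u + 1} M))

theorem exists_hom_taut {U : X.Etale} {M : Type} [AddCommGroup M] {F : EtCoh.Ab X}
    (φ : AddCommGrpCat.of (ULift.{u + 1} M) ⟶ F.obj.obj (op U)) :
    ∃ h : EtPBC.extZeroConst U M ⟶ F, taut U M ≫ h.hom.app (op U) = φ := by
  refine ⟨((constShriekAdj U).homEquiv (AddCommGrpCat.of (ULift.{u + 1} M)) F).symm φ, ?_⟩
  refine Eq.trans ?_ (((constShriekAdj U).homEquiv (AddCommGrpCat.of (ULift.{u + 1} M)) F).apply_symm_apply φ)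
  refine Eq.trans ?_ ((constShriekAdj U).homEquiv_unit (AddCommGrpCat.of (ULift.{u + 1} M)) F _).symm
  rfl

/-- extensions by zero of constant sheaves killed by `n` are killed by `n` -/
theorem extZeroConst_nsmul (U : X.Etale) {M : Type} [AddCommGroup M] {n : ℕ} (hn : ∀ m : M, n • m = 0) :
    n • 𝟙 (EtPBC.extZeroConst U M) = 0 := by
  refine ((constShriekAdj U).homEquiv (AddCommGrpCat.of (ULift.{u + 1} M)) (EtPBC.extZeroConst U M)).injective ?_
  refine ((constShriekAdj U).homEquiv_unit _ _ _).trans (Eq.trans ?_ ((constShriekAdj U).homEquiv_unit _ _ _).symm)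
  refine AddCommGrpCat.ext fun m => ?_
  refine (nsmul_hom_app (𝟙 _) n U (taut U M m)).trans ?_
  refine ((map_nsmul (taut U M).hom n m).symm.trans ((congrArg (taut U M).hom (ULift.ext _ _ (hn m.down))).trans ?_))
  exact map_zero _

/-- finite sums of sheaves killed by `n` -/
theorem nsmul_biproduct {b : ℕ} (E : Fin b → EtCoh.Ab X) {n : ℕ} (h : ∀ i, n • 𝟙 (E i) = 0) :
    n • 𝟙 (⨁ E) = 0 := by
  refine biproduct.hom_ext' _ _ fun i => ?_
  rw [comp_zero, Preadditive.comp_nsmul, Category.comp_id, ← Category.id_comp (biproduct.ι E i),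
    ← Preadditive.nsmul_comp, h i, zero_comp]

/-- subsheaves of sheaves killed by `n` -/
theorem nsmul_of_mono {F G : EtCoh.Ab X} (i : G ⟶ F) [Mono i] {n : ℕ} (h : n • 𝟙 F = 0) : n • 𝟙 G = 0 := by
  rw [← cancel_mono i, zero_comp, Preadditive.nsmul_comp, Category.id_comp, ← Category.comp_id i,
    ← Preadditive.comp_nsmul, h, comp_zero]

/-- constructible sheaves on qcqs schemes have bounded exponent -/
theorem exists_killedBy (X : Scheme.{u}) [CompactSpace X] [QuasiSeparatedSpace X] {F : EtCoh.Ab X}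
    (hF : EtPBC.IsConstructible F) : ∃ n : ℕ, 0 < n ∧ n • 𝟙 F = 0 := by
  have hP : ∀ (N : ℕ) (A B : Type (u + 1)), Nonempty (A ≃ B) → Nat.card A = N → Nat.card B = N :=
    fun N A B ⟨e⟩ hA => (Nat.card_congr e).symm.trans hA
  choose Ω hΩ hΩ' ξ hξ using fun x : X => exists_geomPoint x
  let c : X → ℕ := fun x => Nat.card (@EtCoh.stalk X (Ω x) (hΩ x) (by have := hΩ' x; infer_instance) (ξ x) |>.obj F)
  obtain ⟨t, ht⟩ := exists_finite_cover (fun x : X => stalkSet F fun A => Nat.card A = c x)
    (fun x => (isLocallyConstructible_stalkSet hF (hP _)).isConstructible) fun x => ⟨x, by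
      have := hΩ' x
      exact Set.mem_of_eq_of_mem (hξ x).symm ((mem_stalkSet_iff (hP _) (ξ x)).2 rfl)⟩
  have hpos : ∀ x, 0 < c x := fun x => by
    have := hΩ' x
    have := finite_stalk_of_isConstructible hF (ξ x)
    exact Nat.card_pos
  refine ⟨∏ x ∈ t, c x, Finset.prod_pos fun x _ => hpos x,
    (killedBy_iff_nsmul _ F).1 fun U s => ?_⟩
  refine (((isSheaf_iff_isSheaf_of_type _ _).1 ((sheafCompose X.smallEtaleTopology (forget AddCommGrpCat.{u + 1})).obj F).property).isSeparated
    _ (equalizerSieve_mem_of_germs F.obj U _ 0 fun k _ _ η z => ?_)).ext fun V g hg => hg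
  obtain ⟨x, hxt, hx⟩ := ht (η.base (default : Spec (CommRingCat.of k)))
  rw [mem_stalkSet_iff (hP _)] at hx
  obtain ⟨d, hd⟩ := Finset.dvd_prod_of_mem c hxt
  rw [map_nsmul, map_zero, hd, mul_comm, mul_nsmul', ← hx]
  have := finite_stalk_of_isConstructible hF η
  have hz : ∀ a : (EtCoh.stalk η).obj F, Nat.card ((EtCoh.stalk η).obj F) • a = 0 := fun a => card_nsmul_eq_zero'
  exact (congrArg (d • ·) (hz _)).trans (smul_zero d)

/-- constructible sheaves killed by `n` are quotients of finite sums of `j_!(ℤ/n)` -/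
theorem exists_epi_of_constructible (X : Scheme.{u}) [CompactSpace X] [QuasiSeparatedSpace X] {F : EtCoh.Ab X}
    (hF : EtPBC.IsConstructible F) {n : ℕ} [NeZero n] (hn : n • 𝟙 F = 0) :
    ∃ (b : ℕ) (U : Fin b → X.Etale) (_ : ∀ i, IsAffine (U i).left)
      (φ : (⨁ fun i => EtPBC.extZeroConst (U i) (ZMod n)) ⟶ F), Epi φ := by
  classical
  have hP : ∀ (A B : Type (u + 1)), Nonempty (A ≃ B) → Nat.card A = 1 → Nat.card B = 1 :=
    fun A B ⟨e⟩ hA => (Nat.card_congr e).symm.trans hA
  -- an epimorphism near each point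
  have key : ∀ x : X, ∃ (b : ℕ) (U : Fin b → X.Etale) (_ : ∀ i, IsAffine (U i).left)
      (φ : (⨁ fun i => EtPBC.extZeroConst (U i) (ZMod n)) ⟶ F),
      x ∈ stalkSet (cokernel φ) (fun A => Nat.card A = 1) := fun x => by
    obtain ⟨Ω, _, _, ξ, rfl⟩ := exists_geomPoint x
    have := finite_stalk_of_isConstructible hF ξ
    obtain ⟨U, u, l, hl⟩ := exists_stalk_sections (F := F) ξ
    obtain ⟨A, hA, huA, -⟩ := exists_isAffineOpen_mem_and_subset (U := (⊤ : U.left.Opens)) (x := ptOf u) trivial
    haveI : AlgebraicGeometry.Etale U.hom := U.prop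
    let U' : X.Etale := Scheme.Etale.mk (A.ι ≫ U.hom)
    let r : U' ⟶ U := MorphismProperty.Over.homMk A.ι rfl
    obtain ⟨v, hv⟩ := exists_lift_open_noeth (u.left : Spec (CommRingCat.of Ω) ⟶ U.left) A fun s => by
      rw [Subsingleton.elim (α := Spec (CommRingCat.of Ω)) s default]
      exact huA
    let u' : (Scheme.pointSmallEtale ξ).fiber.obj U' := CategoryTheory.Over.homMk (v : Spec (CommRingCat.of Ω) ⟶ A.toScheme)
      ((Category.assoc _ _ _).symm.trans ((congrArg (· ≫ U.hom) hv).trans (CategoryTheory.Over.w u)))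
    have hu : (Scheme.pointSmallEtale ξ).fiber.map r u' = u := CategoryTheory.Over.OverMorphism.ext hv
    have hh : ∀ c : (EtCoh.stalk ξ).obj F, ∃ h : EtPBC.extZeroConst U' (ZMod n) ⟶ F,
        ∃ g, (EtCoh.stalk ξ).map h g = c := fun c => by
      let s := F.obj.map r.op (l c)
      have hs : n • s = 0 := (killedBy_iff_nsmul n F).2 hn U' s
      let L : ZMod n →+ F.obj.obj (op U') := ZMod.lift n ⟨zmultiplesHom _ s, by simpa [natCast_zsmul] using hs⟩
      obtain ⟨h, hh⟩ := exists_hom_taut (M := ZMod n) (U := U') (F := F) (AddCommGrpCat.ofHom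
        (L.comp (AddEquiv.ulift : ULift.{u + 1} (ZMod n) ≃+ ZMod n).toAddMonoidHom))
      refine ⟨h, (Scheme.pointSmallEtale ξ).toPresheafFiber U' u' (EtPBC.extZeroConst U' (ZMod n)).obj (taut U' (ZMod n) ⟨1⟩), ?_⟩
      refine ((Scheme.pointSmallEtale ξ).toPresheafFiber_naturality_apply h.hom U' u' _).trans ?_
      refine (congrArg _ (ConcreteCategory.congr_hom hh (⟨1⟩ : ULift.{u + 1} (ZMod n)))).trans ?_
      have hL : L 1 = (1 : ℤ) • s := (congrArg L (Int.cast_one (R := ZMod n)).symm).trans (ZMod.lift_coe n _ 1)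
      change (Scheme.pointSmallEtale ξ).toPresheafFiber U' u' F.obj (L 1) = c
      rw [hL]
      rw [one_zsmul, (Scheme.pointSmallEtale ξ).toPresheafFiber_w_apply, hu]
      exact hl c
    choose h g hg using hh
    haveI := Fintype.ofFinite ((EtCoh.stalk ξ).obj F)
    let e := (Fintype.equivFin ((EtCoh.stalk ξ).obj F)).symm
    refine ⟨_, fun _ => U', fun _ => hA, biproduct.desc fun i => h (e i), ?_⟩
    rw [mem_stalkSet_iff hP, Nat.card_eq_one_iff_unique]
    refine ⟨⟨fun a b => ?_⟩, ⟨0⟩⟩
    suffices hall : ∀ a : (EtCoh.stalk ξ).obj (cokernel (biproduct.desc fun i => h (e i))), a = 0 from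
      (hall a).trans (hall b).symm
    intro a
    obtain ⟨c, rfl⟩ := (epi_iff_stalks (cokernel.π (biproduct.desc fun i => h (e i)))).1 inferInstance Ω ξ a
    obtain ⟨i, rfl⟩ := e.surjective c
    rw [← hg (e i), ← biproduct.ι_desc (fun i => h (e i)) i, Functor.map_comp, ConcreteCategory.comp_apply,
      ← ConcreteCategory.comp_apply, ← Functor.map_comp, cokernel.condition, Functor.map_zero]
    rfl
  choose b U hU φ hx using key
  have hcon : ∀ x, EtPBC.IsConstructible (cokernel (φ x)) := fun x =>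
    isConstructible_cokernel _ (isConstructible_biproduct _ fun i => by
      haveI := hU x i
      exact S0133.result X (U x i) (ZMod n)) hF
  obtain ⟨t, ht⟩ := exists_finite_cover (fun x : X => stalkSet (cokernel (φ x)) fun A => Nat.card A = 1)
    (fun x => (isLocallyConstructible_stalkSet (hcon x) hP).isConstructible) fun x => ⟨x, hx x⟩
  let κ := Σ x : t, Fin (b x.1)
  let e : Fin (Fintype.card κ) ≃ κ := (Fintype.equivFin κ).symm
  refine ⟨_, fun i => U (e i).1.1 (e i).2, fun i => hU _ _,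
    biproduct.desc fun i => biproduct.ι (fun j => EtPBC.extZeroConst (U (e i).1.1 j) (ZMod n)) (e i).2 ≫ φ (e i).1.1, ?_⟩
  refine (epi_iff_stalks _).2 fun k _ _ η c => ?_
  obtain ⟨x, hxt, hxη⟩ := ht (η.base (default : Spec (CommRingCat.of k)))
  rw [mem_stalkSet_iff hP] at hxη
  obtain ⟨d, hd⟩ : ∃ d, (EtCoh.stalk η).map (φ x) d = c := by
    have hex := (ShortComplex.exact_of_g_is_cokernel (ShortComplex.mk (φ x) (cokernel.π (φ x)) (cokernel.condition _))
      (cokernelIsCokernel _)).map (EtCoh.stalk η)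
    refine (ShortComplex.ab_exact_iff _).1 hex c ?_
    exact @Subsingleton.elim _ (Nat.card_eq_one_iff_unique.1 hxη).1 _ _
  let ψ : (⨁ fun j => EtPBC.extZeroConst (U x j) (ZMod n)) ⟶
      ⨁ fun i => EtPBC.extZeroConst (U (e i).1.1 (e i).2) (ZMod n) :=
    biproduct.desc fun j => eqToHom (congrArg (fun p : κ => EtPBC.extZeroConst (U p.1.1 p.2) (ZMod n))
      (e.apply_symm_apply (⟨⟨x, hxt⟩, j⟩ : κ))).symm ≫
      biproduct.ι (fun i => EtPBC.extZeroConst (U (e i).1.1 (e i).2) (ZMod n)) (e.symm ⟨⟨x, hxt⟩, j⟩)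
  refine ⟨(EtCoh.stalk η).map ψ d, ?_⟩
  rw [← ConcreteCategory.comp_apply, ← Functor.map_comp, ← hd]
  congr 3
  refine biproduct.hom_ext' _ _ fun j => ?_
  simp only [ψ, biproduct.ι_desc_assoc, Category.assoc, biproduct.ι_desc]
  have tr : ∀ (p p' : κ) (hp : p' = p),
      eqToHom (congrArg (fun p : κ => EtPBC.extZeroConst (U p.1.1 p.2) (ZMod n)) hp).symm ≫
        biproduct.ι (fun j => EtPBC.extZeroConst (U p'.1.1 j) (ZMod n)) p'.2 ≫ φ p'.1.1 =
      biproduct.ι (fun j => EtPBC.extZeroConst (U p.1.1 j) (ZMod n)) p.2 ≫ φ p.1.1 := by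
    rintro p _ rfl
    simp
  exact tr ⟨⟨x, hxt⟩, j⟩ _ (e.apply_symm_apply _)

/-- constructible sheaves killed by `n` have presentations by finite sums of `j_!(ℤ/n)` -/
theorem exists_presentation (X : Scheme.{u}) [CompactSpace X] [QuasiSeparatedSpace X] {F : EtCoh.Ab X}
    (hF : EtPBC.IsConstructible F) {n : ℕ} [NeZero n] (hn : n • 𝟙 F = 0) :
    ∃ (a b : ℕ) (V : Fin a → X.Etale) (U : Fin b → X.Etale) (_ : ∀ j, IsAffine (V j).left)
      (_ : ∀ i, IsAffine (U i).left)
      (φ : (⨁ fun j => EtPBC.extZeroConst (V j) (ZMod n)) ⟶ ⨁ fun i => EtPBC.extZeroConst (U i) (ZMod n)),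
      Nonempty (F ≅ cokernel φ) := by
  obtain ⟨b, U, hU, p, _⟩ := exists_epi_of_constructible X hF hn
  have hP : EtPBC.IsConstructible (⨁ fun i => EtPBC.extZeroConst (U i) (ZMod n)) :=
    isConstructible_biproduct _ fun i => by
      haveI := hU i
      exact S0133.result X (U i) (ZMod n)
  have hPn : n • 𝟙 (⨁ fun i => EtPBC.extZeroConst (U i) (ZMod n)) = 0 :=
    nsmul_biproduct _ fun i => extZeroConst_nsmul (U i) fun m => by simp
  obtain ⟨a, V, hV, q, _⟩ := exists_epi_of_constructible X (isConstructible_kernel p hP hF) (nsmul_of_mono (kernel.ι p) hPn)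
  refine ⟨a, b, V, U, hV, hU, q ≫ kernel.ι p, ⟨?_⟩⟩
  exact (IsColimit.coconePointUniqueUpToIso
    (Abelian.epiIsCokernelOfKernel (KernelFork.ofι (kernel.ι p) (kernel.condition p)) (kernelIsKernel p))
    (cokernelIsCokernel (kernel.ι p))) ≪≫ (cokernelEpiComp q (kernel.ι p)).symm

end Groth.Agent.EtFound
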