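import Groth.Agent.EtFound.CompactObj
import Groth.Agent.EtFound.ConstrAb
import Groth.Agent.EtFound.NoethACC
import Groth.Agent.EtFound.ConstVal
import Groth.Agent.EtFound.Presentation
import Groth.Agent.S0133
import Groth.Agent.SiteBase.Top
import Mathlib.CategoryTheory.Comma.StructuredArrow.Basic

/-!
# Torsion sheaves as filtered colimits of constructible sheaves
-/

set_option autoImplicit false
set_option backward.isDefEq.respectTransparency false
set_option backward.isDefEq.respectTransparency.types false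
set_option linter.style.haveILetI false

universe u

open CategoryTheory CategoryTheory.Limits AlgebraicGeometry Opposite

namespace Groth.Agent.EtFound.TorsionInd

variable {X : Scheme.{u}}

/-- The tautological section. -/
noncomputable def tautOne (U : X.Etale) (n : ℕ) : (EtPBC.extZeroConst U (ZMod n)).obj.obj (op U) :=
  (taut U (ZMod n)).hom ⟨1⟩

theorem exists_hom_of_killed {U : X.Etale} {F : EtCoh.Ab X} {n : ℕ} (s : F.obj.obj (op U)) (hs : n • s = 0) :
    ∃ h : EtPBC.extZeroConst U (ZMod n) ⟶ F, (h.hom.app (op U)).hom (tautOne U n) = s := by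
  let L : ZMod n →+ F.obj.obj (op U) := ZMod.lift n ⟨zmultiplesHom _ s, by simpa [natCast_zsmul] using hs⟩
  obtain ⟨h, hh⟩ := exists_hom_taut (M := ZMod n) (U := U) (F := F) (AddCommGrpCat.ofHom
    (L.comp (AddEquiv.ulift : ULift.{u + 1} (ZMod n) ≃+ ZMod n).toAddMonoidHom))
  refine ⟨h, (ConcreteCategory.congr_hom hh (⟨1⟩ : ULift.{u + 1} (ZMod n))).trans ?_⟩
  show L 1 = s
  exact ((congrArg L (Int.cast_one (R := ZMod n)).symm).trans (ZMod.lift_coe n _ 1)).trans (one_zsmul s)

theorem hom_ext_one {U : X.Etale} {F : EtCoh.Ab X} {n : ℕ} {h h' : EtPBC.extZeroConst U (ZMod n) ⟶ F}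
    (e : (h.hom.app (op U)).hom (tautOne U n) = (h'.hom.app (op U)).hom (tautOne U n)) : h = h' := by
  refine hom_ext_taut h h' (AddCommGrpCat.ext fun m => ?_)
  obtain ⟨k, hk⟩ := ZMod.intCast_surjective m.down
  have hm : m = k • (⟨1⟩ : ULift.{u + 1} (ZMod n)) := ULift.ext _ _ (by simp [← hk])
  rw [hm, map_zsmul, map_zsmul]
  exact congrArg (k • ·) e

theorem isConstructible_biprod {E E' : EtCoh.Ab X} (h : EtPBC.IsConstructible E) (h' : EtPBC.IsConstructible E') :
    EtPBC.IsConstructible (E ⊞ E') :=
  isConstructible_of_extension (ShortComplex.Splitting.ofHasBinaryBiproduct E E').shortExact h h'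

variable (X) in
/-- Data presenting a constructible sheaf. -/
structure Idx : Type (u + 1) where
  n : ℕ
  hn : 0 < n
  a : ℕ
  b : ℕ
  V : Fin a → X.Etale
  U : Fin b → X.Etale
  hV : ∀ j, IsAffine (V j).left
  hU : ∀ i, IsAffine (U i).left
  φ : (⨁ fun j => EtPBC.extZeroConst (V j) (ZMod n)) ⟶ ⨁ fun i => EtPBC.extZeroConst (U i) (ZMod n)

/-- The sheaf presented by the data. -/
noncomputable def obj (d : Idx X) : EtCoh.Ab X := cokernel d.φ

variable [CompactSpace X] [QuasiSeparatedSpace X]

theorem isConstructible_extZeroConst (U : X.Etale) (hU : IsAffine U.left) (n : ℕ) (hn : 0 < n) :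
    EtPBC.IsConstructible (EtPBC.extZeroConst U (ZMod n)) := by
  haveI : NeZero n := ⟨hn.ne'⟩
  exact S0133.result X U (ZMod n)

theorem isConstructible_obj (d : Idx X) : EtPBC.IsConstructible (obj d) :=
  isConstructible_cokernel d.φ (isConstructible_biproduct _ fun j => isConstructible_extZeroConst _ (d.hV j) d.n d.hn)
    (isConstructible_biproduct _ fun i => isConstructible_extZeroConst _ (d.hU i) d.n d.hn)

theorem exists_idx {E : EtCoh.Ab X} (hE : EtPBC.IsConstructible E) : ∃ d : Idx X, Nonempty (E ≅ obj d) := by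
  obtain ⟨n, hn, hEn⟩ := exists_killedBy X hE
  haveI : NeZero n := ⟨hn.ne'⟩
  obtain ⟨a, b, V, U, hV, hU, φ, he⟩ := exists_presentation X hE hEn
  exact ⟨⟨n, hn, a, b, V, U, hV, hU, φ⟩, he⟩

variable (F : EtCoh.Ab X)

/-- Constructible sheaves over `F`. -/
abbrev J : Type (u + 1) := CostructuredArrow (C := InducedCategory (EtCoh.Ab X) (obj (X := X))) (inducedFunctor (obj (X := X))) F

/-- The diagram. -/
noncomputable abbrev D : J F ⥤ EtCoh.Ab X := CostructuredArrow.proj _ F ⋙ inducedFunctor (obj (X := X))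

/-- The comparison with `F`. -/
noncomputable def cocone : Cocone (D F) where
  pt := F
  ι := { app := fun j => j.hom, naturality := fun i j f => (CostructuredArrow.w f).trans (Category.comp_id _).symm }

theorem exists_j {E : EtCoh.Ab X} (hE : EtPBC.IsConstructible E) (g : E ⟶ F) :
    ∃ (j : J F) (e : E ≅ (D F).obj j), e.hom ≫ j.hom = g := by
  obtain ⟨d, ⟨e⟩⟩ := exists_idx hE
  exact ⟨CostructuredArrow.mk (C := InducedCategory (EtCoh.Ab X) (obj (X := X))) (S := inducedFunctor (obj (X := X))) (Y := d) (e.inv ≫ g), e, e.hom_inv_id_assoc g⟩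

theorem isConstructible_D (j : J F) : EtPBC.IsConstructible ((D F).obj j) := isConstructible_obj j.left

instance isFiltered : IsFiltered (J F) where
  nonempty := by
    obtain ⟨j, -⟩ := exists_j F (E := (⨁ fun i : Fin 0 => (Fin.elim0 i : EtCoh.Ab X)))
      (isConstructible_biproduct _ fun i => i.elim0) 0
    exact ⟨j⟩
  cocone_objs i j := by
    obtain ⟨k, e, he⟩ := exists_j F (isConstructible_biprod (isConstructible_D F i) (isConstructible_D F j))
      (biprod.desc i.hom j.hom)
    exact ⟨k, CostructuredArrow.homMk (InducedCategory.homMk (biprod.inl ≫ e.hom))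
        (by show (biprod.inl ≫ e.hom) ≫ k.hom = i.hom; rw [Category.assoc, he, biprod.inl_desc]),
      CostructuredArrow.homMk (InducedCategory.homMk (biprod.inr ≫ e.hom))
        (by show (biprod.inr ≫ e.hom) ≫ k.hom = j.hom; rw [Category.assoc, he, biprod.inr_desc]), trivial⟩
  cocone_maps {i j} f g := by
    have h : ((D F).map f - (D F).map g) ≫ j.hom = 0 := by
      rw [Preadditive.sub_comp, sub_eq_zero]
      exact (CostructuredArrow.w f).trans (CostructuredArrow.w g).symm
    obtain ⟨k, e, he⟩ := exists_j F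
      (isConstructible_cokernel ((D F).map f - (D F).map g) (isConstructible_D F i) (isConstructible_D F j))
      (cokernel.desc _ j.hom h)
    refine ⟨k, CostructuredArrow.homMk (InducedCategory.homMk (cokernel.π _ ≫ e.hom))
      (by show (cokernel.π _ ≫ e.hom) ≫ k.hom = j.hom; rw [Category.assoc, he, cokernel.π_desc]), ?_⟩
    refine CostructuredArrow.hom_ext _ _ (InducedCategory.hom_ext ?_)
    show (D F).map f ≫ cokernel.π ((D F).map f - (D F).map g) ≫ e.hom =
      (D F).map g ≫ cokernel.π ((D F).map f - (D F).map g) ≫ e.hom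
    rw [← sub_eq_zero, ← Preadditive.sub_comp, cokernel.condition_assoc, zero_comp]

theorem isIso_desc (hF : EtCoh.IsTorsion F) : IsIso (colimit.desc (D F) (cocone F)) := by
  set δ := colimit.desc (D F) (cocone F) with hδ
  have hι : ∀ (j : J F) (V : X.Etale) z, (δ.hom.app (op V)).hom ((colimit.ι (D F) j).hom.app (op V) z) =
      (j.hom.hom.app (op V)).hom z := fun j V z =>
    congrArg (fun t : (D F).obj j ⟶ F => (t.hom.app (op V)).hom z) (colimit.ι_desc (cocone F) j)
  haveI : Sheaf.IsLocallyInjective δ := ⟨fun {W} s t e => by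
    refine (mem_topology_iff _).2 fun x => ?_
    obtain ⟨O, hO, hx, -⟩ := exists_isAffineOpen_mem_and_subset (U := (⊤ : W.unop.left.Opens)) (x := x) trivial
    haveI : Etale W.unop.hom := W.unop.prop
    let V : X.Etale := Scheme.Etale.mk (O.ι ≫ W.unop.hom)
    let g : V ⟶ W.unop := MorphismProperty.Over.homMk O.ι rfl trivial
    haveI : IsAffine V.left := hO
    haveI := preservesColimitsOfShape_sections_qcqs_ab V (isQcqsObj_of_isAffine V) (J F)
    let hc := isColimitOfPreserves (sheafToPresheaf X.smallEtaleTopology AddCommGrpCat.{u + 1} ⋙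
      (evaluation X.Etaleᵒᵖ AddCommGrpCat.{u + 1}).obj (op V)) (colimit.isColimit (D F))
    refine ⟨V, g, (⟨x, hx⟩ : O.toScheme), ?_, rfl⟩
    obtain ⟨j, a, ha⟩ := Concrete.isColimit_exists_rep _ hc
      (((colimit (D F)).obj.map g.op).hom s - ((colimit (D F)).obj.map g.op).hom t)
    show ((colimit (D F)).obj.map g.op).hom s = ((colimit (D F)).obj.map g.op).hom t
    rw [← sub_eq_zero, ← ha]
    have hd : (δ.hom.app (op V)).hom ((colimit (D F)).obj.map g.op |>.hom s) =
        (δ.hom.app (op V)).hom ((colimit (D F)).obj.map g.op |>.hom t) :=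
      (NatTrans.naturality_apply δ.hom g.op s).trans
        ((congrArg (F.obj.map g.op).hom e).trans (NatTrans.naturality_apply δ.hom g.op t).symm)
    have hja : (j.hom.hom.app (op V)).hom a = 0 := by
      rw [← hι]
      refine (congrArg (δ.hom.app (op V)).hom ha).trans ?_
      rw [map_sub, sub_eq_zero]
      exact hd
    obtain ⟨n, hn, hn0⟩ := exists_killedBy X (isConstructible_D F j)
    obtain ⟨h, hh⟩ := exists_hom_of_killed a ((killedBy_iff_nsmul n _).2 hn0 V a)
    have hhj : h ≫ j.hom = 0 := hom_ext_one ((congrArg (j.hom.hom.app (op V)).hom hh).trans hja)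
    obtain ⟨k, f, hf⟩ := exists_j F
      (isConstructible_cokernel h (isConstructible_extZeroConst V ‹_› n hn) (isConstructible_D F j))
      (cokernel.desc h j.hom hhj)
    let q : j ⟶ k := CostructuredArrow.homMk (InducedCategory.homMk (cokernel.π h ≫ f.hom))
      (by show (cokernel.π h ≫ f.hom) ≫ k.hom = j.hom; rw [Category.assoc, hf, cokernel.π_desc])
    have h0 : h ≫ (D F).map q ≫ colimit.ι (D F) k = 0 := by
      show h ≫ (cokernel.π h ≫ f.hom) ≫ colimit.ι (D F) k = 0
      simp only [Category.assoc, cokernel.condition_assoc, zero_comp]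
    rw [colimit.w (D F) q] at h0
    show (colimit.ι (D F) j).hom.app (op V) a = 0
    rw [← hh]
    exact congrArg (fun t : EtPBC.extZeroConst V (ZMod n) ⟶ colimit (D F) => (t.hom.app (op V)).hom (tautOne V n)) h0⟩
  haveI : Sheaf.IsLocallySurjective δ := ⟨fun {W} s => by
    refine (mem_topology_iff _).2 fun x => ?_
    obtain ⟨V', g', ⟨v, hv⟩, hfin⟩ := hF W s x
    obtain ⟨O, hO, hx, -⟩ := exists_isAffineOpen_mem_and_subset (U := (⊤ : V'.left.Opens)) (x := v) trivial
    haveI : Etale V'.hom := V'.prop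
    let V : X.Etale := Scheme.Etale.mk (O.ι ≫ V'.hom)
    let i : V ⟶ V' := MorphismProperty.Over.homMk O.ι rfl trivial
    haveI : IsAffine V.left := hO
    obtain ⟨m, hm0, hm⟩ := isOfFinAddOrder_iff_nsmul_eq_zero.1 hfin
    obtain ⟨h, hh⟩ := exists_hom_of_killed ((F.obj.map i.op).hom ((F.obj.map g'.op).hom s))
      ((map_nsmul (F.obj.map i.op).hom m _).symm.trans ((congrArg (F.obj.map i.op).hom hm).trans (map_zero _)))
    obtain ⟨k, f, hf⟩ := exists_j F (isConstructible_extZeroConst V ‹_› m hm0) h
    refine ⟨V, i ≫ g', (⟨v, hx⟩ : O.toScheme),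
      ⟨(colimit.ι (D F) k).hom.app (op V) ((f.hom.hom.app (op V)).hom (tautOne V m)), ?_⟩,
      (Scheme.Hom.comp_apply _ _ _).trans hv⟩
    refine (hι k V _).trans ?_
    refine (congrArg (fun t : EtPBC.extZeroConst V (ZMod m) ⟶ F => (t.hom.app (op V)).hom (tautOne V m)) hf).trans (hh.trans ?_)
    rw [op_comp, Functor.map_comp]
    rfl⟩
  exact (Sheaf.isLocallyBijective_iff_isIso δ).1 ⟨inferInstance, inferInstance⟩

/-- A torsion sheaf is the colimit of the constructible sheaves over it. -/
noncomputable def isColimit (hF : EtCoh.IsTorsion F) : IsColimit (cocone F) :=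
  haveI := isIso_desc F hF
  IsColimit.ofIsoColimit (colimit.isColimit (D F))
    (Cocone.ext (asIso (colimit.desc (D F) (cocone F))) fun j => colimit.ι_desc _ _)

theorem isConstructible_of_preserves (hF : EtCoh.IsTorsion F)
    [PreservesColimitsOfShape (J F) (coyoneda.obj (op F))] : EtPBC.IsConstructible F := by
  let hc := isColimitOfPreserves (coyoneda.obj (op F)) (isColimit F hF)
  obtain ⟨j, (s : F ⟶ (D F).obj j), hs⟩ := Types.jointly_surjective _ hc (𝟙 F)
  change s ≫ j.hom = 𝟙 F at hs
  let a : (D F).obj j ⟶ F := j.hom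
  change s ≫ a = 𝟙 F at hs
  let q : (D F).obj j ⟶ (D F).obj j := a ≫ s
  let p := 𝟙 ((D F).obj j) - q
  have hp : p ≫ a = 0 := by
    show (𝟙 ((D F).obj j) - q) ≫ a = 0
    rw [Preadditive.sub_comp, Category.id_comp, sub_eq_zero]
    exact ((Category.assoc _ _ _).trans ((congrArg (a ≫ ·) hs).trans (Category.comp_id _))).symm
  let e : cokernel p ≅ F :=
    { hom := cokernel.desc p a hp
      inv := s ≫ cokernel.π p
      hom_inv_id := by
        rw [← cancel_epi (cokernel.π p), cokernel.π_desc_assoc, Category.comp_id, ← sub_eq_zero]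
        have : (a ≫ s ≫ cokernel.π p) - cokernel.π p = -(p ≫ cokernel.π p) := by
          show (a ≫ s ≫ cokernel.π p) - cokernel.π p = -((𝟙 ((D F).obj j) - q) ≫ cokernel.π p)
          rw [Preadditive.sub_comp, Category.id_comp, neg_sub]
          exact congrArg (· - cokernel.π p) (Category.assoc _ _ _).symm
        rw [this, cokernel.condition, neg_zero]
      inv_hom_id := by rw [Category.assoc, cokernel.π_desc, hs] }
  exact isConstructible_of_iso e
    (isConstructible_cokernel p (isConstructible_D F j) (isConstructible_D F j))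

end Groth.Agent.EtFound.TorsionInd
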