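import Groth.Agent.EtLC12.TorsionColim
import Groth.Agent.EtFound.TorsionInd
import Groth.Agent.ProConsLib.Basic
import Groth.Agent.S8526
import Mathlib.Algebra.Category.Grp.EnoughInjectives
import Mathlib.CategoryTheory.Filtered.Final
import Mathlib.CategoryTheory.Limits.Final

/-!
# Effacing the cohomology of constructible sheaves; sheaves vanishing at the generic point
-/

set_option autoImplicit false
set_option backward.isDefEq.respectTransparency false
set_option backward.isDefEq.respectTransparency.types false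
set_option linter.style.haveILetI false

universe v u

open CategoryTheory CategoryTheory.Limits AlgebraicGeometry Opposite Abelian

namespace Groth.Agent.EtFound.TorsionInd

theorem divisible_of_injective {A : AddCommGrpCat.{v}} [Injective A] {n : ℕ} (hn : 0 < n) (a : A) :
    ∃ b : A, n • b = a := by
  let Z := AddCommGrpCat.of (ULift.{v} ℤ)
  let m : Z ⟶ Z := AddCommGrpCat.ofHom (nsmulAddMonoidHom n)
  haveI : Mono m := (AddCommGrpCat.mono_iff_injective _).2 fun x y h => by
    refine ULift.down_injective (mul_left_cancel₀ (Nat.cast_ne_zero.2 hn.ne' : (n : ℤ) ≠ 0) ?_)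
    have : n • x.down = n • y.down := congrArg ULift.down h
    simpa only [nsmul_eq_mul] using this
  let g : Z ⟶ A := AddCommGrpCat.ofHom ((zmultiplesHom A a).comp AddEquiv.ulift.toAddMonoidHom)
  refine ⟨(Injective.factorThru g m).hom ⟨1⟩, ?_⟩
  rw [← map_nsmul]
  refine (congrArg (fun k : Z ⟶ A => k.hom ⟨1⟩) (Injective.comp_factorThru g m)).trans ?_
  exact one_zsmul a

variable {X : Scheme.{u}}

/-- Products of injective groups over all restrictions. -/
noncomputable def cofreeInjPre (P : X.Etaleᵒᵖ ⥤ AddCommGrpCat.{u + 1}) : X.Etaleᵒᵖ ⥤ AddCommGrpCat.{u + 1} where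
  obj U := AddCommGrpCat.of (∀ (W : X.Etale) (_ : W ⟶ U.unop), ((Injective.under (P.obj (op W)) : AddCommGrpCat.{u + 1}) : Type (u + 1)))
  map f := AddCommGrpCat.ofHom (AddMonoidHom.mk' (fun s W h => s W (h ≫ f.unop)) fun _ _ => rfl)
  map_id U := AddCommGrpCat.hom_ext (AddMonoidHom.ext fun s => funext fun W => funext fun h =>
    congrArg (s W) (Category.comp_id h))
  map_comp f g := AddCommGrpCat.hom_ext (AddMonoidHom.ext fun s => funext fun W => funext fun h =>
    congrArg (s W) (Category.assoc h g.unop f.unop).symm)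

theorem sections_divisible (I : EtCoh.Ab X) [Injective I] {n : ℕ} (hn : 0 < n) (U : X.Etale) (s : I.obj.obj (op U)) :
    ∃ t, n • t = s := by
  haveI : LocallySmall.{u + 1} X.Etale := ⟨fun _ _ => inferInstance⟩
  haveI : Injective I.obj :=
    Injective.injective_of_adjoint (sheafificationAdjunction X.smallEtaleTopology AddCommGrpCat.{u + 1}) I
  let c : I.obj ⟶ cofreeInjPre I.obj :=
    { app := fun V => AddCommGrpCat.ofHom (AddMonoidHom.mk'
        (fun x W h => (Injective.ι (I.obj.obj (op W))).hom ((I.obj.map h.op).hom x))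
        (fun x y => funext fun W => funext fun h => by rw [map_add, map_add]; rfl))
      naturality := fun V V' f => AddCommGrpCat.hom_ext (AddMonoidHom.ext fun x => funext fun W => funext fun h => by
        refine (congrArg (Injective.ι (I.obj.obj (op W))).hom ?_ :)
        show (I.obj.map h.op).hom ((I.obj.map f).hom x) = (I.obj.map (h ≫ f.unop).op).hom x
        rw [op_comp, Functor.map_comp]
        rfl) }
  haveI : Mono c := by
    haveI : ∀ V, Mono (c.app V) := fun V => (AddCommGrpCat.mono_iff_injective _).2 fun x y h => by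
      have h1 := (AddCommGrpCat.mono_iff_injective (Injective.ι (I.obj.obj (op V.unop)))).1 inferInstance
        (congrFun (congrFun h V.unop) (𝟙 _))
      rw [op_id, CategoryTheory.Functor.map_id] at h1
      exact h1
    exact NatTrans.mono_of_mono_app _
  choose t ht using fun (W : X.Etale) (h : W ⟶ U) => divisible_of_injective hn ((c.app (op U)).hom s W h)
  let ρ := Injective.factorThru (𝟙 I.obj) c
  refine ⟨(ρ.app (op U)).hom t, ?_⟩
  rw [← map_nsmul, show n • t = (c.app (op U)).hom s from funext fun W => funext fun h => ht W h]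
  exact congrArg (fun k : I.obj ⟶ I.obj => (k.app (op U)).hom s) (Injective.comp_factorThru (𝟙 I.obj) c)

theorem H_map_nsmul (G : EtCoh.Ab X) (m q : ℕ) (x : EtCoh.H X G q) : Sheaf.H.map (m • 𝟙 G) q x = m • x :=
  EtLC12.TorsionColim.map_nsmul_id G m q x

theorem subsingleton_H_nTorsion (I : EtCoh.Ab X) [Injective I] {n : ℕ} (hn : 0 < n) (q : ℕ) :
    Subsingleton (EtCoh.H X (kernel (n • 𝟙 I)) (q + 1)) := by
  haveI : Sheaf.IsLocallySurjective (n • 𝟙 I) := ⟨fun {U} s => by
    obtain ⟨t, ht⟩ := sections_divisible I hn U s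
    refine (mem_topology_iff _).2 fun x => ⟨U, 𝟙 U, x, ⟨t, ?_⟩, rfl⟩
    rw [op_id, CategoryTheory.Functor.map_id]
    exact (nsmul_hom_app (𝟙 I) n U t).trans ht⟩
  haveI : Epi (n • 𝟙 I) := (Sheaf.isLocallySurjective_iff_epi' AddCommGrpCat.{u + 1} _).1 inferInstance
  have hS : (ShortComplex.mk (kernel.ι (n • 𝟙 I)) (n • 𝟙 I) (kernel.condition _)).ShortExact :=
    { exact := ShortComplex.exact_of_f_is_kernel _ (kernelIsKernel _) }
  refine subsingleton_of_forall_eq 0 fun x => ?_
  obtain ⟨z, rfl⟩ := Ext.covariant_sequence_exact₁ _ hS x (Ext.eq_zero_of_injective _) (rfl : q + 1 = q + 1)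
  obtain ⟨y, hy⟩ : ∃ y, n • y = z := by
    cases q with
    | zero =>
      let hT := EtCore.topIsTerminal X
      obtain ⟨t, ht⟩ := sections_divisible I hn (EtCoh.top X) (Sheaf.H.equiv₀ I hT z)
      exact ⟨(Sheaf.H.equiv₀ I hT).symm t, (Sheaf.H.equiv₀ I hT).injective (by rw [map_nsmul, AddEquiv.apply_symm_apply, ht])⟩
    | succ k => exact ⟨0, (smul_zero n).trans (Ext.eq_zero_of_injective z).symm⟩
  rw [← hy, ← H_map_nsmul, Sheaf.H.map_apply, Ext.comp_assoc_of_second_deg_zero]
  exact (congrArg (fun t => Ext.comp y t rfl) hS.comp_extClass).trans (Ext.comp_zero _ _ _ _ _)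

theorem exists_efface [CompactSpace X] [QuasiSeparatedSpace X] (F : EtCoh.Ab X) (hF : EtPBC.IsConstructible F)
    (q : ℕ) (hq : 0 < q) (α : EtCoh.H X F q) :
    ∃ (G : EtCoh.Ab X) (u : F ⟶ G), EtPBC.IsConstructible G ∧ Mono u ∧ (EtCoh.HF X q).map u α = 0 := by
  obtain ⟨m, hm, hm0⟩ := exists_killedBy X hF
  let I := Injective.under F
  let T := kernel (m • 𝟙 I)
  have hι : Injective.ι F ≫ (m • 𝟙 I) = 0 := by
    rw [Preadditive.comp_nsmul, Category.comp_id]
    refine Eq.trans ?_ ((congrArg (· ≫ Injective.ι F) hm0).trans zero_comp)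
    rw [Preadditive.nsmul_comp, Category.id_comp]
  let i : F ⟶ T := kernel.lift _ (Injective.ι F) hι
  have hT : EtCoh.IsTorsion T := fun U s x => ⟨U, 𝟙 U, ⟨x, rfl⟩, isOfFinAddOrder_iff_nsmul_eq_zero.2 ⟨m, hm, by
    refine (killedBy_iff_nsmul m T).2 ?_ U _
    rw [← cancel_mono (kernel.ι (m • 𝟙 I)), zero_comp, Preadditive.nsmul_comp, Category.id_comp]
    have h3 := kernel.condition (m • 𝟙 I)
    rwa [Preadditive.comp_nsmul, Category.comp_id] at h3⟩⟩
  obtain ⟨j, g, hg⟩ := (isCpt_of_isConstructible hF).exists_stage (isColimit T hT) i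
  haveI : Subsingleton (EtCoh.H X T q) := by
    obtain ⟨q, rfl⟩ := Nat.exists_eq_add_one_of_ne_zero hq.ne'
    exact subsingleton_H_nTorsion I hm q
  haveI := EtLC12.QcqsAcyclic.preservesColimitsOfShape_HF X q (J T)
  let hc := isColimitOfPreserves (EtCoh.HF X q) (isColimit T hT)
  have h0 : (((EtCoh.HF X q).mapCocone (cocone T)).ι.app j).hom (((EtCoh.HF X q).map g).hom α) =
      (((EtCoh.HF X q).mapCocone (cocone T)).ι.app j).hom 0 := by
    exact @Subsingleton.elim _ ‹Subsingleton (EtCoh.H X T q)› _ _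
  obtain ⟨k, a, b, hab⟩ := Concrete.isColimit_exists_of_rep_eq _ hc _ _ h0
  refine ⟨(D T).obj k, g ≫ (D T).map a, isConstructible_D T k, ?_, ?_⟩
  · haveI : Mono i := mono_of_mono_fac (kernel.lift_ι (m • 𝟙 I) (Injective.ι F) hι)
    have hk : (g ≫ (D T).map a) ≫ (cocone T).ι.app k = i := by
      rw [Category.assoc, (cocone T).w a]
      exact hg
    exact mono_of_mono_fac hk
  · rw [Functor.map_comp]
    exact hab.trans (map_zero _)

theorem stalk_map_eq_zero_of_isZero {G G' : EtCoh.Ab X} {Ω : Type u} [Field Ω] [IsSepClosed Ω]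
    (ξ : Spec (CommRingCat.of Ω) ⟶ X) (g : G ⟶ G') (h : IsZero ((EtCoh.stalk ξ).obj G'))
    (c : (EtCoh.stalk ξ).obj G) : (EtCoh.stalk ξ).map g c = 0 :=
  @Subsingleton.elim _ (AddCommGrpCat.subsingleton_of_isZero h) _ _

theorem exists_colimit_generic [CompactSpace X] [QuasiSeparatedSpace X] [IrreducibleSpace X] (F : EtCoh.Ab X)
    (hF : EtCoh.IsTorsion F) (hη : genericPoint X ∉ EtPBC.supp F) :
    ∃ (J' : Type (u + 1)) (_ : SmallCategory J') (_ : IsFiltered J') (D' : J' ⥤ EtCoh.Ab X)
      (c : Cocone D') (_ : IsColimit c), Nonempty (c.pt ≅ F) ∧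
      ∀ j, EtPBC.IsConstructible (D'.obj j) ∧
        ∃ Z : Set X, IsClosed Z ∧ genericPoint X ∉ Z ∧ EtPBC.supp (D'.obj j) ⊆ Z := by
  let P : ObjectProperty (J F) := fun j => ∃ Z : Set X, IsClosed Z ∧ genericPoint X ∉ Z ∧ EtPBC.supp ((D F).obj j) ⊆ Z
  obtain ⟨Ω, _, _, ξ, hξ⟩ := exists_geomPoint (genericPoint X)
  have hrange : Set.range ξ = {genericPoint X} := by
    refine Set.Subset.antisymm ?_ ?_
    · rintro _ ⟨s, rfl⟩
      exact (congrArg ξ (Subsingleton.elim (α := Spec (CommRingCat.of Ω)) s default)).trans hξ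
    · rintro _ rfl
      exact ⟨default, hξ⟩
  have hz : IsZero ((EtCoh.stalk ξ).obj F) := by
    by_contra h
    exact hη ⟨Ω, inferInstance, inferInstance, ξ, hrange, h⟩
  haveI : (EtCoh.stalk ξ).IsLeftAdjoint :=
    inferInstanceAs ((Scheme.pointSmallEtale ξ).sheafFiber (A := AddCommGrpCat.{u + 1})).IsLeftAdjoint
  haveI : PreservesColimitsOfShape (J F) (EtCoh.stalk ξ) := inferInstance
  have hex : ∀ j : J F, ∃ k : P.FullSubcategory, Nonempty (j ⟶ P.ι.obj k) := fun j => by
    classical
    haveI := finite_stalk_of_isConstructible (isConstructible_D F j) ξ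
    haveI := Fintype.ofFinite ((EtCoh.stalk ξ).obj ((D F).obj j))
    let hc := isColimitOfPreserves (EtCoh.stalk ξ) (isColimit F hF)
    have hkill : ∀ s : Finset ((EtCoh.stalk ξ).obj ((D F).obj j)), ∃ (k : J F) (f : j ⟶ k),
        ∀ c ∈ s, (EtCoh.stalk ξ).map ((D F).map f) c = 0 := by
      intro s
      induction s using Finset.induction with
      | empty => exact ⟨j, 𝟙 j, fun c hc => absurd hc (Finset.notMem_empty c)⟩
      | @insert c s _ ih =>
        obtain ⟨k, f, hf⟩ := ih
        have h0 : (((EtCoh.stalk ξ).mapCocone (cocone F)).ι.app k).hom ((EtCoh.stalk ξ).map ((D F).map f) c) =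
            (((EtCoh.stalk ξ).mapCocone (cocone F)).ι.app k).hom 0 :=
          @Subsingleton.elim _ (AddCommGrpCat.subsingleton_of_isZero hz) _ _
        obtain ⟨l, a, b, hab⟩ := Concrete.isColimit_exists_of_rep_eq _ hc _ _ h0
        replace hab := hab.trans (map_zero ((D F ⋙ EtCoh.stalk ξ).map b).hom)
        refine ⟨l, f ≫ a, fun d hd => ?_⟩
        rw [Functor.map_comp, Functor.map_comp]
        rcases Finset.mem_insert.1 hd with rfl | hd
        · exact hab
        · exact (congrArg ((EtCoh.stalk ξ).map ((D F).map a)).hom (hf d hd)).trans (map_zero _)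
    obtain ⟨k, f, hf⟩ := hkill Finset.univ
    let φ : (D F).obj j ⟶ (D F).obj k := (D F).map f
    let E := cokernel (kernel.ι φ)
    have hE : EtPBC.IsConstructible E := isConstructible_cokernel _
      (isConstructible_kernel φ (isConstructible_D F j) (isConstructible_D F k)) (isConstructible_D F j)
    let m : E ⟶ (D F).obj k := cokernel.desc _ φ (kernel.condition φ)
    haveI : Mono m := inferInstanceAs (Mono (Abelian.factorThruCoimage φ))
    have hp : ∀ c, (EtCoh.stalk ξ).map (cokernel.π (kernel.ι φ)) c = 0 := fun c => by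
      refine (mono_iff_stalks m).1 inferInstance Ω ξ (Eq.trans ?_ (map_zero _).symm)
      refine Eq.trans ?_ (hf c (Finset.mem_univ c))
      rw [← ConcreteCategory.comp_apply, ← Functor.map_comp, cokernel.π_desc]
    have hEz : IsZero ((EtCoh.stalk ξ).obj E) := by
      haveI : Subsingleton ((EtCoh.stalk ξ).obj E) := subsingleton_of_forall_eq 0 fun e => by
        obtain ⟨c, rfl⟩ := (epi_iff_stalks (cokernel.π (kernel.ι φ))).1 inferInstance Ω ξ e
        exact hp c
      exact AddCommGrpCat.isZero_of_subsingleton _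
    have hηE : genericPoint X ∉ EtPBC.supp E := by
      rintro ⟨Ω', _, _, ξ', hξ', hne⟩
      refine hne ?_
      obtain ⟨e⟩ := nonempty_stalk_equiv E ξ ξ' (hξ.trans (Set.mem_singleton_iff.1 (hξ'.subset ⟨default, rfl⟩)).symm)
      haveI := AddCommGrpCat.subsingleton_of_isZero hEz
      haveI : Subsingleton ((EtCoh.stalk ξ').obj E) := e.symm.subsingleton
      exact AddCommGrpCat.isZero_of_subsingleton _
    have hcl : genericPoint X ∉ closure (EtPBC.supp E) := fun h => by
      obtain ⟨z, hzE, hzη⟩ := (ProConsLib.consClosed_of_isLocallyConstructible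
        (Groth.Agent.S8526.result _ hE)).exists_specializes_of_mem_closure h
      have hηz : genericPoint X ⤳ z := (genericPoint_spec X).specializes trivial
      exact hηE ((hzη.antisymm hηz).eq ▸ hzE)
    obtain ⟨l, e, he⟩ := exists_j F hE (m ≫ k.hom)
    refine ⟨⟨l, closure (EtPBC.supp E), isClosed_closure, hcl, fun x hx => subset_closure ?_⟩,
      ⟨CostructuredArrow.homMk (InducedCategory.homMk (cokernel.π (kernel.ι φ) ≫ e.hom)) ?_⟩⟩
    · obtain ⟨Ω', _, _, ξ', hξ', hne⟩ := hx
      exact ⟨Ω', inferInstance, inferInstance, ξ', hξ', fun h => hne (h.of_iso ((EtCoh.stalk ξ').mapIso e).symm)⟩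
    · show (cokernel.π (kernel.ι φ) ≫ e.hom) ≫ l.hom = j.hom
      rw [Category.assoc, he, cokernel.π_desc_assoc]
      exact CostructuredArrow.w f
  haveI := IsFiltered.of_exists_of_isFiltered_of_fullyFaithful P.ι hex
  haveI := Functor.final_of_exists_of_isFiltered_of_fullyFaithful P.ι hex
  exact ⟨P.FullSubcategory, inferInstance, inferInstance, P.ι ⋙ D F, (cocone F).whisker P.ι,
    (Functor.Final.isColimitWhiskerEquiv P.ι (cocone F)).symm (isColimit F hF), ⟨Iso.refl _⟩,
    fun j => ⟨isConstructible_D F j.obj, j.property⟩⟩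

end Groth.Agent.EtFound.TorsionInd
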