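import Groth.Agent.EtFound.FLCRepr
import Groth.Agent.EtFound.ConstVal
import Groth.Agent.EtFound.Efface
import Groth.Agent.S6645
import Groth.Agent.EtMVLib.HpullApply

/-!
# First cohomology of finite constant sheaves and sections of finite etale covers
-/

set_option autoImplicit false

universe u

open CategoryTheory CategoryTheory.Limits AlgebraicGeometry Opposite Abelian

namespace Groth.Agent.EtFound.FLCTorsor

set_option backward.isDefEq.respectTransparency false
set_option backward.isDefEq.respectTransparency.types false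

variable {Z : Scheme.{u}}

theorem isFiniteLocallyConstant_const (M : Type) [AddCommGroup M] [Finite M] :
    EtCoh.IsFiniteLocallyConstant (EtCoh.const Z M) := by
  refine ⟨PUnit.{u + 1}, fun _ => EtCoh.top Z, fun x => ⟨⟨⟩, x, rfl⟩, fun _ => ⟨M, inferInstance, inferInstance, ?_⟩⟩
  exact nonempty_restr_iso_const (ConstVal.constBy_const Z (AddCommGrpCat.of (ULift.{u + 1} M)) (EtCoh.top Z))

theorem nsmul_id_const_eq_zero (M : Type) [AddCommGroup M] [Finite M] : Nat.card M • 𝟙 (EtCoh.const Z M) = 0 := by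
  haveI : (Functor.const Z.Etaleᵒᵖ : AddCommGrpCat.{u + 1} ⥤ Z.Etaleᵒᵖ ⥤ AddCommGrpCat.{u + 1}).Additive := ⟨fun {_ _ _ _} => rfl⟩
  haveI : (constantSheaf Z.smallEtaleTopology AddCommGrpCat.{u + 1}).Additive :=
    inferInstanceAs (Functor.const Z.Etaleᵒᵖ ⋙ presheafToSheaf Z.smallEtaleTopology AddCommGrpCat.{u + 1}).Additive
  have h0 : Nat.card M • 𝟙 (AddCommGrpCat.of (ULift.{u + 1} M)) = 0 := AddCommGrpCat.hom_ext (AddMonoidHom.ext fun m => by
    refine (?_ : Nat.card M • m = 0)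
    have : Fintype M := Fintype.ofFinite M
    exact ULift.ext _ _ (by
      show Nat.card M • m.down = 0
      exact card_nsmul_eq_zero'))
  have := congrArg (constantSheaf Z.smallEtaleTopology AddCommGrpCat.{u + 1}).map h0
  rw [Functor.map_nsmul, CategoryTheory.Functor.map_id, Functor.map_zero] at this
  exact this

/-- A first cohomology class with values in a finite locally constant sheaf killed by `n` is the obstruction
to lifting a section which lifts over a surjective finite etale scheme. -/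
theorem exists_cover_lift (G : EtCoh.Ab Z) (hflc : EtCoh.IsFiniteLocallyConstant G) (n : ℕ) (hn : 0 < n)
    (hG : n • 𝟙 G = 0) (x : EtCoh.H Z G 1) :
    ∃ (S : ShortComplex (EtCoh.Ab Z)) (hS : S.ShortExact) (φ : S.X₁ ≅ G) (z : EtCoh.H Z S.X₃ 0) (V : Z.Etale)
      (t : S.X₂.obj.obj (op V)),
      IsFinite V.hom ∧ Surjective V.hom ∧
        x = Sheaf.H.map φ.hom 1 (z.comp hS.extClass (rfl : 0 + 1 = 1)) ∧
        (S.g.hom.app (op V)).hom t =
          (S.X₃.obj.map ((EtCore.topIsTerminal Z).from V).op).hom (Sheaf.H.equiv₀ S.X₃ (EtCore.topIsTerminal Z) z) := by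
  let hT := EtCore.topIsTerminal Z
  haveI : NeZero n := ⟨hn.ne'⟩
  let S : ShortComplex (EtCoh.Ab Z) := ShortComplex.mk (Injective.ι G) (cokernel.π _) (cokernel.condition _)
  have hS : S.ShortExact := { exact := ShortComplex.exact_cokernel _ }
  haveI : Injective S.X₂ := inferInstanceAs (Injective (Injective.under G))
  obtain ⟨z, rfl⟩ := Ext.covariant_sequence_exact₁ _ hS x (Ext.eq_zero_of_injective _) (rfl : 0 + 1 = 1)
  have hnx : n • (z.comp hS.extClass (rfl : 0 + 1 = 1)) = 0 := by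
    have h2 := TorsionInd.H_map_nsmul G n 1 (z.comp hS.extClass (rfl : 0 + 1 = 1))
    rw [hG, Sheaf.H.map_apply, Ext.mk₀_zero, Ext.comp_zero] at h2
    exact h2.symm
  obtain ⟨y, hy⟩ := Ext.covariant_sequence_exact₃ _ hS (n • z) (rfl : 0 + 1 = 1) (by
    rw [← hnx]
    exact map_nsmul (AddMonoidHom.mk' (fun t => Ext.comp t hS.extClass (rfl : 0 + 1 = 1)) fun a b => Ext.add_comp a b _ _) n z)
  obtain ⟨t, ht⟩ := TorsionInd.sections_divisible S.X₂ hn (EtCoh.top Z) (Sheaf.H.equiv₀ S.X₂ hT y)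
  let q : S.X₃.obj.obj (op (EtCoh.top Z)) := Sheaf.H.equiv₀ S.X₃ hT z - (S.g.hom.app (op (EtCoh.top Z))).hom t
  have hq : n • q = 0 := by
    have e1 : n • Sheaf.H.equiv₀ S.X₃ hT z = (S.g.hom.app (op (EtCoh.top Z))).hom (Sheaf.H.equiv₀ S.X₂ hT y) := by
      rw [← map_nsmul, ← hy, Sheaf.H.equiv₀_naturality]
      rfl
    rw [smul_sub, e1, ← map_nsmul, ht, sub_self]
  suffices hlift : ∃ (V : Z.Etale) (w : S.X₂.obj.obj (op V)), IsFinite V.hom ∧ Surjective V.hom ∧
      (S.g.hom.app (op V)).hom w = (S.X₃.obj.map (hT.from V).op).hom q by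
    obtain ⟨V, w, hVf, hVs, hw⟩ := hlift
    refine ⟨S, hS, Iso.refl G, z, V, w + (S.X₂.obj.map (hT.from V).op).hom t, hVf, hVs, ?_, ?_⟩
    · rw [Sheaf.H.map_apply]
      exact (Ext.comp_mk₀_id _).symm
    · rw [map_add, hw, NatTrans.naturality_apply, ← map_add, sub_add_cancel]
  clear_value q
  let N : AddCommGrpCat.{u + 1} := AddCommGrpCat.of (ULift.{u + 1} (ZMod n))
  let P := EtCoh.const Z (ZMod n)
  let zf : {f : ℤ →+ S.X₃.obj.obj (op (EtCoh.top Z)) // f n = 0} :=
    ⟨zmultiplesHom _ q, by simpa [natCast_zsmul] using hq⟩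
  let L : N ⟶ S.X₃.obj.obj (op (EtCoh.top Z)) := AddCommGrpCat.ofHom
    ((ZMod.lift n zf).comp
      (AddEquiv.ulift : ULift.{u + 1} (ZMod n) ≃+ ZMod n).toAddMonoidHom)
  let η : (Functor.const Z.Etaleᵒᵖ).obj N ⟶ S.X₃.obj :=
    { app := fun V => L ≫ S.X₃.obj.map (hT.from V.unop).op
      naturality := fun V V' f => by
        refine (Category.id_comp _).trans ?_
        rw [Category.assoc, ← Functor.map_comp]
        exact congrArg (fun r => L ≫ S.X₃.obj.map r) (Quiver.Hom.unop_inj (hT.hom_ext _ _)) }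
  let ψ : P ⟶ S.X₃ := ⟨sheafifyLift Z.smallEtaleTopology η S.X₃.property⟩
  let φ : N ⟶ P.obj.obj (op (EtCoh.top Z)) :=
    (toSheafify Z.smallEtaleTopology ((Functor.const Z.Etaleᵒᵖ).obj N)).app (op (EtCoh.top Z))
  let one : P.obj.obj (op (EtCoh.top Z)) := φ.hom ⟨1⟩
  have hψ : (ψ.hom.app (op (EtCoh.top Z))).hom one = q := by
    have h1 := ConcreteCategory.congr_hom (congrArg (fun r => NatTrans.app r (op (EtCoh.top Z)))
      (toSheafify_sheafifyLift Z.smallEtaleTopology η S.X₃.property)) (⟨1⟩ : ULift.{u + 1} (ZMod n))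
    refine h1.trans ?_
    show (S.X₃.obj.map (hT.from (EtCoh.top Z)).op).hom (L.hom ⟨1⟩) = q
    rw [hT.from_self, op_id, CategoryTheory.Functor.map_id]
    exact ((congrArg (ZMod.lift n zf) (Int.cast_one (R := ZMod n)).symm).trans (ZMod.lift_coe n zf 1)).trans (one_zsmul q)
  let E := pullback S.g ψ
  let T : ShortComplex (EtCoh.Ab Z) := ShortComplex.mk (pullback.lift (f := S.g) (g := ψ) S.f 0 (by rw [S.zero, zero_comp]))
    (pullback.snd S.g ψ) (pullback.lift_snd _ _ _)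
  haveI := hS.mono_f
  haveI := hS.epi_g
  haveI : Mono T.f := mono_of_mono_fac (pullback.lift_fst _ _ _ : T.f ≫ pullback.fst S.g ψ = S.f)
  have hk : ∀ {W : EtCoh.Ab Z} (k : W ⟶ E), k ≫ T.g = 0 → (k ≫ pullback.fst S.g ψ) ≫ S.g = 0 := fun k hk => by
    rw [Category.assoc, pullback.condition]
    exact ((Category.assoc _ _ _).symm.trans (congrArg (· ≫ ψ) hk)).trans zero_comp
  have hTe : T.ShortExact :=
    { exact := ShortComplex.exact_of_f_is_kernel _ (KernelFork.IsLimit.ofι' _ _ fun {W} k h =>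
        ⟨hS.exact.lift (k ≫ pullback.fst S.g ψ) (hk k h), by
          refine pullback.hom_ext ?_ ?_
          · exact (Category.assoc _ _ _).trans ((congrArg (_ ≫ ·) (pullback.lift_fst _ _ _)).trans (hS.exact.lift_f _ _))
          · exact (Category.assoc _ _ _).trans ((congrArg (_ ≫ ·) (pullback.lift_snd _ _ _)).trans (comp_zero.trans h.symm))⟩)
      epi_g := inferInstanceAs (Epi (pullback.snd S.g ψ)) }
  have hE : EtCoh.IsFiniteLocallyConstant E := (Agent.S6645.result Z).2.prop_X₂_of_shortExact hTe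
    hflc (isFiniteLocallyConstant_const (ZMod n))
  obtain ⟨U, σ, hU, hbij⟩ := FLCRep.exists_rep hE
  have hc := ConstVal.constBy_const Z N (EtCoh.top Z)
  let sP := ((pullback.snd S.g ψ).hom.app (op U)).hom σ
  let O : U.left.Opens := ⟨ConstVal.val hT hc sP ⁻¹' {⟨1⟩}, (ConstVal.val hT hc sP).isLocallyConstant.isOpen_fiber _⟩
  haveI : IsClosedImmersion O.ι := IsClosedImmersion.of_isPreimmersion _ (by
    rw [Scheme.Opens.range_ι]
    exact (ConstVal.val hT hc sP).isLocallyConstant.isClosed_fiber _)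
  haveI : Etale U.hom := U.prop
  haveI := hU
  let V : Z.Etale := Scheme.Etale.mk (O.ι ≫ U.hom)
  let j : V ⟶ U := MorphismProperty.Over.homMk O.ι rfl trivial
  have hres : ∀ {A : Z.Etale} (b : A ⟶ U), ((pullback.snd S.g ψ).hom.app (op A)).hom (E.obj.map b.op σ) = (P.obj.map b.op).hom sP :=
    fun b => NatTrans.naturality_apply (pullback.snd S.g ψ).hom b.op σ
  have hVs : Surjective V.hom := ⟨fun x => by
    haveI := hTe.epi_g
    haveI : Sheaf.IsLocallySurjective (pullback.snd S.g ψ) :=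
      (Sheaf.isLocallySurjective_iff_epi' AddCommGrpCat.{u + 1} _).2 inferInstance
    obtain ⟨A, g, a, ⟨t, ht⟩, ha⟩ := (mem_topology_iff _).1 (Presheaf.imageSieve_mem Z.smallEtaleTopology
      (pullback.snd S.g ψ).hom (U := op (EtCoh.top Z)) one) x
    obtain ⟨b, hb⟩ := (hbij A).2 t
    have hv : ConstVal.val hT hc sP (b.left a) = ⟨1⟩ := by
      rw [← ConstVal.val_map hT hc b sP a, ← hres]
      rw [show E.obj.map b.op σ = t from hb]
      refine (congrArg (fun r => ConstVal.val hT hc r a) ht).trans ?_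
      rw [ConstVal.val_map hT hc g one a]
      have h1 := ConstVal.val_φV hT hc (EtCoh.top Z) (⟨1⟩ : ULift.{u + 1} (ZMod n)) (g.left a)
      rwa [ConstVal.φV, hT.from_self, op_id, CategoryTheory.Functor.map_id] at h1
    refine ⟨(⟨b.left a, hv⟩ : O.toScheme), (?_ : U.hom (b.left a) = x)⟩
    refine (Scheme.Hom.comp_apply _ _ _).symm.trans ?_
    refine (congrArg (fun r : A.left ⟶ Z => r a) ((MorphismProperty.Over.w b).trans (MorphismProperty.Over.w g).symm)).trans ?_
    exact (Scheme.Hom.comp_apply _ _ _).trans ha⟩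
  refine ⟨V, ((pullback.fst S.g ψ).hom.app (op V)).hom (E.obj.map j.op σ),
    inferInstanceAs (IsFinite (O.ι ≫ U.hom)), hVs, ?_⟩
  have hone : ((pullback.snd S.g ψ).hom.app (op V)).hom (E.obj.map j.op σ) = (P.obj.map (hT.from V).op).hom one := by
    refine ConstVal.val_injective hT hc fun x => ?_
    rw [hres, ConstVal.val_map hT hc j sP x, ConstVal.val_map hT hc (hT.from V) one x]
    refine Eq.trans ((x : O.toScheme).2) ?_
    have h1 := ConstVal.val_φV hT hc (EtCoh.top Z) (⟨1⟩ : ULift.{u + 1} (ZMod n)) ((hT.from V).left x)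
    rw [ConstVal.φV, hT.from_self, op_id, CategoryTheory.Functor.map_id] at h1
    exact h1.symm
  refine (congrArg (fun r : E ⟶ S.X₃ => (r.hom.app (op V)).hom (E.obj.map j.op σ)) pullback.condition).trans ?_
  refine (congrArg (ψ.hom.app (op V)).hom hone).trans ?_
  rw [NatTrans.naturality_apply]
  exact congrArg (S.X₃.obj.map (hT.from V).op).hom hψ

/-- If surjective finite etale covers of `Z` have sections, first cohomology of finite constant sheaves vanishes. -/
theorem subsingleton_H1_const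
    (hsec : ∀ V : Z.Etale, IsFinite V.hom → Surjective V.hom → Nonempty (EtCoh.top Z ⟶ V))
    (M : Type) [AddCommGroup M] [Finite M] : Subsingleton (EtCoh.H Z (EtCoh.const Z M) 1) := by
  let hT := EtCore.topIsTerminal Z
  refine subsingleton_of_forall_eq 0 fun x => ?_
  obtain ⟨S, hS, φ, z, V, t, hVf, hVs, rfl, ht⟩ := exists_cover_lift (EtCoh.const Z M)
    (isFiniteLocallyConstant_const M) (Nat.card M) Nat.card_pos (nsmul_id_const_eq_zero M) x
  obtain ⟨s⟩ := hsec V hVf hVs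
  have hw : (S.g.hom.app (op (EtCoh.top Z))).hom ((S.X₂.obj.map s.op).hom t) = Sheaf.H.equiv₀ S.X₃ hT z := by
    rw [NatTrans.naturality_apply, ht, ← ConcreteCategory.comp_apply, ← Functor.map_comp, ← op_comp,
      hT.hom_ext (s ≫ hT.from V) (𝟙 _), op_id, CategoryTheory.Functor.map_id]
    rfl
  have hz : z = Sheaf.H.map S.g 0 ((Sheaf.H.equiv₀ S.X₂ hT).symm ((S.X₂.obj.map s.op).hom t)) := by
    rw [Sheaf.H.equiv₀_symm_naturality, hw, AddEquiv.symm_apply_apply]
  have h0 : z.comp hS.extClass (rfl : 0 + 1 = 1) = 0 := by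
    rw [hz, Sheaf.H.map_apply, Ext.comp_assoc_of_second_deg_zero]
    exact (congrArg (fun e => Ext.comp _ e rfl) hS.comp_extClass).trans (Ext.comp_zero _ _ _ _ _)
  rw [h0, map_zero]

variable {G : EtCoh.Ab Z}

theorem homEquiv_ext_one {A : EtCoh.Ab Z} {h h' : EtCoh.const Z ℤ ⟶ A}
    (e : (h.hom.app (op (EtCoh.top Z))).hom (((EtCore.constAdj Z).unit.app (AddCommGrpCat.of (ULift.{u + 1} ℤ))).hom ⟨1⟩) =
      (h'.hom.app (op (EtCoh.top Z))).hom (((EtCore.constAdj Z).unit.app (AddCommGrpCat.of (ULift.{u + 1} ℤ))).hom ⟨1⟩)) :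
    h = h' := by
  apply ((EtCore.constAdj Z).homEquiv _ _).injective
  rw [Adjunction.homEquiv_unit, Adjunction.homEquiv_unit]
  refine AddCommGrpCat.hom_ext (AddMonoidHom.ext fun ⟨k⟩ => ?_)
  rw [show (⟨k⟩ : ULift.{u + 1} ℤ) = k • (⟨1⟩ : ULift.{u + 1} ℤ) from ULift.ext _ _ (by simp), map_zsmul, map_zsmul]
  exact congrArg (k • ·) e

theorem exists_hom_one {A : EtCoh.Ab Z} (w : A.obj.obj (op (EtCoh.top Z))) :
    ∃ h : EtCoh.const Z ℤ ⟶ A,
      (h.hom.app (op (EtCoh.top Z))).hom (((EtCore.constAdj Z).unit.app (AddCommGrpCat.of (ULift.{u + 1} ℤ))).hom ⟨1⟩) = w := by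
  let g : AddCommGrpCat.of (ULift.{u + 1} ℤ) ⟶ (EtCore.gsec Z).obj A := AddCommGrpCat.ofHom
    ((zmultiplesHom _ w).comp (AddEquiv.ulift : ULift.{u + 1} ℤ ≃+ ℤ).toAddMonoidHom)
  refine ⟨((EtCore.constAdj Z).homEquiv _ _).symm g, ?_⟩
  have h1 := ((EtCore.constAdj Z).homEquiv _ _).apply_symm_apply g
  rw [Adjunction.homEquiv_unit] at h1
  exact (ConcreteCategory.congr_hom h1 (⟨1⟩ : ULift.{u + 1} ℤ)).trans (one_zsmul w)

/-- A class which lifts over an etale scheme `V` dies along any morphism lifting to `V`. -/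
theorem Hpull_eq_zero_of_lift {W : Scheme.{u}} (g : W ⟶ Z) [PreservesFiniteLimits (EtCoh.pull g)] {V : Z.Etale}
    (d : (EtCoh.bc g).obj (EtCoh.top Z) ⟶ (EtCoh.bc g).obj V) {S : ShortComplex (EtCoh.Ab Z)}
    (φ : S.X₁ ≅ G) (hS : S.ShortExact) (z : EtCoh.H Z S.X₃ 0) (t : S.X₂.obj.obj (op V))
    (ht : (S.g.hom.app (op V)).hom t =
      (S.X₃.obj.map ((EtCore.topIsTerminal Z).from V).op).hom (Sheaf.H.equiv₀ S.X₃ (EtCore.topIsTerminal Z) z)) :
    EtCore.Hpull g G 1 (Sheaf.H.map φ.hom 1 (z.comp hS.extClass (rfl : 0 + 1 = 1))) = 0 := by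
  let hT := EtCore.topIsTerminal Z
  haveI : PreservesFiniteColimits (EtCoh.pull g) :=
    haveI : (EtCoh.pull g).IsLeftAdjoint := (EtCoh.pullPushAdj g).isLeftAdjoint
    inferInstance
  haveI : (EtCoh.pull g).Additive := EtCore.pull_additive _
  let adj := EtCoh.pullPushAdj g
  obtain ⟨ζ, rfl⟩ := (Ext.mk₀_bijective (EtCoh.const Z ℤ) S.X₃).2 z
  let one := ((EtCore.constAdj Z).unit.app (AddCommGrpCat.of (ULift.{u + 1} ℤ))).hom ⟨1⟩
  have hz : Sheaf.H.equiv₀ S.X₃ hT (Ext.mk₀ ζ) = (ζ.hom.app (op (EtCoh.top Z))).hom one := by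
    show AddCommGrpCat.uliftZMultiplesAddEquiv _ ((constantSheafAdj Z.smallEtaleTopology AddCommGrpCat.{u + 1} hT).homAddEquiv _ _ (Ext.addEquiv₀ (Ext.mk₀ ζ))) = _
    rw [show Ext.addEquiv₀ (Ext.mk₀ ζ) = ζ from Ext.addEquiv₀.apply_symm_apply ζ]
    rfl
  rw [hz] at ht
  have hd : d ≫ (EtCoh.bc g).map (hT.from V) = 𝟙 _ :=
    (IsTerminal.isTerminalObj (EtCoh.bc g) (EtCoh.top Z) hT).hom_ext _ _
  let w := (((EtCoh.pull g).obj S.X₂).obj.map d.op).hom ((((adj.unit.app S.X₂)).hom.app (op V)).hom t)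
  obtain ⟨h₀, hh₀⟩ := exists_hom_one (A := (EtCoh.push g).obj ((EtCoh.pull g).obj S.X₂)) w
  let h := (adj.homEquiv _ _).symm h₀
  have key : h ≫ (EtCoh.pull g).map S.g = (EtCoh.pull g).map ζ := by
    apply (adj.homEquiv _ _).injective
    rw [Adjunction.homEquiv_naturality_right, Equiv.apply_symm_apply]
    refine homEquiv_ext_one ?_
    rw [Adjunction.homEquiv_unit,
      show adj.unit.app _ ≫ (EtCoh.push g).map ((EtCoh.pull g).map ζ) = ζ ≫ adj.unit.app S.X₃ from (adj.unit.naturality ζ).symm]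
    refine (congrArg ((((EtCoh.push g).map ((EtCoh.pull g).map S.g)).hom.app (op (EtCoh.top Z))).hom) hh₀).trans ?_
    show (((EtCoh.pull g).map S.g).hom.app (op ((EtCoh.bc g).obj (EtCoh.top Z)))).hom w =
      ((adj.unit.app S.X₃).hom.app (op (EtCoh.top Z))).hom ((ζ.hom.app (op (EtCoh.top Z))).hom one)
    rw [NatTrans.naturality_apply]
    have e1 : (((EtCoh.pull g).map S.g).hom.app (op ((EtCoh.bc g).obj V))).hom
        (((adj.unit.app S.X₂).hom.app (op V)).hom t) = ((adj.unit.app S.X₃).hom.app (op V)).hom ((S.g.hom.app (op V)).hom t) :=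
      (congrArg (fun r : S.X₂ ⟶ _ => (r.hom.app (op V)).hom t) (adj.unit.naturality S.g)).symm
    rw [e1, ht]
    have e2 : ((adj.unit.app S.X₃).hom.app (op V)).hom ((S.X₃.obj.map (hT.from V).op).hom ((ζ.hom.app (op (EtCoh.top Z))).hom one)) =
        (((EtCoh.pull g).obj S.X₃).obj.map ((EtCoh.bc g).map (hT.from V)).op).hom
          (((adj.unit.app S.X₃).hom.app (op (EtCoh.top Z))).hom ((ζ.hom.app (op (EtCoh.top Z))).hom one)) :=
      NatTrans.naturality_apply (adj.unit.app S.X₃).hom (hT.from V).op _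
    rw [e2, ← ConcreteCategory.comp_apply, ← Functor.map_comp, ← op_comp, hd, op_id, CategoryTheory.Functor.map_id]
    rfl
  rw [Sheaf.H.map_apply, EtMVLib.Hpull_apply, Ext.mapExactFunctor_comp, Ext.mapExactFunctor_comp,
    Ext.mapExactFunctor_mk₀, Ext.mapExactFunctor_extClass, Ext.mapExactFunctor_mk₀, ← key,
    ← Ext.mk₀_comp_mk₀, Ext.comp_assoc_of_second_deg_zero]
  have h0 : (Ext.mk₀ ((EtCoh.pull g).map S.g)).comp (hS.map_of_exact (EtCoh.pull g)).extClass (zero_add 1) = 0 :=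
    (hS.map_of_exact (EtCoh.pull g)).comp_extClass
  rw [h0, Ext.comp_zero, Ext.zero_comp, Ext.comp_zero]

end Groth.Agent.EtFound.FLCTorsor
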