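import Groth.Agent.EtFound.ConstVal

/-!
# When a constant sheaf is the direct image of its inverse image
-/

set_option autoImplicit false

universe u

open CategoryTheory CategoryTheory.Limits AlgebraicGeometry Opposite

namespace Groth.Agent.EtFound.ConstVal

set_option backward.isDefEq.respectTransparency false
set_option backward.isDefEq.respectTransparency.types false

variable {X Y : Scheme.{u}} (f : X ⟶ Y) [EtCoh.BCCont f]

theorem isIso_of_extend {G : EtCoh.Ab Y} {G' : EtCoh.Ab X} {M : AddCommGrpCat.{u + 1}}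
    {φ : M ⟶ G.obj.obj (op (EtCoh.top Y))} (hG : ConstBy G φ (U := EtCoh.top Y))
    (a : G ⟶ (EtCoh.push f).obj G')
    (hG' : ConstBy G' (φ ≫ a.hom.app (op (EtCoh.top Y))) (U := (EtCoh.bc f).obj (EtCoh.top Y)))
    (hne : ∀ V : Y.Etale, Nonempty V.left → Nonempty ((EtCoh.bc f).obj V).left)
    (hext : ∀ (V : Y.Etale) (v : V.left), ∃ (W : Y.Etale) (g : W ⟶ V) (w : W.left), g.left w = v ∧
      ∀ F : LocallyConstant ((EtCoh.bc f).obj W).left M, ∃ F' : LocallyConstant W.left M,
        ∀ p, F p = F' ((pullback.fst W.hom f : ((EtCoh.bc f).obj W).left ⟶ W.left) p)) :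
    IsIso a := by
  let hT := EtCore.topIsTerminal Y
  let hT' : IsTerminal ((EtCoh.bc f).obj (EtCoh.top Y)) := IsTerminal.isTerminalObj (EtCoh.bc f) _ hT
  have hnat : ∀ (V : Y.Etale) (m : M), (a.hom.app (op V)).hom (φV hT φ V m) =
      φV hT' (φ ≫ a.hom.app (op (EtCoh.top Y))) ((EtCoh.bc f).obj V) m := fun V m => by
    refine (NatTrans.naturality_apply a.hom (hT.from V).op (φ.hom m)).trans ?_
    show (G'.obj.map ((EtCoh.bc f).map (hT.from V)).op).hom ((a.hom.app (op (EtCoh.top Y))).hom (φ.hom m)) = _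
    rw [hT'.hom_ext ((EtCoh.bc f).map (hT.from V)) (hT'.from _)]
    rfl
  have hinj : ∀ V : Y.Etale, Function.Injective (a.hom.app (op V)).hom := fun V s t e => by
    refine val_injective hT hG fun x => ?_
    obtain ⟨m, W, g, w, hw, hm⟩ := exists_value hT hG s x
    obtain ⟨n, W', g', w', hw', hn⟩ := exists_value hT hG t x
    obtain ⟨q, hq, -⟩ := Scheme.Pullback.exists_preimage_pullback (f := g.left) (g := g'.left) w w' (hw.trans hw'.symm)
    haveI : Etale W.hom := W.prop
    let P : Y.Etale := Scheme.Etale.mk (pullback.fst g.left g'.left ≫ W.hom)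
    let p₁ : P ⟶ W := MorphismProperty.Over.homMk (pullback.fst g.left g'.left) rfl trivial
    let p₂ : P ⟶ W' := MorphismProperty.Over.homMk (pullback.snd g.left g'.left) (by
      show pullback.snd g.left g'.left ≫ W'.hom = pullback.fst g.left g'.left ≫ W.hom
      rw [← MorphismProperty.Over.w g, ← MorphismProperty.Over.w g', pullback.condition_assoc]) trivial
    have hp : p₁ ≫ g = p₂ ≫ g' := MorphismProperty.Over.Hom.ext pullback.condition
    have e1 : (G.obj.map (p₁ ≫ g).op).hom s = φV hT φ P m := by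
      rw [op_comp, Functor.map_comp]
      exact (congrArg (G.obj.map p₁.op).hom hm).trans (map_φV hT φ p₁ m)
    have e2 : (G.obj.map (p₁ ≫ g).op).hom t = φV hT φ P n := by
      rw [hp, op_comp, Functor.map_comp]
      exact (congrArg (G.obj.map p₂.op).hom hn).trans (map_φV hT φ p₂ n)
    haveI := hne P ⟨q⟩
    have hmn : m = n := φV_injective hT' hG' ((EtCoh.bc f).obj P) <| by
      rw [← hnat, ← hnat, ← e1, ← e2]
      exact (NatTrans.naturality_apply a.hom (p₁ ≫ g).op s).trans
        ((congrArg (((EtCoh.push f).obj G').obj.map (p₁ ≫ g).op).hom e).trans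
          (NatTrans.naturality_apply a.hom (p₁ ≫ g).op t).symm)
    rw [← hw, val_eq hT hG g w hm, hw, ← hw', val_eq hT hG g' w' hn, hmn]
  haveI : Sheaf.IsLocallyInjective a := ⟨fun {V} s t e => by
    rw [hinj V.unop e, Presheaf.equalizerSieve_self_eq_top]
    exact Y.smallEtaleTopology.top_mem _⟩
  haveI : Sheaf.IsLocallySurjective a := ⟨fun {V} b => by
    refine (EtFound.mem_topology_iff _).2 fun v => ?_
    obtain ⟨W, g, w, hw, hW⟩ := hext V v
    obtain ⟨F', hF'⟩ := hW (val hT' hG' ((((EtCoh.push f).obj G').obj.map g.op).hom b))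
    let O : W.left.Opens := ⟨F' ⁻¹' {F' w}, F'.isLocallyConstant.isOpen_fiber _⟩
    haveI : Etale W.hom := W.prop
    let W' : Y.Etale := Scheme.Etale.mk (O.ι ≫ W.hom)
    let i : W' ⟶ W := MorphismProperty.Over.homMk O.ι rfl trivial
    refine ⟨W', i ≫ g, (⟨w, rfl⟩ : O.toScheme), ⟨φV hT φ W' (F' w), ?_⟩, hw⟩
    refine (hnat W' (F' w)).trans (val_injective hT' hG' fun p => ?_)
    rw [val_φV]
    have h1 : (((EtCoh.push f).obj G').obj.map (i ≫ g).op).hom b =
        (G'.obj.map ((EtCoh.bc f).map i).op).hom ((((EtCoh.push f).obj G').obj.map g.op).hom b) := by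
      rw [op_comp, Functor.map_comp]
      rfl
    refine Eq.trans ?_ (congrArg (fun t => val hT' hG' t p) h1).symm
    rw [val_map]
    refine Eq.trans ?_ (hF' _).symm
    have hc : (pullback.fst W.hom f : ((EtCoh.bc f).obj W).left ⟶ W.left) (((EtCoh.bc f).map i).left p) =
        O.ι ((pullback.fst W'.hom f : ((EtCoh.bc f).obj W').left ⟶ W'.left) p) := by
      refine (Scheme.Hom.comp_apply _ _ _).symm.trans (Eq.trans ?_ (Scheme.Hom.comp_apply _ _ _))
      exact congrArg (fun t : ((EtCoh.bc f).obj W').left ⟶ W.left => t p) (pullback.lift_fst _ _ _)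
    rw [hc]
    exact ((pullback.fst W'.hom f : ((EtCoh.bc f).obj W').left ⟶ W'.left) p).2.symm⟩
  exact (Sheaf.isLocallyBijective_iff_isIso a).1 ⟨inferInstance, inferInstance⟩

/-- The constant sheaf is the direct image of its inverse image when locally constant functions extend. -/
theorem isIso_unit_const (M : Type) [AddCommGroup M]
    (hne : ∀ V : Y.Etale, Nonempty V.left → Nonempty ((EtCoh.bc f).obj V).left)
    (hext : ∀ (V : Y.Etale) (v : V.left), ∃ (W : Y.Etale) (g : W ⟶ V) (w : W.left), g.left w = v ∧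
      ∀ (M' : Type (u + 1)) (F : LocallyConstant ((EtCoh.bc f).obj W).left M'), ∃ F' : LocallyConstant W.left M',
        ∀ p, F p = F' ((pullback.fst W.hom f : ((EtCoh.bc f).obj W).left ⟶ W.left) p)) :
    IsIso ((EtCoh.pullPushAdj f).unit.app (EtCoh.const Y M)) := by
  have h := constBy_const Y (AddCommGrpCat.of (ULift.{u + 1} M)) (EtCoh.top Y)
  refine isIso_of_extend f h ((EtCoh.pullPushAdj f).unit.app (EtCoh.const Y M)) (constBy_pull f h) hne fun V v => ?_
  obtain ⟨W, g, w, hw, hW⟩ := hext V v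
  exact ⟨W, g, w, hw, hW _⟩

end Groth.Agent.EtFound.ConstVal
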