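import Groth.Agent.EtFound.ConstFlasque
import Groth.Agent.EtFound.JContGen
import Groth.Agent.TateLocal.Restrict
import Groth.Agent.BigSiteLib.EtZarCmp
import Groth.Agent.EtLC12.EtZarCompare
import Groth.Agent.SitePullUnit.DerivedClass
import Groth.Agent.AlgSpDec.EtStalkProps

/-!
# Direct images of constant sheaves from schemes whose local rings are strictly henselian
-/

set_option autoImplicit false

universe u

open CategoryTheory CategoryTheory.Limits AlgebraicGeometry Opposite TopologicalSpace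

namespace Groth.Agent.EtFound.ConstRpush

set_option backward.isDefEq.respectTransparency false
set_option backward.isDefEq.respectTransparency.types false

variable {X : Scheme.{u}} (hS : ∀ s : X, EtCoh.IsStrictlyHenselianLocalRing (X.presheaf.stalk s))

include hS in
theorem exists_section_through {V : Scheme.{u}} (g : V ⟶ X) [Etale g] (v : V) :
    ∃ (W : X.Opens) (σ : W.toScheme ⟶ V), IsOpenImmersion σ ∧ v ∈ Set.range σ ∧ σ ≫ g = W.ι := by
  let A := X.presheaf.stalk (g v)
  obtain ⟨x, hx, hx'⟩ := Scheme.Pullback.exists_preimage_pullback (f := g) (g := X.fromSpecStalk (g v)) v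
    (IsLocalRing.closedPoint A) X.fromSpecStalk_closedPoint.symm
  obtain ⟨w, hw, hwx⟩ := (Hensel.strictlyHenselian_iff_exists_section A).1
    (by obtain ⟨h1, h2⟩ := hS (g v); exact ⟨h1, h2⟩) _ (pullback.snd g (X.fromSpecStalk (g v))) inferInstance x hx'
  obtain ⟨W, hW, σ, hσ', hσ⟩ := MorLib.SFP.spread_out (𝟙 X) g (w ≫ pullback.fst g (X.fromSpecStalk (g v))) (by
    rw [Category.assoc, pullback.condition, ← Category.assoc, hw, Category.comp_id]
    exact Category.id_comp _)
  replace hσ : σ ≫ g = W.ι := hσ.trans (Category.comp_id _)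
  haveI : Etale (σ ≫ g) := by rw [hσ]; infer_instance
  haveI : Etale σ := Etale.of_comp σ g
  haveI : Mono σ := mono_of_mono_fac hσ
  refine ⟨W, σ, IsOpenImmersion.of_flat_of_mono σ, ⟨W.fromSpecStalkOfMem (g v) hW (IsLocalRing.closedPoint A), ?_⟩, hσ⟩
  refine ((Scheme.Hom.comp_apply _ _ _).symm.trans ?_)
  refine (congrArg (fun k : Spec A ⟶ V => k (IsLocalRing.closedPoint A)) hσ'.symm).trans ?_
  exact (Scheme.Hom.comp_apply _ _ _).trans ((congrArg (pullback.fst g (X.fromSpecStalk (g v))) hwx).trans hx)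

include hS in
theorem strictlyHenselian_stalk {V : Scheme.{u}} (g : V ⟶ X) [Etale g] (v : V) :
    EtCoh.IsStrictlyHenselianLocalRing (V.presheaf.stalk v) := by
  obtain ⟨W, σ, hσ, ⟨w, rfl⟩, -⟩ := exists_section_through hS g v
  haveI := hσ
  obtain ⟨h1, h2⟩ := hS w.1
  haveI := h1
  haveI := h2
  exact (AlgSpDec.EtStalkProps.isStrictlyHenselian_of_ringEquiv
    ((asIso (σ.stalkMap w)).commRingCatIsoToRingEquiv.trans (W.stalkIso w).commRingCatIsoToRingEquiv).symm).2

include hS in
theorem exists_preirreducible_nhd [IrreducibleSpace X] {V : Scheme.{u}} (g : V ⟶ X) [Etale g] (v : V) :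
    ∃ N : Set V, IsOpen N ∧ v ∈ N ∧ IsPreirreducible N := by
  obtain ⟨W, σ, hσ, hv, -⟩ := exists_section_through hS g v
  haveI := hσ
  refine ⟨Set.range σ, σ.isOpenEmbedding.isOpen_range, hv, ?_⟩
  haveI : PreirreducibleSpace W := Subtype.preirreducibleSpace
    ((PreirreducibleSpace.isPreirreducible_univ (X := X)).open_subset W.2 (Set.subset_univ _))
  rw [← Set.image_univ]
  exact (PreirreducibleSpace.isPreirreducible_univ (X := W)).image σ σ.continuous.continuousOn

/-- Points with preirreducible open neighbourhoods: the maximal irreducible sets form a clopen partition. -/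
theorem exists_partition {T : Type u} [TopologicalSpace T] (h : ∀ x : T, ∃ N : Set T, IsOpen N ∧ x ∈ N ∧ IsPreirreducible N) :
    ∃ C : T → Opens T, (∀ x, x ∈ C x) ∧ (∀ x y, y ∈ C x → C y = C x) ∧ ∀ x, IsPreirreducible (C x : Set T) := by
  choose N hN hxN hirr using h
  have key : ∀ x (Z : Set T), IsPreirreducible Z → x ∈ Z → Z ⊆ closure (N x) := fun x Z hZ hx z hz =>
    (mem_closure_iff.2 fun O hO hzO => by
      obtain ⟨t, -, h1, h2⟩ := hZ _ _ hO (hN x) ⟨z, hz, hzO⟩ ⟨x, hx, hxN x⟩
      exact ⟨t, h1, h2⟩)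
  have heq : ∀ x y, y ∈ closure (N x) → closure (N y) = closure (N x) := fun x y hy => by
    have h1 : closure (N x) ⊆ closure (N y) := key y _ (hirr x).closure hy
    exact (key x _ (hirr y).closure (h1 (subset_closure (hxN x)))).antisymm h1
  refine ⟨fun x => ⟨closure (N x), isOpen_iff_forall_mem_open.2 fun y hy =>
      ⟨N y, subset_closure.trans (heq x y hy).subset, hN y, hxN y⟩⟩,
    fun x => subset_closure (hxN x), fun x y hy => Opens.ext (heq x y hy), fun x => (hirr x).closure⟩

section Flq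

variable {U : Scheme.{u}} (g : U ⟶ X) [Etale g] [EtShriek.JCont g] [EtZar.ZarCont U]

/-- Restriction to the Zariski site of an étale scheme. -/
noncomputable abbrev resAt : EtCoh.Ab X ⥤ EtZar.Ab U :=
  EtShriek.restrAlong g ⋙ EtZar.resZar U

theorem flq_resAt_injective (I : EtCoh.Ab X) [Injective I] : Adeq2Lib.ZarFl.Flq ((resAt g).obj I) := fun V O h => by
  let m := (EtShriek.compEtale g).map ((EtZar.zarToEt U).map (homOfLE h))
  haveI : Mono m := (MorphismProperty.Over.forget EtCoh.etaleMP.{u} ⊤ X ⋙ Over.forget X).mono_of_mono_map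
    (inferInstanceAs (Mono (U.homOfLE h)))
  haveI : Injective I.obj := Injective.injective_of_adjoint (sheafificationAdjunction _ _) I
  exact EtLC12.EtZarCompare.surjective_map_of_mono I.obj m

include hS in
theorem preservesFiniteColimits_resAt :
    PreservesFiniteLimits (resAt g) ∧ PreservesFiniteColimits (resAt g) := by
  haveI := BigSiteLib.cocont_zarToEt (S := U) (strictlyHenselian_stalk hS g)
  haveI := TateLocal.isCocontinuous_compEtale g
  haveI : (EtZar.resZar U).IsLeftAdjoint :=
    ((EtZar.zarToEt U).sheafAdjunctionCocontinuous AddCommGrpCat.{u + 1} _ _).isLeftAdjoint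
  haveI : (EtZar.resZar U).IsRightAdjoint :=
    ((EtZar.zarToEt U).sheafAdjunctionContinuous AddCommGrpCat.{u + 1} (Opens.grothendieckTopology U) U.smallEtaleTopology).isRightAdjoint
  haveI : (EtShriek.restrAlong g).IsLeftAdjoint :=
    ((EtShriek.compEtale g).sheafAdjunctionCocontinuous AddCommGrpCat.{u + 1} _ _).isLeftAdjoint
  haveI : (EtShriek.restrAlong g).IsRightAdjoint := (EtShriek.extZeroAdj g).isRightAdjoint
  exact ⟨comp_preservesFiniteLimits _ _, comp_preservesFiniteColimits _ _⟩

include hS in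
theorem flq_resAt_const [IrreducibleSpace X] (M : Type) [AddCommGroup M] :
    Adeq2Lib.ZarFl.Flq ((resAt g).obj (EtCoh.const X M)) := fun A B h s => by
  classical
  let hT := EtCore.topIsTerminal X
  have hc := ConstVal.constBy_const X (AddCommGrpCat.of (ULift.{u + 1} M)) (EtCoh.top X)
  let G := (resAt g).obj (EtCoh.const X M)
  let et (O : U.Opens) : X.Etale := (EtShriek.compEtale g).obj ((EtZar.zarToEt U).obj O)
  obtain ⟨C, hxC, heq, hirr⟩ := exists_partition (exists_preirreducible_nhd hS g)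
  have hsec : ∀ x : U, ∃ t : G.obj.obj (op (B ⊓ C x)),
      Adeq2Lib.ZarFl.rz G (inf_le_inf_right (C x) h) t = Adeq2Lib.ZarFl.rz G (inf_le_left : A ⊓ C x ≤ A) s := fun x => by
    by_cases he : Nonempty (et (A ⊓ C x)).left
    · haveI := he
      haveI : PreconnectedSpace (et (A ⊓ C x)).left := Subtype.preconnectedSpace
        (((hirr x).open_subset (A ⊓ C x).2 (inf_le_right : A ⊓ C x ≤ C x)).isPreconnected)
      obtain ⟨m, hm⟩ := ConstVal.exists_eq_φV hT hc (V := et (A ⊓ C x)) (Adeq2Lib.ZarFl.rz G (inf_le_left : A ⊓ C x ≤ A) s)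
      exact ⟨ConstVal.φV hT _ (et (B ⊓ C x)) m, (ConstVal.map_φV hT _
        ((EtShriek.compEtale g).map ((EtZar.zarToEt U).map (homOfLE (inf_le_inf_right (C x) h)))) m).trans hm⟩
    · exact ⟨0, ConstVal.val_injective hT hc (V := et (A ⊓ C x)) fun y => absurd ⟨y⟩ he⟩
  choose t ht using hsec
  -- choose the section only through the class
  let I := Set.range C
  let r : I → U := fun c => c.2.choose
  have hr : ∀ c : I, C (r c) = c.1 := fun c => c.2.choose_spec
  obtain ⟨z, hz⟩ := Adeq2Lib.ZarFl.glueZ G (U := B) (fun c : I => B ⊓ C (r c)) (fun _ => inf_le_left)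
    (fun x hx => ⟨⟨C x, x, rfl⟩, hx, by rw [hr]; exact hxC x⟩) (fun c => t (r c)) fun i j W p q => by
      by_cases hij : i = j
      · subst hij; rfl
      · refine ConstVal.val_injective hT hc (V := et W) fun y => ?_
        refine absurd (Subtype.ext ?_) hij
        have h1 : (y : W.toScheme).1 ∈ C (r i) := (p y.2).2
        have h2 : (y : W.toScheme).1 ∈ C (r j) := (q y.2).2
        rw [← hr i, ← hr j, ← heq _ _ h1, ← heq _ _ h2]
  refine ⟨z, Adeq2Lib.ZarFl.eq_of_coverZ G (fun c : I => A ⊓ C (r c)) (fun _ => inf_le_left)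
    (fun x hx => ⟨⟨C x, x, rfl⟩, hx, by rw [hr]; exact hxC x⟩) _ _ fun c => ?_⟩
  rw [← ht (r c), Adeq2Lib.ZarFl.rz_comp, ← hz c, Adeq2Lib.ZarFl.rz_comp]

end Flq

/-- Structure maps in the small etale site are etale. -/
theorem etale_hom (U : X.Etale) : Etale U.hom := U.prop

attribute [local instance] etale_hom jCont

include hS in
/-- Higher direct images of constant sheaves vanish on irreducible schemes with strictly henselian local rings. -/
theorem isZero_Rpush_const [IrreducibleSpace X] {Y : Scheme.{u}} (f : X ⟶ Y) [EtCoh.BCCont f] (M : Type) [AddCommGroup M] (q : ℕ) :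
    IsZero ((EtCoh.Rpush f (q + 1)).obj (EtCoh.const X M)) := by
  haveI hz : ∀ Z : Scheme.{u}, EtZar.ZarCont Z := EtLC12.EtZarCompare.zarCont
  haveI : (EtCoh.push f).IsRightAdjoint := (EtCoh.pullPushAdj f).isRightAdjoint
  let P : EtCoh.Ab X → Prop := fun G => ∀ U : X.Etale, Adeq2Lib.ZarFl.Flq ((resAt U.hom).obj G)
  have hse : ∀ (S : ShortComplex (EtCoh.Ab X)), S.ShortExact → ∀ U : X.Etale,
      (S.map (resAt U.hom)).ShortExact := fun S hS' U => by
    obtain ⟨h1, h2⟩ := preservesFiniteColimits_resAt hS U.hom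
    haveI := h1
    haveI := h2
    exact hS'.map_of_exact (resAt U.hom)
  refine SitePullUnit.isZero_rightDerived_of_class (EtCoh.push f) P
    (fun S hS' h1 hI U => ?_) (fun S hS' h1 _ => ?_) (fun U => ?_) q
  · haveI := hI
    exact Adeq2Lib.ZarFl.flq_cokernel _ (hse S hS' U) (h1 U) (flq_resAt_injective U.hom S.X₂)
  · refine (Sheaf.isLocallySurjective_iff_epi' AddCommGrpCat.{u + 1} _).1 ⟨fun {V} s => ?_⟩
    let U := (EtCoh.bc f).obj V
    haveI : Etale U.hom := U.prop
    let i : (EtShriek.compEtale U.hom).obj ((EtZar.zarToEt U.left).obj ⊤) ≅ U :=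
      MorphismProperty.Over.isoMk U.left.topIso rfl
    obtain ⟨t, ht⟩ := Adeq2Lib.ZarFl.surjective_of_flq _ (hse S hS' U) (h1 U) ⊤ ((S.X₃.obj.map i.hom.op).hom s)
    refine (mem_topology_iff _).2 fun v => ⟨V, 𝟙 V, v, ⟨(S.X₂.obj.map i.inv.op).hom t, ?_⟩, rfl⟩
    refine ((NatTrans.naturality_apply S.g.hom i.inv.op t).trans (congrArg (S.X₃.obj.map i.inv.op).hom ht)).trans ?_
    show (S.X₃.obj.map i.inv.op).hom ((S.X₃.obj.map i.hom.op).hom s) = (S.X₃.obj.map ((EtCoh.bc f).map (𝟙 V)).op).hom s
    rw [CategoryTheory.Functor.map_id, op_id, CategoryTheory.Functor.map_id]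
    refine (ConcreteCategory.congr_hom (S.X₃.obj.map_comp i.hom.op i.inv.op).symm s).trans ?_
    rw [← op_comp, Iso.inv_hom_id, op_id, CategoryTheory.Functor.map_id]
  · exact flq_resAt_const hS U.hom M

end Groth.Agent.EtFound.ConstRpush
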