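import Groth.Agent.EtFound.ConstRpush
import Groth.Agent.S0090
import Groth.Agent.Hensel.LiftEtaleAlg
import Mathlib.AlgebraicGeometry.Limits

/-!
# Separated etale schemes over schemes with strictly henselian local rings split
-/

set_option autoImplicit false

universe u

open CategoryTheory CategoryTheory.Limits AlgebraicGeometry TopologicalSpace

namespace Groth.Agent.EtFound.SplitSep

open ConstRpush

variable {X : Scheme.{u}} (hS : ∀ s : X, EtCoh.IsStrictlyHenselianLocalRing (X.presheaf.stalk s))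

include hS in
theorem isOpenImmersion_of_preirreducible [IrreducibleSpace X] [IsReduced X] {V : Scheme.{u}} (g : V ⟶ X)
    [Etale g] [IsSeparated g] (C : V.Opens) (hC : IsPreirreducible (C : Set V)) : IsOpenImmersion (C.ι ≫ g) := by
  refine IsOpenImmersion.of_forall_source_exists _ (fun c₁ c₂ hc => ?_) fun c => ?_
  · obtain ⟨W₁, σ₁, h₁, ⟨w₁, hw₁⟩, e₁⟩ := exists_section_through hS g (C.ι c₁)
    obtain ⟨W₂, σ₂, h₂, ⟨w₂, hw₂⟩, e₂⟩ := exists_section_through hS g (C.ι c₂)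
    haveI := h₁
    haveI := h₂
    let W := W₁ ⊓ W₂
    let τ₁ : W.toScheme ⟶ V := X.homOfLE inf_le_left ≫ σ₁
    let τ₂ : W.toScheme ⟶ V := X.homOfLE inf_le_right ≫ σ₂
    have f₁ : τ₁ ≫ g = W.ι := by simp [τ₁, e₁, W]
    have f₂ : τ₂ ≫ g = W.ι := by simp [τ₂, e₂, W]
    have hx₁ : W₁.ι w₁ = g (C.ι c₁) := by rw [← hw₁, ← e₁]; rfl
    have hx₂ : W₂.ι w₂ = g (C.ι c₁) :=
      ((show W₂.ι w₂ = g (C.ι c₂) by rw [← hw₂, ← e₂]; rfl).trans hc.symm)
    let w : W.toScheme := ⟨g (C.ι c₁), hx₁ ▸ w₁.2, hx₂ ▸ w₂.2⟩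
    have ht₁ : τ₁ w = C.ι c₁ := by
      refine (Scheme.Hom.comp_apply _ _ w).trans ((congrArg σ₁ ?_).trans hw₁)
      exact Subtype.ext ((Scheme.homOfLE_apply _ _).trans hx₁.symm)
    have ht₂ : τ₂ w = C.ι c₂ := by
      refine (Scheme.Hom.comp_apply _ _ w).trans ((congrArg σ₂ ?_).trans hw₂)
      exact Subtype.ext ((Scheme.homOfLE_apply _ _).trans hx₂.symm)
    haveI : IsOpenImmersion τ₁ := inferInstance
    haveI : IsOpenImmersion τ₂ := inferInstance
    obtain ⟨t, htC, ⟨a, rfl⟩, htr⟩ := hC _ _ τ₁.isOpenEmbedding.isOpen_range τ₂.isOpenEmbedding.isOpen_range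
      ⟨τ₁ w, ht₁ ▸ c₁.2, w, rfl⟩ ⟨τ₂ w, ht₂ ▸ c₂.2, w, rfl⟩
    let W' : W.toScheme.Opens := τ₁ ⁻¹ᵁ τ₂.opensRange
    have hsub : Set.range (W'.ι ≫ τ₁) ⊆ Set.range τ₂ := by
      rintro _ ⟨y, rfl⟩
      exact y.2
    let l := IsOpenImmersion.lift τ₂ (W'.ι ≫ τ₁) hsub
    have hl : l ≫ τ₂ = W'.ι ≫ τ₁ := IsOpenImmersion.lift_fac _ _ _
    have hl' : l = W'.ι := by
      rw [← cancel_mono W.ι]
      calc l ≫ W.ι = (l ≫ τ₂) ≫ g := by rw [Category.assoc, f₂]
        _ = W'.ι ≫ W.ι := by rw [hl, Category.assoc, f₁]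
    haveI : IrreducibleSpace W.toScheme :=
      { toPreirreducibleSpace := Subtype.preirreducibleSpace
          ((PreirreducibleSpace.isPreirreducible_univ (X := X)).open_subset W.2 (Set.subset_univ _))
        toNonempty := ⟨w⟩ }
    haveI : IsDominant W'.ι := ⟨by
      rw [DenseRange, Scheme.Opens.range_ι]
      exact W'.2.dense ⟨a, htr⟩⟩
    have he : τ₁ = τ₂ := ext_of_isDominant_of_isSeparated g (f₁.trans f₂.symm) W'.ι
      (hl.symm.trans (congrArg (· ≫ τ₂) hl'))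
    exact C.ι.isOpenEmbedding.injective (ht₁.symm.trans ((congrArg (fun k : W.toScheme ⟶ V => k w) he).trans ht₂))
  · obtain ⟨W, σ, h, hv, e⟩ := exists_section_through hS g (C.ι c)
    haveI := h
    let O : V.Opens := C ⊓ σ.opensRange
    refine ⟨O.toScheme, V.homOfLE inf_le_left, inferInstance, ⟨⟨c.1, c.2, hv⟩, Subtype.ext (Scheme.homOfLE_apply _ _)⟩, ?_⟩
    have hO : σ.opensRange.ι ≫ g = σ.isoOpensRange.inv ≫ W.ι := by
      rw [← e, ← Category.assoc, Scheme.Hom.isoOpensRange_inv_comp]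
    rw [← Category.assoc, Scheme.homOfLE_ι, ← Scheme.homOfLE_ι V (inf_le_right : O ≤ σ.opensRange), Category.assoc, hO]
    infer_instance

include hS in
theorem exists_decomposition [IrreducibleSpace X] [IsReduced X] {V : Scheme.{u}} (g : V ⟶ X)
    [Etale g] [IsSeparated g] [CompactSpace V] :
    ∃ (ι : Type u) (_ : Finite ι) (C : ι → V.Opens), (⨆ k, C k) = ⊤ ∧
      Pairwise (fun a b => Disjoint (C a) (C b)) ∧ ∀ k, IsOpenImmersion ((C k).ι ≫ g) := by
  obtain ⟨C, hxC, heq, hirr⟩ := exists_partition (exists_preirreducible_nhd hS g)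
  obtain ⟨t, ht⟩ := isCompact_univ.elim_finite_subcover (fun x => (C x : Set V)) (fun x => (C x).2)
    (fun x _ => Set.mem_iUnion.2 ⟨x, hxC x⟩)
  refine ⟨↥(Set.range fun x : {x // x ∈ t} => C x.1), inferInstance, fun k => k.1, eq_top_iff.2 fun x _ => ?_,
    fun a b hab => ?_, ?_⟩
  · obtain ⟨y, hy, hx⟩ := Set.mem_iUnion₂.1 (ht (Set.mem_univ x))
    exact Opens.mem_iSup.2 ⟨⟨C y, ⟨y, hy⟩, rfl⟩, hx⟩
  · obtain ⟨_, x, rfl⟩ := a
    obtain ⟨_, y, rfl⟩ := b
    rw [disjoint_iff, eq_bot_iff]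
    intro z hz
    exact (hab (Subtype.ext ((heq _ _ hz.1).symm.trans (heq _ _ hz.2)))).elim
  · rintro ⟨_, x, rfl⟩
    exact isOpenImmersion_of_preirreducible hS g _ (hirr _)

theorem exists_lift {Z : Scheme.{u}} [IsAffine X] (i : Z ⟶ X) [IsClosedImmersion i] {V : Scheme.{u}} [IsAffine V]
    (φ : V ⟶ Z) [Etale φ] :
    ∃ (U : Scheme.{u}) (g : U ⟶ X) (h : V ⟶ U), IsAffine U ∧ Etale g ∧ IsPullback h φ g i := by
  haveI : IsAffine Z := isAffine_of_isAffineHom i
  let A := Γ(X, ⊤)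
  let T := Γ(Z, ⊤)
  let C := Γ(V, ⊤)
  letI : Algebra A T := i.appTop.hom.toAlgebra
  letI : Algebra T C := φ.appTop.hom.toAlgebra
  have hT : Function.Surjective (algebraMap A T) := (IsClosedImmersion.isAffine_surjective_of_isAffine i).2
  haveI : Algebra.Etale T C := RingHom.etale_algebraMap.mp ((HasRingHomProperty.iff_of_isAffine (P := @Etale)).1 ‹Etale φ›)
  obtain ⟨B, _, _, hB, ⟨e⟩⟩ := Hensel.exists_etale_algebra_lift (A := A) (T := T) (C := C) hT
  let g : Spec (CommRingCat.of B) ⟶ X := Spec.map (CommRingCat.ofHom (algebraMap A B)) ≫ X.isoSpec.inv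
  haveI : Etale (Spec.map (CommRingCat.ofHom (algebraMap A B))) := by
    rw [HasRingHomProperty.Spec_iff (P := @Etale)]
    exact RingHom.etale_algebraMap.mpr hB
  let κ : CommRingCat.of B ⟶ C :=
    CommRingCat.ofHom ((e.toRingEquiv.toRingHom).comp (Algebra.TensorProduct.includeRight : B →ₐ[A] TensorProduct A T B).toRingHom)
  refine ⟨Spec (CommRingCat.of B), g, V.isoSpec.hom ≫ Spec.map κ, inferInstance, inferInstance, ?_⟩
  have sq := ((CommRingCat.isPushout_tensorProduct A T B).flip.of_iso (Iso.refl _) (Iso.refl _) (Iso.refl _)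
    e.toRingEquiv.toCommRingCatIso (f' := CommRingCat.ofHom (algebraMap A B)) (g' := i.appTop)
    (inl' := κ) (inr' := φ.appTop) (by simp) (by ext a; rfl) (by ext a; rfl) (by
      ext a
      exact e.commutes a)).op.flip.map Scheme.Spec
  refine sq.of_iso V.isoSpec.symm (Iso.refl _) Z.isoSpec.symm X.isoSpec.symm ?_ ?_ ?_ ?_
  · simp
  · exact Scheme.isoSpec_inv_naturality φ
  · simp [g]
  · exact Scheme.isoSpec_inv_naturality i

include hS in
/-- Affine etale schemes over closed subschemes of the affine base split into open subschemes. -/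
theorem exists_split_closed [IrreducibleSpace X] [IsReduced X] [IsAffine X] {Z : Scheme.{u}} (i : Z ⟶ X)
    [IsClosedImmersion i] {V : Scheme.{u}} [IsAffine V] (φ : V ⟶ Z) [Etale φ] :
    ∃ (ι : Type u) (_ : Finite ι) (C : ι → V.Opens), (⨆ k, C k) = ⊤ ∧
      Pairwise (fun a b => Disjoint (C a) (C b)) ∧ ∀ k, IsOpenImmersion ((C k).ι ≫ φ) := by
  obtain ⟨U, g, h, hU, hg, sq⟩ := exists_lift i φ
  haveI := hU
  haveI := hg
  obtain ⟨ι, hι, D, hcov, hdisj, hD⟩ := exists_decomposition hS g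
  refine ⟨ι, hι, fun k => h ⁻¹ᵁ D k, ?_, fun a b hab => ?_, fun k => ?_⟩
  · rw [← Scheme.Hom.preimage_iSup, hcov, Scheme.Hom.preimage_top]
  · show Disjoint (h ⁻¹ᵁ D a) (h ⁻¹ᵁ D b)
    rw [disjoint_iff, ← Scheme.Hom.preimage_inf, (hdisj hab).eq_bot, Scheme.Hom.preimage_bot]
  · exact MorphismProperty.of_isPullback (P := @IsOpenImmersion) ((isPullback_morphismRestrict h (D k)).paste_vert sq) (hD k)

end Groth.Agent.EtFound.SplitSep
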