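import Groth.Agent.EtFound.ConstRpush
import Groth.Agent.EtFound.FLCTorsor
import Groth.Agent.EtMVLib.MV
import Groth.Agent.EtAcycLib.Compose
import Groth.Agent.S8536
import Groth.Agent.S0092
import Groth.Agent.S0090
import Groth.Agent.AnLocal.Henselian
import Groth.Agent.AlgSpDec.EtStalkProps

/-!
# Constant sheaves on closed subschemes of normal affine schemes with separably closed function field
-/

set_option autoImplicit false
set_option linter.style.haveILetI false

universe u

open CategoryTheory CategoryTheory.Limits AlgebraicGeometry Opposite TopologicalSpace Abelian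

namespace Groth.Agent.EtFound.ConstAcyclic

set_option backward.isDefEq.respectTransparency false
set_option backward.isDefEq.respectTransparency.types false

variable {Z : Scheme.{u}}

theorem strictlyHenselian_of_surjective {A B : Type u} [CommRing A] [CommRing B] [IsLocalRing B]
    (h : EtCoh.IsStrictlyHenselianLocalRing A) (π : A →+* B) (hπ : Function.Surjective π) :
    EtCoh.IsStrictlyHenselianLocalRing B := by
  obtain ⟨h1, h2⟩ := h
  haveI := h1
  haveI := h2
  haveI : IsLocalHom π := hπ.isLocalHom π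
  refine ⟨AnLocal.henselianLocalRing_of_surjective' π hπ, ?_⟩
  exact AlgSpDec.EtStalkProps.isSepClosed_of_ringEquiv' (k := IsLocalRing.ResidueField A)
    (RingEquiv.ofBijective (IsLocalRing.ResidueField.map π) ⟨RingHom.injective _, fun y => by
      obtain ⟨b, rfl⟩ := Ideal.Quotient.mk_surjective y
      obtain ⟨a, rfl⟩ := hπ b
      exact ⟨IsLocalRing.residue A a, rfl⟩⟩)

theorem pull_exact {A B : Scheme.{u}} (f : A ⟶ B) : PreservesFiniteLimits (EtCoh.pull f) :=
  EtFound.pull_preservesFiniteLimits f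

attribute [local instance] pull_exact

theorem subsingleton_H_of_isEmpty [IsEmpty Z] (G : EtCoh.Ab Z) (q : ℕ) : Subsingleton (EtCoh.H Z G q) := by
  have h0 : 𝟙 G = 0 := by
    refine Sheaf.hom_ext (NatTrans.ext (funext fun V => AddCommGrpCat.hom_ext (AddMonoidHom.ext fun s => ?_)))
    haveI : IsEmpty V.unop.left := ⟨fun v => (inferInstance : IsEmpty Z).false (V.unop.hom v)⟩
    exact @Subsingleton.elim (G.obj.obj (op V.unop)) (EtFound.subsingleton_sections_of_isEmpty G V.unop) _ _
  refine subsingleton_of_forall_eq 0 fun x => ?_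
  rw [← Ext.comp_mk₀_id x, h0, Ext.mk₀_zero, Ext.comp_zero]

theorem mono_opens {O O' : Z.Opens} (h : O' ≤ O) {G : EtCoh.Ab Z} {n : ℕ} {x : EtCoh.H Z G n}
    (hx : EtCore.Hpull O.ι G n x = 0) : EtCore.Hpull O'.ι G n x = 0 := by
  rw [← EtAcycLib.Hpull_comp (Z.homOfLE h) O.ι O'.ι (Scheme.homOfLE_ι _ h) G n x, hx, map_zero, Ext.zero_comp]

theorem restrict_eq_zero {W U : Scheme.{u}} (k : W ⟶ U) (f : U ⟶ Z) (h : W ⟶ Z) (w : k ≫ f = h) {G : EtCoh.Ab Z}
    {n : ℕ} {x : EtCoh.H Z G n} (hx : EtCore.Hpull h G n x = 0) :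
    EtCore.Hpull k ((EtCoh.pull f).obj G) n (EtCore.Hpull f G n x) = 0 := by
  refine (EtAcycLib.bijective_comp_mk₀ (((EtCore.pullComp k f).symm ≪≫ EtCore.pullCongr w).app G)).1 ?_
  simp only [Ext.zero_comp]
  exact (EtAcycLib.Hpull_comp k f h w G n x).trans hx

variable (hS : ∀ s : Z, EtCoh.IsStrictlyHenselianLocalRing (Z.presheaf.stalk s))

include hS in
theorem exists_open_kill : ∀ (q : ℕ) (G : EtCoh.Ab Z) (x : EtCoh.H Z G (q + 1)) (z : Z),
    ∃ O : Z.Opens, z ∈ O ∧ EtCore.Hpull O.ι G (q + 1) x = 0 := by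
  intro q
  induction q with
  | zero =>
    intro G x z
    let hT := EtCore.topIsTerminal Z
    let S : ShortComplex (EtCoh.Ab Z) := ShortComplex.mk (Injective.ι G) (cokernel.π _) (cokernel.condition _)
    have hS' : S.ShortExact := { exact := ShortComplex.exact_cokernel _ }
    haveI : Injective S.X₂ := inferInstanceAs (Injective (Injective.under G))
    obtain ⟨c, rfl⟩ := Ext.covariant_sequence_exact₁ _ hS' x (Ext.eq_zero_of_injective _) (rfl : 0 + 1 = 1)
    haveI := hS'.epi_g
    haveI : Sheaf.IsLocallySurjective S.g := (Sheaf.isLocallySurjective_iff_epi' AddCommGrpCat.{u + 1} _).2 inferInstance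
    obtain ⟨V, g, v, ⟨t, ht⟩, hv⟩ := (mem_topology_iff _).1 (Presheaf.imageSieve_mem Z.smallEtaleTopology S.g.hom
      (U := op (EtCoh.top Z)) (Sheaf.H.equiv₀ S.X₃ hT c)) z
    obtain rfl : g = hT.from V := hT.hom_ext _ _
    haveI : Etale V.hom := V.prop
    obtain ⟨O, σ, -, ⟨w, hw⟩, hσ⟩ := ConstRpush.exists_section_through hS V.hom v
    refine ⟨O, ?_, ?_⟩
    · have h1 : V.hom v = z :=
        (congrArg (fun r : V.left ⟶ Z => r v) (MorphismProperty.Over.w (hT.from V))).symm.trans
          ((Scheme.Hom.comp_apply _ _ _).trans hv)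
      rw [← h1, ← hw]
      exact ((Scheme.Hom.comp_apply _ _ _).symm.trans (congrArg (fun r : O.toScheme ⟶ Z => r w) hσ)) ▸ w.2
    · let d : (EtCoh.bc O.ι).obj (EtCoh.top Z) ⟶ (EtCoh.bc O.ι).obj V :=
        MorphismProperty.Over.homMk
          (pullback.lift (pullback.snd (EtCoh.top Z).hom O.ι ≫ σ) (pullback.snd (EtCoh.top Z).hom O.ι)
            ((Category.assoc _ _ _).trans (congrArg (_ ≫ ·) hσ)))
          (pullback.lift_snd _ _ _) trivial
      have h := FLCTorsor.Hpull_eq_zero_of_lift O.ι d (Iso.refl S.X₁) hS' c t ht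
      rwa [Sheaf.H.map_apply, show (Iso.refl S.X₁).hom = 𝟙 S.X₁ from rfl, Ext.comp_mk₀_id] at h
  | succ q ih =>
    intro G x z
    let S : ShortComplex (EtCoh.Ab Z) := ShortComplex.mk (Injective.ι G) (cokernel.π _) (cokernel.condition _)
    have hS' : S.ShortExact := { exact := ShortComplex.exact_cokernel _ }
    haveI : Injective S.X₂ := inferInstanceAs (Injective (Injective.under G))
    obtain ⟨c, rfl⟩ := Ext.covariant_sequence_exact₁ _ hS' x (Ext.eq_zero_of_injective _) (rfl : q + 1 + 1 = q + 1 + 1)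
    obtain ⟨O, hz, hO⟩ := ih S.X₃ c z
    haveI : PreservesFiniteColimits (EtCoh.pull O.ι) :=
      haveI : (EtCoh.pull O.ι).IsLeftAdjoint := (EtCoh.pullPushAdj O.ι).isLeftAdjoint
      inferInstance
    refine ⟨O, hz, ?_⟩
    have h := S8536.Hpull_comp_extClass O.ι hS' (q + 1) c
    rw [hO, Ext.zero_comp] at h
    exact h

theorem subsingleton_H_iso {A : Scheme.{u}} {F F' : EtCoh.Ab A} (e : F ≅ F') {n : ℕ}
    (h : Subsingleton (EtCoh.H A F n)) : Subsingleton (EtCoh.H A F' n) :=
  haveI := h
  (EtAcycLib.bijective_comp_mk₀ (A := EtCoh.const A ℤ) (n := n) e).2.subsingleton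

theorem isSepClosed_functionField_opens {X : Scheme.{u}} [IsIntegral X] [IsSepClosed X.functionField] (U : X.Opens)
    [IsIntegral U.toScheme] : IsSepClosed U.toScheme.functionField := by
  have e : X.presheaf.stalk (genericPoint X) ≅ U.toScheme.presheaf.stalk (genericPoint U.toScheme) :=
    eqToIso (congrArg (fun p => X.presheaf.stalk p) (genericPoint_eq_of_isOpenImmersion U.ι).symm) ≪≫
      asIso (U.ι.stalkMap (genericPoint U.toScheme))
  exact AlgSpDec.EtStalkProps.isSepClosed_of_ringEquiv' (k := X.functionField) e.commRingCatIsoToRingEquiv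

theorem subsingleton_H_const (M : Type) [AddCommGroup M] [Finite M] : ∀ (q : ℕ) {Z X : Scheme.{u}} [IsAffine X]
    [IsIntegral X] (_ : ∀ x : X, IsIntegrallyClosed (X.presheaf.stalk x)) [IsSepClosed X.functionField]
    (i : Z ⟶ X) [IsClosedImmersion i], Subsingleton (EtCoh.H Z (EtCoh.const Z M) (q + 1)) := by
  intro q
  induction q with
  | zero => intro Z X _ _ hN _ i _; exact S0092.result hN i M
  | succ q ih =>
    intro Z X _ _ hN _ i _
    haveI : IsAffine Z := isAffine_of_isAffineHom i
    have hX := fun x : X => S0090.result X hN x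
    have hZ : ∀ s : Z, EtCoh.IsStrictlyHenselianLocalRing (Z.presheaf.stalk s) := fun s => by
      obtain ⟨h1, h2⟩ := hX (i s)
      haveI := h1
      haveI := h2
      exact strictlyHenselian_of_surjective ⟨h1, h2⟩ (i.stalkMap s).hom (i.stalkMap_surjective s)
    let G := EtCoh.const Z M
    refine subsingleton_of_forall_eq 0 fun x => ?_
    let K : Ideal Γ(Z, ⊤) :=
      { carrier := {f | EtCore.Hpull (Z.basicOpen f).ι G (q + 1 + 1) x = 0}
        zero_mem' := by
          haveI : IsEmpty (Z.basicOpen (0 : Γ(Z, ⊤))).toScheme := ⟨fun p => by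
            have := p.2
            simp only [Scheme.basicOpen_zero] at this
            exact this⟩
          exact @Subsingleton.elim _ (subsingleton_H_of_isEmpty _ _) _ _
        smul_mem' := fun a f hf => mono_opens (by
          rw [smul_eq_mul, Scheme.basicOpen_mul]; exact inf_le_right) hf
        add_mem' := fun {f g} hf hg => by
          let W := Z.basicOpen (f + g)
          let y := EtCore.Hpull W.ι G (q + 1 + 1) x
          let U : W.toScheme.Opens := W.ι ⁻¹ᵁ Z.basicOpen f
          let V : W.toScheme.Opens := W.ι ⁻¹ᵁ Z.basicOpen g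
          have hUV : U ⊔ V = ⊤ := eq_top_iff.2 fun p _ => by
            rcases Scheme.basicOpen_add_le Z f g p.2 with h | h
            exacts [Or.inl h, Or.inr h]
          have hk : ∀ (h : Γ(Z, ⊤)), EtCore.Hpull (Z.basicOpen h).ι G (q + 1 + 1) x = 0 →
              EtCore.Hpull (W.ι ⁻¹ᵁ Z.basicOpen h).ι ((EtCoh.pull W.ι).obj G) (q + 1 + 1) y = 0 := fun h hh => by
            refine restrict_eq_zero _ _ _ rfl ?_
            rw [← EtAcycLib.Hpull_comp (W.ι ∣_ Z.basicOpen h) (Z.basicOpen h).ι _ (morphismRestrict_ι W.ι (Z.basicOpen h)) G _ x,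
              hh, map_zero, Ext.zero_comp]
          obtain ⟨δ, -, hker, -, -⟩ := EtMVLib.mayerVietoris W.toScheme U V hUV ((EtCoh.pull W.ι).obj G)
          obtain ⟨b, hb⟩ : y ∈ (δ (q + 1)).range := by
            rw [← hker (q + 1)]
            exact Prod.ext (hk f hf) (hk g hg)
          suffices hss : Subsingleton (EtCoh.H ↑(U ⊓ V) ((EtCoh.pull (U ⊓ V).ι).obj ((EtCoh.pull W.ι).obj G)) (q + 1)) by
            show y = 0
            rw [← hb, Subsingleton.elim b 0, map_zero]
          refine subsingleton_H_iso ((EtCoh.pull (U ⊓ V).ι).mapIso (EtCore.pullConst W.ι M) ≪≫ EtCore.pullConst (U ⊓ V).ι M).symm ?_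
          by_cases hne : IsEmpty ↑(U ⊓ V)
          · haveI : IsEmpty ((U ⊓ V).toScheme : Scheme.{u}) := hne
            exact subsingleton_H_of_isEmpty _ _
          obtain ⟨F, hF⟩ := (IsClosedImmersion.isAffine_surjective_of_isAffine i).2 ((f + g) * (f * g))
          let XF := X.basicOpen F
          let D := i ⁻¹ᵁ XF
          have hD : D = W ⊓ (Z.basicOpen f ⊓ Z.basicOpen g) := by
            show i ⁻¹ᵁ X.basicOpen F = _
            rw [Scheme.preimage_basicOpen_top, hF, Scheme.basicOpen_mul, Scheme.basicOpen_mul]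
          have hrange : ((U ⊓ V).ι ≫ W.ι).opensRange = D := by
            rw [Scheme.Hom.opensRange_comp, Scheme.Opens.opensRange_ι, hD]
            show W.ι ''ᵁ (W.ι ⁻¹ᵁ Z.basicOpen f ⊓ W.ι ⁻¹ᵁ Z.basicOpen g) = _
            rw [← Scheme.Hom.preimage_inf, Scheme.Hom.image_preimage_eq_opensRange_inf, Scheme.Opens.opensRange_ι]
          let j : (U ⊓ V).toScheme ⟶ XF.toScheme :=
            (((U ⊓ V).ι ≫ W.ι).isoOpensRange ≪≫ Z.isoOfEq hrange).hom ≫ (i ∣_ XF)
          haveI : IsClosedImmersion (i ∣_ XF) :=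
            MorphismProperty.of_isPullback (P := @IsClosedImmersion) (isPullback_morphismRestrict i XF).flip inferInstance
          obtain ⟨p⟩ := not_isEmpty_iff.1 hne
          haveI : Nonempty XF.toScheme := ⟨j p⟩
          haveI : IsAffine XF.toScheme := (isAffineOpen_top X).basicOpen F
          haveI : IsIntegral XF.toScheme := isIntegral_of_isOpenImmersion XF.ι
          haveI := isSepClosed_functionField_opens XF
          refine ih (fun s => ?_) j
          haveI := hN s.1
          exact IsIntegrallyClosed.of_equiv (XF.stalkIso s).commRingCatIsoToRingEquiv.symm }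
    have hK : K = ⊤ := by
      by_contra hne
      obtain ⟨m, hm, hKm⟩ := Ideal.exists_le_maximal K hne
      let z : Z := Z.isoSpec.inv ⟨m, hm.isPrime⟩
      obtain ⟨O, hz, hO⟩ := exists_open_kill hZ (q + 1) G x z
      obtain ⟨f, hf, hzf⟩ := (isAffineOpen_top Z).exists_basicOpen_le (V := O) ⟨z, hz⟩ trivial
      have hfm : f ∈ m := hKm (mono_opens hf hO)
      have hzf' : Z.isoSpec.hom z ∈ PrimeSpectrum.basicOpen f := by
        rw [← Scheme.toSpecΓ_preimage_basicOpen Z f] at hzf
        exact hzf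
      rw [← Scheme.Hom.comp_apply, Iso.inv_hom_id] at hzf'
      exact hzf' hfm
    have h1 : EtCore.Hpull (Z.basicOpen (1 : Γ(Z, ⊤))).ι G (q + 1 + 1) x = 0 := (hK.symm ▸ trivial : (1 : Γ(Z, ⊤)) ∈ K)
    haveI : IsIso (Z.basicOpen (1 : Γ(Z, ⊤))).ι :=
      isIso_of_isOpenImmersion_of_opensRange_eq_top _ (by rw [Scheme.Opens.opensRange_ι]; exact Z.basicOpen_of_isUnit isUnit_one)
    exact (EtAcycLib.bijective_Hpull_of_isIso (Z.basicOpen (1 : Γ(Z, ⊤))).ι G (q + 1 + 1)).1 (h1.trans (map_zero _).symm)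

end Groth.Agent.EtFound.ConstAcyclic
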