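import Groth.Agent.EtFound.ConstGeneric
import Groth.Agent.S0090
import Groth.Agent.S0670
import Groth.Agent.EtLC12.EtZarCompare

/-!
# Constant coefficients on a normal integral scheme with separably closed function field
-/

set_option autoImplicit false

universe u

open CategoryTheory CategoryTheory.Limits AlgebraicGeometry Opposite TopologicalSpace

namespace Groth.Agent.EtFound.ConstVal

set_option backward.isDefEq.respectTransparency false
set_option backward.isDefEq.respectTransparency.types false

theorem exists_eq_φV {X : Scheme.{u}} {T : X.Etale} (hT : IsTerminal T) {G : EtCoh.Ab X} {M : AddCommGrpCat.{u + 1}}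
    {φ : M ⟶ G.obj.obj (op T)} (h : ConstBy G φ (U := T)) {V : X.Etale} [PreconnectedSpace V.left] [Nonempty V.left]
    (s : G.obj.obj (op V)) : ∃ m, φV hT φ V m = s := by
  refine ⟨val hT h s (Classical.arbitrary _), val_injective hT h fun x => ?_⟩
  rw [val_φV]
  exact (val hT h s).isLocallyConstant.apply_eq_of_preconnectedSpace _ _

theorem flq_resZar_const (X : Scheme.{u}) [IsIntegral X] [EtZar.ZarCont X] (M : Type) [AddCommGroup M] :
    Adeq2Lib.ZarFl.Flq ((EtZar.resZar X).obj (EtCoh.const X M)) := fun V U h s => by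
  let hT := EtCore.topIsTerminal X
  have hc := constBy_const X (AddCommGrpCat.of (ULift.{u + 1} M)) (EtCoh.top X)
  by_cases hV : Nonempty V.toScheme
  · haveI := hV
    haveI : Nonempty ((EtZar.zarToEt X).obj V).left := hV
    haveI : PreconnectedSpace ((EtZar.zarToEt X).obj V).left := by
      haveI : IsIntegral V.toScheme := isIntegral_of_isOpenImmersion V.ι
      exact inferInstanceAs (PreconnectedSpace V.toScheme)
    obtain ⟨m, hm⟩ := exists_eq_φV hT hc (V := (EtZar.zarToEt X).obj V) s
    exact ⟨φV hT _ ((EtZar.zarToEt X).obj U) m, (map_φV hT _ ((EtZar.zarToEt X).map (homOfLE h)) m).trans hm⟩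
  · refine ⟨0, val_injective hT hc (V := (EtZar.zarToEt X).obj V) fun x => ?_⟩
    exact absurd ⟨x⟩ hV

theorem subsingleton_H_const (X : Scheme.{u}) [IsIntegral X] (hN : ∀ x : X, IsIntegrallyClosed (X.presheaf.stalk x))
    [IsSepClosed X.functionField] (M : Type) [AddCommGroup M] (i : ℕ) (hi : 0 < i) :
    Subsingleton (EtCoh.H X (EtCoh.const X M) i) := by
  haveI : EtZar.ZarCont X := Agent.EtLC12.EtZarCompare.zarCont X
  obtain ⟨e⟩ := Groth.Agent.S0670.result X (fun x => Groth.Agent.S0090.result X hN x) (EtCoh.const X M) i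
  obtain ⟨j, rfl⟩ := Nat.exists_eq_add_one_of_ne_zero hi.ne'
  haveI := Adeq2Lib.ZarFl.subsingleton_H_of_flq j _ (flq_resZar_const X M)
  exact e.toEquiv.subsingleton

theorem natCard_H0_const (X : Scheme.{u}) [ConnectedSpace X] (M : Type) [AddCommGroup M] :
    Nat.card (EtCoh.H X (EtCoh.const X M) 0) = Nat.card M := by
  let hT := EtCore.topIsTerminal X
  have hc := constBy_const X (AddCommGrpCat.of (ULift.{u + 1} M)) (EtCoh.top X)
  haveI : Nonempty (EtCoh.top X).left := inferInstanceAs (Nonempty X)
  haveI : PreconnectedSpace (EtCoh.top X).left := inferInstanceAs (PreconnectedSpace X)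
  have e1 := Nat.card_congr (Equiv.ofBijective (φV hT _ (EtCoh.top X))
    ⟨φV_injective hT hc (EtCoh.top X), fun s => exists_eq_φV hT hc s⟩)
  refine (Nat.card_congr (Sheaf.H.equiv₀ (EtCoh.const X M) hT).toEquiv).trans (e1.symm.trans ?_)
  exact Nat.card_congr Equiv.ulift

end Groth.Agent.EtFound.ConstVal
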