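import Groth.Agent.EtFound.ConstExtend

/-!
# The constant sheaf of an integral normal scheme comes from its generic point
-/

set_option autoImplicit false

universe u

open CategoryTheory CategoryTheory.Limits AlgebraicGeometry Opposite

namespace Groth.Agent.EtFound.ConstVal

set_option backward.isDefEq.respectTransparency false
set_option backward.isDefEq.respectTransparency.types false

variable (X : Scheme.{u}) [IsIntegral X]

theorem subsingleton_spec_generic : Subsingleton ↥(Spec (X.presheaf.stalk (genericPoint X))) :=
  inferInstanceAs (Subsingleton (PrimeSpectrum X.functionField))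

instance quasiCompact_fromSpecStalk_generic : QuasiCompact (X.fromSpecStalk (genericPoint X)) := by
  haveI := subsingleton_spec_generic X
  exact ⟨fun U _ _ => Set.subsingleton_of_subsingleton.isCompact⟩

theorem isNormalScheme (hN : ∀ x : X, IsIntegrallyClosed (X.presheaf.stalk x)) : Pi1.IsNormalScheme X :=
  fun x => ⟨inferInstance, hN x⟩

theorem genericPoint_mem_range : genericPoint X ∈ Set.range (X.fromSpecStalk (genericPoint X)) := by
  rw [Scheme.range_fromSpecStalk]
  exact specializes_refl _

theorem maxInRange_generic {Z : Scheme.{u}} (f : Z ⟶ X) (hf : genericPoint X ∈ Set.range f) : MaxInRange f :=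
  fun y hy => by
    have h1 : genericPoint X ⤳ y := (genericPoint_spec X).specializes trivial
    exact (h1.antisymm (hy _ h1)).eq ▸ hf

end Groth.Agent.EtFound.ConstVal
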