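import Groth.Agent.EtFound.TopInvDescent
import Groth.Agent.MorLib.IndQA
import Groth.Agent.S7482
import Groth.Agent.AlgSpLib.EtLocalInst

/-! topological invariance of the small etale site -/

set_option autoImplicit false

universe u

open CategoryTheory CategoryTheory.Limits AlgebraicGeometry TopologicalSpace

noncomputable section

set_option backward.isDefEq.respectTransparency false
set_option backward.isDefEq.respectTransparency.types false

namespace Groth.Agent.EtFound.UH

open Groth.Agent.Pi1Ext.UH (ofArrows_mem)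

variable {X Y : Scheme.{u}}

/-- models at all points glue -/
theorem essImage_of_models (f : X ⟶ Y) [IsIntegralHom f] [UniversallyInjective f] [Surjective f]
    (W : X.Etale) (hM : ∀ y : Y, Nonempty (Model f W y)) : (EtCoh.bc f).essImage W := by
  have hM' : ∀ y : Y, ∃ M : Model f W y, IsAffine M.Y' ∧ ∃ O : Y.Opens, IsAffineOpen O ∧ Set.range M.v.base ⊆ O := by
    intro y
    obtain ⟨M⟩ := hM y
    obtain ⟨O, hO, hyO, -⟩ := exists_isAffineOpen_mem_and_subset (x := y) (U := (⊤ : Y.Opens)) trivial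
    obtain ⟨A, hA, hzA, hAO⟩ := exists_isAffineOpen_mem_and_subset (x := M.z) (U := M.v ⁻¹ᵁ O)
      (show M.v.base M.z ∈ O by rw [M.hz]; exact hyO)
    refine ⟨M.comp A.ι inferInstance ⟨M.z, hzA⟩ rfl, hA, O, hO, ?_⟩
    rintro _ ⟨t, rfl⟩
    show (A.ι ≫ M.v).base t ∈ O
    rw [Scheme.Hom.comp_apply]
    exact hAO t.2
  choose Ms hA hW using hM'
  obtain ⟨U, ⟨θ⟩⟩ := Groth.Agent.S7482.result (fun y => (Ms y).v)
    (ofArrows_mem _ (fun y => (Ms y).hv) fun y => ⟨y, (Ms y).z, (Ms y).hz⟩) (datum f W Ms)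
    (fun y => by
      haveI : IsSeparated (Ms y).E.hom := (Ms y).hE
      haveI : Etale (Ms y).E.hom := (Ms y).E.prop
      haveI : LocallyQuasiFinite (Ms y).E.hom := AlgSpLib.locallyQuasiFinite_of_formallyUnramified _
      exact MorLib.IQA.indQA_of_locallyQuasiFinite (Ms y).E.hom)
  have het := etale_of_models Ms hA hW U θ
  obtain ⟨e⟩ := exists_restrict_iso Ms U θ
  exact ⟨MorphismProperty.Over.mk ⊤ U.hom het,
    ⟨MorphismProperty.Over.isoMk ((CategoryTheory.Over.forget X).mapIso e) (CategoryTheory.Over.w e.hom)⟩⟩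

/-- descending along the restriction to an open -/
theorem bc_open_iso (f : X ⟶ Y) (O : Y.Opens) (V : (O : Scheme.{u}).Etale) :
    Nonempty ((EtCoh.bc f).obj (haveI : Etale V.hom := V.prop; Scheme.Etale.mk (V.hom ≫ O.ι)) ≅
      (haveI : Etale ((EtCoh.bc (f ∣_ O)).obj V).hom := ((EtCoh.bc (f ∣_ O)).obj V).prop
       Scheme.Etale.mk (((EtCoh.bc (f ∣_ O)).obj V).hom ≫ (f ⁻¹ᵁ O).ι))) := by
  have sq := (IsPullback.of_hasPullback V.hom (f ∣_ O)).paste_vert (isPullback_morphismRestrict f O)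
  exact ⟨(MorphismProperty.Over.isoMk sq.isoPullback sq.isoPullback_hom_snd).symm⟩

/-- separated etale schemes with bounded fibres descend along universal homeomorphisms -/
theorem essImage_of_bd (n : ℕ) : ∀ {X Y : Scheme.{u}} (f : X ⟶ Y) [IsIntegralHom f] [UniversallyInjective f]
    [Surjective f] (W : X.Etale) [IsSeparated W.hom], Bd W n → (EtCoh.bc f).essImage W := by
  induction n with
  | zero =>
    intro X Y f _ _ _ W _ h
    haveI := isEmpty_of_bd_zero h
    exact essImage_of_local f W fun x => isEmptyElim x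
  | succ n ih =>
    intro X Y f _ _ _ W hWs h
    haveI : Etale W.hom := W.prop
    let O : Y.Opens := ⟨f.base '' Set.range W.hom.base, by
      rw [← isClosed_compl_iff, ← Set.image_compl_eq ⟨f.injective, f.surjective⟩]
      exact f.isClosedMap _ W.hom.isOpenMap.isOpen_range.isClosed_compl⟩
    let g := f ∣_ O
    haveI : IsIntegralHom g := MorphismProperty.of_isPullback (isPullback_morphismRestrict f O).flip inferInstance
    haveI : UniversallyInjective g :=
      MorphismProperty.of_isPullback (P := @UniversallyInjective) (isPullback_morphismRestrict f O).flip ‹_›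
    haveI : Surjective g :=
      MorphismProperty.of_isPullback (P := @Surjective) (isPullback_morphismRestrict f O).flip ‹_›
    let w : W.left ⟶ (f ⁻¹ᵁ O : Scheme.{u}) := IsOpenImmersion.lift (f ⁻¹ᵁ O).ι W.hom (by
      rintro _ ⟨t, rfl⟩
      rw [Scheme.Opens.range_ι]
      exact ⟨_, ⟨t, rfl⟩, rfl⟩)
    have hw : w ≫ (f ⁻¹ᵁ O).ι = W.hom := IsOpenImmersion.lift_fac _ _ _
    haveI : Etale w := MorphismProperty.of_postcomp (W := @Etale) (W' := @Etale) w (f ⁻¹ᵁ O).ι inferInstance
      (hw.symm ▸ W.prop)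
    haveI : IsSeparated w := by
      haveI : IsSeparated (w ≫ (f ⁻¹ᵁ O).ι) := hw.symm ▸ hWs
      exact IsSeparated.of_comp w (f ⁻¹ᵁ O).ι
    haveI : Surjective w := ⟨fun p => by
      obtain ⟨_, ⟨t, rfl⟩, ht⟩ := p.2
      exact ⟨t, (f ⁻¹ᵁ O).ι.isOpenEmbedding.injective ((Scheme.Hom.comp_apply _ _ _).symm.trans
        ((congrArg (fun k => k.base t) hw).trans (f.injective ht)))⟩⟩
    let W' : (f ⁻¹ᵁ O : Scheme.{u}).Etale := Scheme.Etale.mk w
    haveI : IsSeparated W'.hom := inferInstanceAs (IsSeparated w)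
    haveI : Surjective W'.hom := inferInstanceAs (Surjective w)
    have hbd : Bd W' (n + 1) := fun Ω _ _ ξ s hs => h Ω (ξ ≫ (f ⁻¹ᵁ O).ι)
      (fun i => ⟨(s i).1, by
        rw [← hw, ← Category.assoc]; exact congrArg (· ≫ _) (s i).2⟩)
      (fun i j e => hs (Subtype.ext (congrArg Subtype.val e :)))
    obtain ⟨V, ⟨e⟩⟩ := essImage_of_models g W' fun y => exists_model g n ih W' hbd y
    haveI : Etale V.hom := V.prop
    obtain ⟨e'⟩ := bc_open_iso f O V
    refine ⟨_, ⟨e' ≪≫ MorphismProperty.Over.isoMk ⟨e.hom.left, e.inv.left,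
      congrArg (fun k => k.left) e.hom_inv_id, congrArg (fun k => k.left) e.inv_hom_id⟩ ?_⟩⟩
    show e.hom.left ≫ W.hom = ((EtCoh.bc g).obj V).hom ≫ (f ⁻¹ᵁ O).ι
    rw [← hw, ← Category.assoc]
    exact congrArg (· ≫ _) (MorphismProperty.Over.w e.hom)

/-- standard etale charts -/
theorem exists_chart {U : Scheme.{u}} (g : U ⟶ X) [Etale g] (x : U) :
    ∃ (A C : CommRingCat.{u}) (φ : A ⟶ C) (j : Spec C ⟶ U) (k : Spec A ⟶ X),
      IsOpenImmersion j ∧ IsOpenImmersion k ∧ x ∈ Set.range j.base ∧ j ≫ g = Spec.map φ ≫ k ∧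
      (letI := φ.hom.toAlgebra; Algebra.IsStandardEtale A C) := by
  obtain ⟨A, k, hk, hxk, -⟩ := Scheme.exists_affine_mem_range_and_range_subset
    (x := g.base x) (U := (⊤ : X.Opens)) trivial
  obtain ⟨B, j, hj, hxj, hjU⟩ := Scheme.exists_affine_mem_range_and_range_subset
    (x := x) (U := g ⁻¹ᵁ k.opensRange) (show g.base x ∈ k.opensRange from hxk)
  obtain ⟨φ, hφ⟩ := Spec.map_surjective (IsOpenImmersion.lift k (j ≫ g) (by
    rintro _ ⟨t, rfl⟩
    rw [Scheme.Hom.comp_apply]
    exact hjU ⟨t, rfl⟩))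
  have hc : j ≫ g = Spec.map φ ≫ k := by rw [hφ, IsOpenImmersion.lift_fac]
  have hE : Etale (Spec.map φ) := by
    refine MorphismProperty.of_postcomp (W := @Etale) (W' := @Etale) (Spec.map φ) k inferInstance ?_
    rw [← hc]; infer_instance
  obtain ⟨t, ht⟩ := hxj
  letI := φ.hom.toAlgebra
  haveI : Algebra.Etale A B := (HasRingHomProperty.Spec_iff (P := @Etale)).mp hE
  obtain ⟨b, hb, hstd⟩ := Algebra.IsEtaleAt.exists_isStandardEtale (R := A) t.asIdeal
  let ψ : B ⟶ CommRingCat.of (Localization.Away b) := CommRingCat.ofHom (algebraMap B _)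
  haveI : IsOpenImmersion (Spec.map ψ) := IsOpenImmersion.of_isLocalization b
  refine ⟨A, _, φ ≫ ψ, Spec.map ψ ≫ j, k, inferInstance, hk, ?_, ?_, ?_⟩
  · obtain ⟨q, hq⟩ : t ∈ Set.range (Spec.map ψ).base :=
      (PrimeSpectrum.localization_away_comap_range (Localization.Away b) b).ge hb
    exact ⟨q, by rw [Scheme.Hom.comp_apply, hq, ht]⟩
  · rw [Category.assoc, hc, Spec.map_comp, Category.assoc]
  · have halg : ((φ ≫ ψ).hom.toAlgebra : Algebra A (Localization.Away b)) =
        (inferInstance : Algebra A (Localization.Away b)) := Algebra.algebra_ext _ _ fun a => rfl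
    show @Algebra.IsStandardEtale A (Localization.Away b) _ _ (φ ≫ ψ).hom.toAlgebra
    rw [halg]; exact hstd

/-- affine etale neighbourhoods have boundedly many geometric points in the fibres -/
theorem exists_bd_nhd (U : X.Etale) (x : U.left) :
    ∃ (O : U.left.Opens) (_ : x ∈ O) (n : ℕ),
      Bd (haveI : Etale U.hom := U.prop; (Scheme.Etale.mk (O.ι ≫ U.hom) : X.Etale)) n ∧
        IsSeparated (O.ι ≫ U.hom) := by
  haveI : Etale U.hom := U.prop
  obtain ⟨A, C, φ, j, k, hj, hk, hxj, hc, hstd⟩ := exists_chart U.hom x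
  letI := φ.hom.toAlgebra
  obtain ⟨P⟩ : Nonempty (StandardEtalePresentation A C) := hstd.nonempty_standardEtalePresentation
  have he : j.isoOpensRange.inv ≫ j = j.opensRange.ι := j.isoOpensRange_inv_comp
  refine ⟨j.opensRange, hxj, P.f.natDegree, ?_, ?_⟩
  · intro Ω _ _ ξ s hs
    classical
    choose ψ hψ using fun i => Spec.map_surjective ((s i).1 ≫ j.isoOpensRange.inv)
    have hψ' : ∀ i, Spec.map (φ ≫ ψ i) ≫ k = ξ := fun i => by
      rw [Spec.map_comp, Category.assoc, ← hc, hψ, Category.assoc, ← Category.assoc j.isoOpensRange.inv, he]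
      exact (s i).2
    have heq : ∀ i, φ ≫ ψ i = φ ≫ ψ 0 := fun i =>
      Spec.map_injective ((cancel_mono k).mp ((hψ' i).trans (hψ' 0).symm))
    letI : Algebra A Ω := (φ ≫ ψ 0).hom.toAlgebra
    let α : ∀ i, C →ₐ[A] Ω := fun i =>
      { (ψ i).hom with commutes' := fun a => congrArg (fun q => q.hom a) (heq i) }
    have hroot : ∀ i, α i P.x ∈ (P.f.map (algebraMap A Ω)).roots.toFinset := fun i => by
      rw [Multiset.mem_toFinset, Polynomial.mem_roots (P.monic_f.map _).ne_zero, Polynomial.IsRoot,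
        Polynomial.eval_map, ← Polynomial.aeval_def, Polynomial.aeval_algHom_apply, P.hasMap.1, map_zero]
    have hinj : Function.Injective fun i => α i P.x := fun i i' e => by
      have h := P.hom_ext e
      have h' : ψ i = ψ i' := CommRingCat.hom_ext (RingHom.ext fun c => DFunLike.congr_fun h c)
      refine hs (Subtype.ext ?_)
      exact (cancel_mono j.isoOpensRange.inv).mp (by rw [← hψ i, ← hψ i', h'])
    have h1 := Finset.card_le_card_of_injOn (s := Finset.univ) (fun i => α i P.x) (fun i _ => hroot i) hinj.injOn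
    have h2 : (P.f.map (algebraMap A Ω)).roots.toFinset.card ≤ P.f.natDegree :=
      ((Multiset.toFinset_card_le _).trans (Polynomial.card_roots' _)).trans Polynomial.natDegree_map_le
    rw [Finset.card_univ, Fintype.card_fin] at h1
    exact absurd (h1.trans h2) (by omega)
  · rw [← he, Category.assoc, hc]
    infer_instance

theorem bc_isEquivalence (f : X ⟶ Y) [IsIntegralHom f] [UniversallyInjective f] [Surjective f] :
    (EtCoh.bc f).IsEquivalence := by
  have := bc_full f
  have := bc_faithful f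
  have : (EtCoh.bc f).EssSurj := ⟨fun U => essImage_of_local f U fun x => by
    haveI : Etale U.hom := U.prop
    obtain ⟨O, hxO, n, hn, hs⟩ := exists_bd_nhd U x
    haveI : IsSeparated (Scheme.Etale.mk (O.ι ≫ U.hom) : X.Etale).hom := hs
    obtain ⟨V, ⟨e⟩⟩ := essImage_of_bd n f _ hn
    haveI : IsIso e.hom.left := ⟨e.inv.left, congrArg (fun k => k.left) e.hom_inv_id,
      congrArg (fun k => k.left) e.inv_hom_id⟩
    let m : (Scheme.Etale.mk (O.ι ≫ U.hom) : X.Etale) ⟶ U := MorphismProperty.Over.homMk O.ι rfl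
    refine ⟨V, e.hom ≫ m, inferInstanceAs (IsOpenImmersion (e.hom.left ≫ O.ι)), ?_⟩
    obtain ⟨p, hp⟩ := e.hom.left.homeomorph.surjective (⟨x, hxO⟩ : O.toScheme)
    exact ⟨p, (Scheme.Hom.comp_apply e.hom.left O.ι p).trans (congrArg O.ι.base hp)⟩⟩
  exact {}

end Groth.Agent.EtFound.UH
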