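import Groth.Agent.EtFound.ConstPush
import Groth.Agent.EtStalk.Normal
import Groth.Agent.FDescent.QuasiFlat
import Groth.Prelude.Def_Pi1

/-!
# Constant sheaves on normal schemes
-/

set_option autoImplicit false

universe u

open CategoryTheory CategoryTheory.Limits AlgebraicGeometry Opposite

namespace Groth.Agent.EtFound.ConstVal

set_option backward.isDefEq.respectTransparency false
set_option backward.isDefEq.respectTransparency.types false

/-- A domain stalk gives a least generalisation. -/
theorem exists_least_generalization {W : Scheme.{u}} (x : W) (h : IsDomain (W.presheaf.stalk x)) :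
    ∃ m : W, ∀ y, y ⤳ x → m ⤳ y := by
  haveI := h
  refine ⟨W.fromSpecStalk x (⟨⊥, Ideal.isPrime_bot⟩ : PrimeSpectrum (W.presheaf.stalk x)), fun y hy => ?_⟩
  obtain ⟨q, rfl⟩ : y ∈ Set.range (W.fromSpecStalk x) := by rw [Scheme.range_fromSpecStalk]; exact hy
  exact ((PrimeSpectrum.le_iff_specializes (⟨⊥, Ideal.isPrime_bot⟩ : PrimeSpectrum (W.presheaf.stalk x)) q).1
    bot_le).map (W.fromSpecStalk x).continuous

/-- A point `y` all of whose generalisations are specialisations of it is in the image of `f`. -/
def MaxInRange {X Y : Scheme.{u}} (f : X ⟶ Y) : Prop :=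
  ∀ y : Y, (∀ z : Y, z ⤳ y → y ⤳ z) → y ∈ Set.range f

theorem exists_min_mem_range {P W Y X : Scheme.{u}} {g : W ⟶ Y} [Flat g] {f : X ⟶ Y} {p : P ⟶ W} {q : P ⟶ X}
    (sq : IsPullback p q g f) (hf : MaxInRange f) {x : W} (h : IsDomain (W.presheaf.stalk x)) :
    ∃ a : P, p a ⤳ x ∧ ∀ y, y ⤳ x → p a ⤳ y := by
  obtain ⟨m, hm⟩ := exists_least_generalization x h
  have hmx : m ⤳ x := hm x (specializes_refl x)
  obtain ⟨z, hz⟩ := hf (g m) fun z hz => by
    obtain ⟨m', hm', rfl⟩ := Flat.generalizingMap g hz
    exact (hm m' (hm'.trans hmx)).map g.continuous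
  obtain ⟨a, ha, -⟩ := Scheme.exists_preimage_of_isPullback sq m z hz.symm
  exact ⟨a, ha ▸ hmx, fun y hy => ha ▸ hm y hy⟩

/-- A locally constant function is unchanged by generalisation. -/
theorem locallyConstant_eq_of_specializes {α β : Type*} [TopologicalSpace α] (F : LocallyConstant α β) {x y : α}
    (h : x ⤳ y) : F x = F y :=
  h.mem_open (F.isLocallyConstant.isOpen_fiber (F y)) rfl

/-- Locally constant functions extend along a quasi-compact embedding containing all maximal points. -/
theorem exists_extend {P W Y X : Scheme.{u}} [CompactSpace W] {g : W ⟶ Y} [Flat g] {f : X ⟶ Y} [QuasiCompact f]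
    [IsPreimmersion f] {p : P ⟶ W} {q : P ⟶ X} (sq : IsPullback p q g f) (hf : MaxInRange f)
    (hd : ∀ x : W, IsDomain (W.presheaf.stalk x)) {M : Type*} (F : LocallyConstant P M) :
    ∃ F' : LocallyConstant W M, ∀ a, F a = F' (p a) := by
  haveI : QuasiCompact p := MorphismProperty.of_isPullback (P := @QuasiCompact) sq.flip inferInstance
  haveI : IsPreimmersion p := MorphismProperty.of_isPullback (P := @IsPreimmersion) sq.flip inferInstance
  haveI : CompactSpace P := QuasiCompact.compactSpace_of_compactSpace p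
  choose a ha hmin using fun x => exists_min_mem_range sq hf (hd x)
  have hp : ∀ b, F (a (p b)) = F b := fun b =>
    locallyConstant_eq_of_specializes F (p.isEmbedding.isInducing.specializes_iff.1 (ha (p b)))
  have hcl : ∀ c : M, IsClosed {x : W | F (a x) = c} := fun c => by
    let A : P.Opens := ⟨F ⁻¹' {c}, F.isLocallyConstant.isOpen_fiber c⟩
    haveI : CompactSpace A.toScheme :=
      isCompact_iff_compactSpace.1 (F.isLocallyConstant.isClosed_fiber c).isCompact
    have hs : {x : W | F (a x) = c} = closure (Set.range (A.ι ≫ p)) := by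
      refine Set.Subset.antisymm (fun x hx => ?_) fun x hx => ?_
      · exact (ha x).mem_closed isClosed_closure (subset_closure ⟨(⟨a x, hx⟩ : A.toScheme), rfl⟩)
      · haveI : QuasiCompact A.ι := ⟨fun U _ hU => A.ι.isOpenEmbedding.isInducing.isCompact_preimage
          (by rw [Scheme.Opens.range_ι]; exact F.isLocallyConstant.isClosed_fiber c) hU⟩
        obtain ⟨b, hb⟩ := FDescent.exists_specializes_of_mem_closure_range (f := A.ι ≫ p) hx
        have hb' : a x ⤳ A.ι b := p.isEmbedding.isInducing.specializes_iff.1 (hmin x _ hb)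
        exact (locallyConstant_eq_of_specializes F hb').trans b.2
    rw [hs]
    exact isClosed_closure
  have hfin : (Set.range F).Finite := F.range_finite
  refine ⟨⟨fun x => F (a x), (IsLocallyConstant.iff_isOpen_fiber).2 fun c => ?_⟩, fun b => (hp b).symm⟩
  classical
  have he : (fun x => F (a x)) ⁻¹' {c} = (⋃ d ∈ hfin.toFinset.filter (fun d => d ≠ c), {x : W | F (a x) = d})ᶜ := by
    ext x
    simp only [Set.mem_preimage, Set.mem_singleton_iff, Set.mem_compl_iff, Set.mem_iUnion, Finset.mem_filter,
      Set.Finite.mem_toFinset, Set.mem_range, Set.mem_setOf_eq, exists_prop, not_exists, not_and, and_imp,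
      forall_exists_index]
    exact ⟨fun e d b _ hne h' => hne (h'.symm.trans e), fun h' => by_contra fun hne => h' _ (a x) rfl hne rfl⟩
  rw [he, isOpen_compl_iff]
  exact isClosed_biUnion_finset fun d _ => hcl d

/-- On a normal scheme the constant sheaf is the direct image of its restriction along `f`, provided `f` factors a
quasi-compact embedding containing all maximal points. -/
theorem isIso_unit_const_normal {X X' Y : Scheme.{u}} (f : X ⟶ Y) [EtCoh.BCCont f] [IsPreimmersion f]
    (hY : Pi1.IsNormalScheme Y) (j : X' ⟶ X) [QuasiCompact (j ≫ f)] [IsPreimmersion (j ≫ f)]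
    (hj : MaxInRange (j ≫ f)) (M : Type) [AddCommGroup M] :
    IsIso ((EtCoh.pullPushAdj f).unit.app (EtCoh.const Y M)) := by
  have hd : ∀ (V : Y.Etale) (x : V.left), IsDomain (V.left.presheaf.stalk x) := fun V x => by
    haveI : Etale V.hom := V.prop
    exact ((EtStalk.normal_stalk_iff V.hom x).2 (hY _)).1
  have hf : MaxInRange f := fun y hy => by
    obtain ⟨z, hz⟩ := hj y hy
    exact ⟨j z, hz⟩
  refine isIso_unit_const f M (fun V hV => ?_) fun V v => ?_
  · haveI : Etale V.hom := V.prop
    obtain ⟨x⟩ := hV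
    obtain ⟨a, -⟩ := exists_min_mem_range (IsPullback.of_hasPullback V.hom f) hf (hd V x)
    exact ⟨a⟩
  · obtain ⟨O, hO, hv, -⟩ := exists_isAffineOpen_mem_and_subset (U := (⊤ : V.left.Opens)) (x := v) trivial
    haveI : Etale V.hom := V.prop
    let W : Y.Etale := Scheme.Etale.mk (O.ι ≫ V.hom)
    haveI : IsAffine W.left := hO
    haveI : CompactSpace ↥((𝟭 Scheme.{u}).obj W.left) := isCompact_iff_compactSpace.1 hO.isCompact
    haveI : Etale W.hom := W.prop
    refine ⟨W, MorphismProperty.Over.homMk O.ι rfl trivial, (⟨v, hv⟩ : O.toScheme), rfl, fun M' F => ?_⟩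
    let r : pullback W.hom (j ≫ f) ⟶ ((EtCoh.bc f).obj W).left :=
      pullback.map W.hom (j ≫ f) W.hom f (𝟙 _) j (𝟙 _) (by simp) (by simp)
    obtain ⟨F', hF'⟩ := exists_extend (IsPullback.of_hasPullback W.hom (j ≫ f)) hj (hd W)
      (F.comap ⟨r, r.continuous⟩)
    refine ⟨F', fun b => ?_⟩
    let fst : ((EtCoh.bc f).obj W).left ⟶ W.left := pullback.fst W.hom f
    obtain ⟨a, ha, -⟩ := exists_min_mem_range (IsPullback.of_hasPullback W.hom (j ≫ f)) hj (hd W (fst b))
    have hr : fst (r a) = pullback.fst W.hom (j ≫ f) a := by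
      refine (Scheme.Hom.comp_apply _ _ _).symm.trans ?_
      exact congrArg (fun t : pullback W.hom (j ≫ f) ⟶ W.left => t a) ((pullback.lift_fst _ _ _).trans (Category.comp_id _))
    haveI : IsPreimmersion fst := inferInstanceAs (IsPreimmersion (pullback.fst W.hom f))
    have h1 : r a ⤳ b := fst.isEmbedding.isInducing.specializes_iff.1 (hr.symm ▸ ha)
    show F b = F' (fst b)
    rw [← locallyConstant_eq_of_specializes F h1, ← locallyConstant_eq_of_specializes F' ha, ← hF' a]
    rfl

end Groth.Agent.EtFound.ConstVal
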