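import Groth.Agent.EtFound.FLCUniv
import Groth.Agent.EtFound.Descent
import Groth.Agent.SchTorsor.Props

/-!
# Finite locally constant sheaves are representable by finite etale schemes
-/

set_option autoImplicit false

universe u

open CategoryTheory CategoryTheory.Limits AlgebraicGeometry Opposite

namespace Groth.Agent.EtFound.FLCRep

set_option backward.isDefEq.respectTransparency false
set_option backward.isDefEq.respectTransparency.types false

variable {X : Scheme.{u}} {F : EtCoh.Ab X}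

theorem map_id_apply {A : X.Etale} (s : F.obj.obj (op A)) : F.obj.map (𝟙 A).op s = s := by
  rw [op_id, CategoryTheory.Functor.map_id]
  rfl

theorem exists_schDD {W E : X.Etale} (q : E ⟶ W) (s : F.obj.obj (op E)) (h : Univ F q s) :
    ∃ D : Desc.SchDD (X := W.left) W.hom, D.obj = Over.mk q.left ∧
      ∀ (T : X.Etale) (a : T ⟶ E) (w : T ⟶ W) (b : T.left ⟶ E.left)
        (he : (a ≫ q).left ≫ W.hom = w.left ≫ W.hom) (v : Desc.Lifts D.obj (a ≫ q).left)
        (hv : HEq v.1 a.left), HEq (D.φ (a ≫ q).left w.left he v).1 b →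
        ∃ b' : T ⟶ E, b'.left = b ∧ F.obj.map b'.op s = F.obj.map a.op s := by
  haveI : Etale E.hom := E.prop
  haveI : Etale W.hom := W.prop
  let EW : X.Etale := Scheme.Etale.mk (pullback.fst E.hom W.hom ≫ E.hom)
  let e₁ : EW ⟶ E := MorphismProperty.Over.homMk (pullback.fst E.hom W.hom) rfl trivial
  let e₂ : EW ⟶ W := MorphismProperty.Over.homMk (pullback.snd E.hom W.hom) pullback.condition.symm trivial
  obtain ⟨Φ, ⟨hΦq, hΦs⟩, -⟩ := h EW e₂ (F.obj.map e₁.op s)
  have hΦ : Φ.left ≫ q.left = pullback.snd E.hom W.hom := congrArg (fun m => m.left) hΦq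
  have hq : q.left ≫ W.hom = E.hom := MorphismProperty.Over.w q
  let pr {T : Scheme.{u}} {x₀ x₁ : T ⟶ W.left} (hx : x₀ ≫ W.hom = x₁ ≫ W.hom)
      (v : Desc.Lifts (Over.mk q.left) x₀) : T ⟶ EW.left :=
    pullback.lift v.1 x₁ (by
      rw [← hq, ← Category.assoc, show v.1 ≫ q.left = x₀ from v.2, hx])
  let φf {T : Scheme.{u}} (x₀ x₁ : T ⟶ W.left) (hx : x₀ ≫ W.hom = x₁ ≫ W.hom)
      (v : Desc.Lifts (Over.mk q.left) x₀) : Desc.Lifts (Over.mk q.left) x₁ :=
    ⟨pr hx v ≫ Φ.left, by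
      show (pr hx v ≫ Φ.left) ≫ q.left = x₁
      rw [Category.assoc, hΦ, pullback.lift_snd]⟩
  let ψ : E ⟶ EW := MorphismProperty.Over.homMk (pullback.lift (𝟙 E.left) q.left ((Category.id_comp _).trans hq.symm))
    (by show pullback.lift _ _ _ ≫ pullback.fst E.hom W.hom ≫ E.hom = E.hom; exact (pullback.lift_fst_assoc _ _ _ _).trans (Category.id_comp _)) trivial
  have hψ : ψ ≫ Φ = 𝟙 E := by
    refine (h E q s).unique ⟨?_, ?_⟩ ⟨Category.id_comp q, map_id_apply s⟩
    · rw [Category.assoc, hΦq]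
      exact MorphismProperty.Over.Hom.ext (pullback.lift_snd _ _ _)
    · rw [← map_map, hΦs, map_map, show ψ ≫ e₁ = 𝟙 E from MorphismProperty.Over.Hom.ext (pullback.lift_fst _ _ _),
        map_id_apply]
  have hself : ∀ {T : Scheme.{u}} (x : T ⟶ W.left) (v : Desc.Lifts (Over.mk q.left) x), φf x x rfl v = v := by
    intro T x v
    refine Subtype.ext ?_
    show pr rfl v ≫ Φ.left = v.1
    have : pr (rfl : x ≫ W.hom = x ≫ W.hom) v = v.1 ≫ ψ.left := by
      refine pullback.hom_ext ?_ ?_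
      · exact (pullback.lift_fst _ _ _).trans ((Category.comp_id v.1).symm.trans
          ((congrArg (v.1 ≫ ·) (pullback.lift_fst _ _ _).symm).trans (Category.assoc _ _ _).symm))
      · exact (pullback.lift_snd _ _ _).trans (v.2.symm.trans
          ((congrArg (v.1 ≫ ·) (pullback.lift_snd _ _ _).symm).trans (Category.assoc _ _ _).symm))
    rw [this, Category.assoc]
    exact (congrArg (v.1 ≫ ·) (congrArg (fun m => m.left) hψ)).trans (Category.comp_id _)
  let EWW : X.Etale := Scheme.Etale.mk (pullback.fst EW.hom W.hom ≫ EW.hom)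
  let g₁ : EWW ⟶ EW := MorphismProperty.Over.homMk (pullback.fst EW.hom W.hom) rfl trivial
  let g₂ : EWW ⟶ W := MorphismProperty.Over.homMk (pullback.snd EW.hom W.hom) pullback.condition.symm trivial
  let long : EWW ⟶ EW := MorphismProperty.Over.homMk
    (pullback.lift (g₁ ≫ Φ).left g₂.left ((MorphismProperty.Over.w (g₁ ≫ Φ)).trans (MorphismProperty.Over.w g₂).symm))
    (by show pullback.lift _ _ _ ≫ pullback.fst E.hom W.hom ≫ E.hom = EWW.hom
        rw [pullback.lift_fst_assoc]; exact MorphismProperty.Over.w (g₁ ≫ Φ)) trivial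
  let short : EWW ⟶ EW := MorphismProperty.Over.homMk
    (pullback.lift (g₁ ≫ e₁).left g₂.left ((MorphismProperty.Over.w (g₁ ≫ e₁)).trans (MorphismProperty.Over.w g₂).symm))
    (by show pullback.lift _ _ _ ≫ pullback.fst E.hom W.hom ≫ E.hom = EWW.hom
        rw [pullback.lift_fst_assoc]; exact MorphismProperty.Over.w (g₁ ≫ e₁)) trivial
  have hls : long ≫ Φ = short ≫ Φ := by
    refine (h EWW g₂ (F.obj.map (g₁ ≫ e₁).op s)).unique ⟨?_, ?_⟩ ⟨?_, ?_⟩
    · rw [Category.assoc, hΦq]; exact MorphismProperty.Over.Hom.ext (pullback.lift_snd _ _ _)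
    · rw [← map_map, hΦs, map_map, show long ≫ e₁ = g₁ ≫ Φ from MorphismProperty.Over.Hom.ext (pullback.lift_fst _ _ _),
        ← map_map g₁ Φ, hΦs, map_map]
    · rw [Category.assoc, hΦq]; exact MorphismProperty.Over.Hom.ext (pullback.lift_snd _ _ _)
    · rw [← map_map, hΦs, map_map, show short ≫ e₁ = g₁ ≫ e₁ from MorphismProperty.Over.Hom.ext (pullback.lift_fst _ _ _)]
  have hcomp : ∀ {T : Scheme.{u}} (x₀ x₁ x₂ : T ⟶ W.left) (h₀₁ : x₀ ≫ W.hom = x₁ ≫ W.hom) (h₁₂ : x₁ ≫ W.hom = x₂ ≫ W.hom)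
      (v : Desc.Lifts (Over.mk q.left) x₀), φf x₁ x₂ h₁₂ (φf x₀ x₁ h₀₁ v) = φf x₀ x₂ (h₀₁.trans h₁₂) v := by
    intro T x₀ x₁ x₂ h₀₁ h₁₂ v
    refine Subtype.ext ?_
    let m : T ⟶ EWW.left := pullback.lift (pr h₀₁ v) x₂ (by
      show pr h₀₁ v ≫ pullback.fst E.hom W.hom ≫ E.hom = x₂ ≫ W.hom
      rw [pullback.lift_fst_assoc, ← hq, ← Category.assoc, show v.1 ≫ q.left = x₀ from v.2, h₀₁, h₁₂])
    have m1 : m ≫ long.left = pr h₁₂ (φf x₀ x₁ h₀₁ v) := by
      refine pullback.hom_ext ?_ ?_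
      · refine (Category.assoc _ _ _).trans ((congrArg (m ≫ ·) (pullback.lift_fst _ _ _)).trans ?_)
        refine (Category.assoc _ _ _).symm.trans ?_
        exact (congrArg (· ≫ Φ.left) (pullback.lift_fst _ _ _)).trans (pullback.lift_fst _ _ _).symm
      · refine (Category.assoc _ _ _).trans ((congrArg (m ≫ ·) (pullback.lift_snd _ _ _)).trans ?_)
        exact (pullback.lift_snd _ _ _).trans (pullback.lift_snd _ _ _).symm
    have m2 : m ≫ short.left = pr (h₀₁.trans h₁₂) v := by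
      refine pullback.hom_ext ?_ ?_
      · refine (Category.assoc _ _ _).trans ((congrArg (m ≫ ·) (pullback.lift_fst _ _ _)).trans ?_)
        refine (Category.assoc _ _ _).symm.trans ?_
        exact ((congrArg (· ≫ e₁.left) (pullback.lift_fst _ _ _)).trans (pullback.lift_fst _ _ _)).trans (pullback.lift_fst _ _ _).symm
      · refine (Category.assoc _ _ _).trans ((congrArg (m ≫ ·) (pullback.lift_snd _ _ _)).trans ?_)
        exact (pullback.lift_snd _ _ _).trans (pullback.lift_snd _ _ _).symm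
    show pr h₁₂ (φf x₀ x₁ h₀₁ v) ≫ Φ.left = pr (h₀₁.trans h₁₂) v ≫ Φ.left
    rw [← m1, ← m2, Category.assoc, Category.assoc]
    exact congrArg (fun r => m ≫ r.left) hls
  let D : Desc.SchDD (X := W.left) W.hom :=
    { obj := Over.mk q.left
      φ := fun T x₀ x₁ hx =>
        { toFun := φf x₀ x₁ hx
          invFun := φf x₁ x₀ hx.symm
          left_inv := fun v => (hcomp x₀ x₁ x₀ hx hx.symm v).trans (hself x₀ v)
          right_inv := fun v => (hcomp x₁ x₀ x₁ hx.symm hx v).trans (hself x₁ v) }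
      φ_natural := fun T T' g x₀ x₁ hx hx' v v' hv' => by
        show pr hx' v' ≫ Φ.left = g ≫ pr hx v ≫ Φ.left
        rw [← Category.assoc]
        refine congrArg (· ≫ Φ.left) (pullback.hom_ext ?_ ?_)
        · exact (pullback.lift_fst _ _ _).trans (hv'.trans ((congrArg (g ≫ ·) (pullback.lift_fst _ _ _).symm).trans (Category.assoc _ _ _).symm))
        · exact (pullback.lift_snd _ _ _).trans ((congrArg (g ≫ ·) (pullback.lift_snd _ _ _).symm).trans (Category.assoc _ _ _).symm)
      φ_self := fun T x v => hself x v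
      φ_comp := fun T x₀ x₁ x₂ h₀₁ h₁₂ v => hcomp x₀ x₁ x₂ h₀₁ h₁₂ v }
  refine ⟨D, rfl, fun T a w b he v hv hb => ?_⟩
  let m : T ⟶ EW := MorphismProperty.Over.homMk
    (pullback.lift a.left w.left ((MorphismProperty.Over.w a).trans (MorphismProperty.Over.w w).symm))
    (by show pullback.lift _ _ _ ≫ pullback.fst E.hom W.hom ≫ E.hom = T.hom
        rw [pullback.lift_fst_assoc]; exact MorphismProperty.Over.w a) trivial
  refine ⟨m ≫ Φ, ?_, ?_⟩
  · refine Eq.trans ?_ (eq_of_heq hb)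
    show m.left ≫ Φ.left = pr he v ≫ Φ.left
    refine congrArg (· ≫ Φ.left) (pullback.hom_ext ?_ ?_)
    · exact (pullback.lift_fst _ _ _).trans ((eq_of_heq hv).symm.trans (pullback.lift_fst _ _ _).symm)
    · exact (pullback.lift_snd _ _ _).trans (pullback.lift_snd _ _ _).symm
  · rw [← map_map, hΦs, map_map, show m ≫ e₁ = a from MorphismProperty.Over.Hom.ext (pullback.lift_fst _ _ _)]

theorem exists_rep (hF : EtCoh.IsFiniteLocallyConstant F) :
    ∃ (U : X.Etale) (σ : F.obj.obj (op U)), IsFinite U.hom ∧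
      ∀ T : X.Etale, Function.Bijective fun b : T ⟶ U => F.obj.map b.op σ := by
  obtain ⟨W, E, q, s, hWs, hqf, huniv⟩ := exists_univ hF
  haveI := hWs
  haveI := hqf
  haveI : Etale W.hom := W.prop
  haveI : Etale q.left := etale_left q
  obtain ⟨D, hD, hφ⟩ := exists_schDD q s huniv
  obtain ⟨obj, φ, hn, hs₀, hc⟩ := D
  obtain rfl : obj = Over.mk q.left := hD
  let D' : Desc.SchDD (X := W.left) W.hom := ⟨Over.mk q.left, φ, hn, hs₀, hc⟩
  obtain ⟨U, ⟨i⟩⟩ := (DescLib.isEffective_ofSchDD_iff W.hom D').1 (DescLib.effective_of_affine_case @IsAffineHom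
    (DescLib.prop_sigmaMap' @IsAffineHom)
    (fun X S p _ _ _ _ D (hD : IsAffineHom D.obj.hom) =>
      haveI : IsAffine D.obj.left := isAffine_of_isAffineHom D.obj.hom
      DescLib.effective_affine p D)
    (fun _ : PUnit.{u + 1} => W.hom) (by
      rw [Presieve.ofArrows_pUnit]
      exact Scheme.fppfPrecoverage_le_fpqcPrecoverage _ ((Scheme.singleton_mem_precoverage_iff (P := @Flat ⊓ @LocallyOfFinitePresentation) W.hom).2
        ⟨W.hom.surjective, ⟨inferInstance, inferInstance⟩⟩)) _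
    fun _ => inferInstanceAs (IsAffineHom q.left))
  let e : pullback W.hom U.hom ⟶ E.left := i.hom.hom.left
  have heq : e ≫ q.left = pullback.fst W.hom U.hom := Over.w i.hom.hom
  let e' : E.left ⟶ pullback W.hom U.hom := i.inv.hom.left
  have hee' : e' ≫ e = 𝟙 E.left := congrArg (fun m => m.hom.left) i.inv_hom_id
  have he'e : e ≫ e' = 𝟙 _ := congrArg (fun m => m.hom.left) i.hom_inv_id
  haveI : IsIso e := ⟨e', he'e, hee'⟩
  have hfst : IsFinite (pullback.fst W.hom U.hom) := by rw [← heq]; infer_instance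
  have hfst' : Etale (pullback.fst W.hom U.hom) := by rw [← heq]; infer_instance
  haveI := fpqc_isFinite.{u}
  haveI := SchTorsor.etale_descendsAlong.{u}
  have hsur : (@Surjective ⊓ @Flat ⊓ @LocallyOfFinitePresentation : MorphismProperty Scheme.{u}) W.hom :=
    ⟨⟨inferInstance, inferInstance⟩, inferInstance⟩
  haveI hUf : IsFinite U.hom := MorphismProperty.of_pullback_fst_of_descendsAlong
    (P := @IsFinite) (Q := @Surjective ⊓ @Flat ⊓ @LocallyOfFinitePresentation) hsur hfst
  haveI hUe : Etale U.hom := MorphismProperty.of_pullback_fst_of_descendsAlong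
    (P := @Etale) (Q := @Surjective ⊓ @Flat ⊓ @LocallyOfFinitePresentation) hsur hfst'
  let U' : X.Etale := Scheme.Etale.mk U.hom
  let P : X.Etale := Scheme.Etale.mk (pullback.snd W.hom U.hom ≫ U.hom)
  let π : P ⟶ U' := MorphismProperty.Over.homMk (pullback.snd W.hom U.hom) rfl trivial
  let eP : P ⟶ E := MorphismProperty.Over.homMk e (by
    show e ≫ E.hom = pullback.snd W.hom U.hom ≫ U.hom
    rw [← MorphismProperty.Over.w q, ← Category.assoc, heq, pullback.condition]) trivial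
  have hagree : ∀ (Z : X.Etale) (a b : Z ⟶ P), a ≫ π = b ≫ π →
      F.obj.map (a ≫ eP).op s = F.obj.map (b ≫ eP).op s := by
    intro Z a b hab
    have hx : (a.left ≫ pullback.fst W.hom U.hom) ≫ W.hom = (b.left ≫ pullback.fst W.hom U.hom) ≫ W.hom := by
      rw [Category.assoc, Category.assoc, pullback.condition]
      exact (MorphismProperty.Over.w a).trans (MorphismProperty.Over.w b).symm
    let v₀ : Desc.Lifts (Over.mk (pullback.fst W.hom U.hom)) (a.left ≫ pullback.fst W.hom U.hom) := ⟨a.left, rfl⟩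
    let v₁ : Desc.Lifts (Over.mk q.left) (a.left ≫ pullback.fst W.hom U.hom) := ⟨a.left ≫ e, by
      show (a.left ≫ e) ≫ q.left = _
      rw [Category.assoc, heq]⟩
    have hcm := i.hom.comm (a.left ≫ pullback.fst W.hom U.hom) (b.left ≫ pullback.fst W.hom U.hom) hx v₀ v₁ rfl
    have hcan : (Desc.canMap W.hom U (a.left ≫ pullback.fst W.hom U.hom) (b.left ≫ pullback.fst W.hom U.hom) hx v₀).1 = b.left := by
      refine pullback.hom_ext ?_ ?_
      · exact pullback.lift_fst _ _ _
      · refine (pullback.lift_snd _ _ _).trans ?_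
        exact congrArg (fun m => m.left) hab
    have key : ∀ (x₀ : Z.left ⟶ W.left) (hx₀ : ((a ≫ eP) ≫ q).left = x₀)
        (hy : x₀ ≫ W.hom = (b.left ≫ pullback.fst W.hom U.hom) ≫ W.hom) (v : Desc.Lifts (Over.mk q.left) x₀),
        v.1 = a.left ≫ e → (φ x₀ (b.left ≫ pullback.fst W.hom U.hom) hy v).1 = b.left ≫ e →
          F.obj.map (a ≫ eP).op s = F.obj.map (b ≫ eP).op s := by
      rintro x₀ rfl hy v hv hb
      let w : Z ⟶ W := MorphismProperty.Over.homMk (b.left ≫ pullback.fst W.hom U.hom) (by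
        rw [Category.assoc, pullback.condition]
        exact MorphismProperty.Over.w b) trivial
      obtain ⟨b', hb', hs'⟩ := hφ Z (a ≫ eP) w (b.left ≫ e) hy v (heq_of_eq hv) (heq_of_eq hb)
      obtain rfl : b' = b ≫ eP := MorphismProperty.Over.Hom.ext hb'
      exact hs'.symm
    refine key _ ((Category.assoc a.left e q.left).trans (congrArg (a.left ≫ ·) heq)) hx v₁ rfl ?_
    refine hcm.trans ?_
    exact congrArg (· ≫ e) hcan
  haveI : Surjective π.left := inferInstanceAs (Surjective (pullback.snd W.hom U.hom))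
  haveI : Etale π.left := etale_left π
  have hsheaf := EtFound.isSheafFor_of_covers F (W := U') (fun _ : PUnit.{u + 1} => P) (fun _ => π) fun x => by
    obtain ⟨z, hz⟩ := π.left.surjective x
    exact ⟨⟨⟩, z, hz⟩
  obtain ⟨σ, hσ, -⟩ := (Presieve.isSheafFor_arrows_iff _ _).1 hsheaf (fun _ => F.obj.map eP.op s)
    (fun _ _ Z a b hab => by
      show F.obj.map a.op (F.obj.map eP.op s) = F.obj.map b.op (F.obj.map eP.op s)
      rw [map_map, map_map]
      exact hagree Z a b hab)
  have hσ' : F.obj.map π.op σ = F.obj.map eP.op s := hσ ⟨⟩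
  let eP' : E ⟶ P := MorphismProperty.Over.homMk e' (by
    show e' ≫ pullback.snd W.hom U.hom ≫ U.hom = E.hom
    rw [← pullback.condition, ← heq]
    calc e' ≫ (e ≫ q.left) ≫ W.hom = (e' ≫ e) ≫ q.left ≫ W.hom := by simp only [Category.assoc]
      _ = E.hom := by rw [hee']; exact (Category.id_comp _).trans (MorphismProperty.Over.w q)) trivial
  let pW : P ⟶ W := MorphismProperty.Over.homMk (pullback.fst W.hom U.hom) pullback.condition trivial
  haveI : Mono eP := (Scheme.Etale.forget X ⋙ CategoryTheory.Over.forget X).mono_of_mono_map (inferInstanceAs (Mono e))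
  refine ⟨U', σ, hUf, fun T => ?_⟩
  haveI : Etale T.hom := T.prop
  let T' : X.Etale := Scheme.Etale.mk (pullback.fst T.hom W.hom ≫ T.hom)
  let ρ : T' ⟶ T := MorphismProperty.Over.homMk (pullback.fst T.hom W.hom) rfl trivial
  let a : T' ⟶ W := MorphismProperty.Over.homMk (pullback.snd T.hom W.hom) pullback.condition.symm trivial
  haveI : Surjective ρ.left := inferInstanceAs (Surjective (pullback.fst T.hom W.hom))
  haveI : Etale ρ.left := etale_left ρ
  have hinj : ∀ {Z : X.Etale} (b₁ b₂ : Z ⟶ U'), F.obj.map b₁.op σ = F.obj.map b₂.op σ →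
      ∀ (Z' : X.Etale) (r : Z' ⟶ Z) (w : Z' ⟶ W), r ≫ b₁ = r ≫ b₂ := by
    intro Z b₁ b₂ hb Z' r w
    let c : ∀ b : Z ⟶ U', Z' ⟶ P := fun b => MorphismProperty.Over.homMk
      (pullback.lift w.left (r ≫ b).left ((MorphismProperty.Over.w w).trans (MorphismProperty.Over.w (r ≫ b)).symm))
      (by show pullback.lift _ _ _ ≫ pullback.snd W.hom U.hom ≫ U.hom = Z'.hom
          rw [pullback.lift_snd_assoc]; exact MorphismProperty.Over.w (r ≫ b)) trivial
    have hc : ∀ b, c b ≫ π = r ≫ b := fun b => MorphismProperty.Over.Hom.ext (pullback.lift_snd _ _ _)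
    have hcw : ∀ b, c b ≫ eP ≫ q = w := fun b => MorphismProperty.Over.Hom.ext
      ((congrArg (_ ≫ ·) heq).trans (pullback.lift_fst _ _ _))
    have h1 : c b₁ ≫ eP = c b₂ ≫ eP := (huniv Z' w (F.obj.map (r ≫ b₁).op σ)).unique
      ⟨(Category.assoc _ _ _).trans (hcw b₁), by rw [← map_map, ← hσ', map_map, hc]⟩
      ⟨(Category.assoc _ _ _).trans (hcw b₂), by
        rw [← map_map, ← hσ', map_map, hc, ← map_map r b₂, ← hb, map_map]⟩
    rw [← hc b₁, ← hc b₂, (cancel_mono eP).1 h1]
  haveI : Epi ρ := by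
    haveI : Epi ρ.left := Flat.epi_of_flat_of_surjective _
    exact (Scheme.Etale.forget X ⋙ CategoryTheory.Over.forget X).epi_of_epi_map (inferInstanceAs (Epi ρ.left))
  refine ⟨fun b₁ b₂ hb => (cancel_epi ρ).1 (hinj b₁ b₂ hb T' ρ a), fun t => ?_⟩
  obtain ⟨c, ⟨hcq, hcs⟩, -⟩ := huniv T' a (F.obj.map ρ.op t)
  have hb's : F.obj.map (c ≫ eP' ≫ π).op σ = F.obj.map ρ.op t := by
    rw [← map_map, ← map_map eP' π, hσ', map_map eP' eP, show eP' ≫ eP = 𝟙 E from MorphismProperty.Over.Hom.ext hee',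
      map_id_apply, hcs]
  obtain ⟨b, hb⟩ := exists_glue ρ (c ≫ eP' ≫ π) fun Z g₁ g₂ hg => by
    have h2 := hinj (g₁ ≫ c ≫ eP' ≫ π) (g₂ ≫ c ≫ eP' ≫ π)
      (by rw [← map_map, hb's, map_map, hg, ← map_map, ← hb's, map_map]) Z (𝟙 Z) (g₁ ≫ a)
    rwa [Category.id_comp, Category.id_comp] at h2
  refine ⟨b, EtFound.eq_of_cover F _ t ((mem_topology_iff _).2 fun τ => ?_)⟩
  obtain ⟨τ', hτ⟩ := ρ.left.surjective τ
  refine ⟨T', ρ, τ', ?_, hτ⟩
  show F.obj.map ρ.op (F.obj.map b.op σ) = F.obj.map ρ.op t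
  rw [map_map, hb, hb's]

end Groth.Agent.EtFound.FLCRep
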