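import Groth.Agent.EtFound.TorsionInd
import Groth.Agent.EtFound.NoethConstr
import Groth.Agent.S8526
import Groth.Agent.ProConsLib.Basic
import Mathlib.CategoryTheory.Filtered.Final
import Mathlib.CategoryTheory.Subobject.NoetherianObject
import Mathlib.CategoryTheory.Limits.Final

/-!
# Noetherian torsion sheaves, torsion sheaves with support conditions
-/

set_option autoImplicit false
set_option backward.isDefEq.respectTransparency false
set_option backward.isDefEq.respectTransparency.types false
set_option linter.style.haveILetI false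

universe u

open CategoryTheory CategoryTheory.Limits AlgebraicGeometry Opposite

namespace Groth.Agent.EtFound.TorsionInd

variable {X : Scheme.{u}} [IsNoetherian X] (F : EtCoh.Ab X)

theorem isConstructible_image (j : J F) : EtPBC.IsConstructible (image j.hom) :=
  isConstructible_of_epi (isConstructible_D F j) (factorThruImage j.hom)

theorem isConstructible_iff_isNoetherianObject (hF : EtCoh.IsTorsion F) :
    EtPBC.IsConstructible F ↔ IsNoetherianObject F := by
  refine ⟨fun h => (isNoetherianObject_iff_monotone_chain_condition F).2 fun c => (subobject_chain_stabilises h c).imp fun n hn m hm => (hn m hm).symm, fun h => ?_⟩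
  haveI : Nonempty (J F) := IsFiltered.nonempty
  obtain ⟨_, ⟨j₀, rfl⟩, hmax⟩ := (wellFounded_gt (α := Subobject F)).has_min
    (Set.range fun j : J F => imageSubobject (show (D F).obj j ⟶ F from j.hom)) (Set.range_nonempty _)
  let p : (D F).obj j₀ ⟶ F := j₀.hom
  have hle : ∀ j : J F, imageSubobject (show (D F).obj j ⟶ F from j.hom) ≤ imageSubobject p := fun j => by
    let k := IsFiltered.max j₀ j
    have hk : ∀ {i : J F} (f : i ⟶ k),
        imageSubobject (show (D F).obj i ⟶ F from i.hom) ≤ imageSubobject (show (D F).obj k ⟶ F from k.hom) := fun {i} f => by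
      rw [show (show (D F).obj i ⟶ F from i.hom) = (D F).map f ≫ (show (D F).obj k ⟶ F from k.hom) from (CostructuredArrow.w f).symm]
      exact imageSubobject_comp_le _ _
    exact (hk (IsFiltered.rightToMax j₀ j)).trans
      ((eq_of_le_of_not_lt (hk (IsFiltered.leftToMax j₀ j)) (hmax _ ⟨k, rfl⟩)).ge)
  haveI : Epi p := by
    refine Preadditive.epi_of_cokernel_zero ((isColimit F hF).hom_ext fun j => ?_)
    show (show (D F).obj j ⟶ F from j.hom) ≫ cokernel.π p = j.hom ≫ 0
    rw [comp_zero, ← imageSubobject_arrow_comp (show (D F).obj j ⟶ F from j.hom), Category.assoc]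
    have h0 : (imageSubobject p).arrow ≫ cokernel.π p = 0 := by
      rw [← cancel_epi (factorThruImageSubobject p), imageSubobject_arrow_comp_assoc, cokernel.condition, comp_zero]
    rw [← Subobject.ofLE_arrow (hle j), Category.assoc, h0, comp_zero, comp_zero]
  exact isConstructible_of_epi (isConstructible_D F j₀) p

variable (E : Set X)

/-- Stages supported in a closed subset of `E`. -/
abbrev PE : ObjectProperty (J F) := fun j => ∃ Z : Set X, IsClosed Z ∧ Z ⊆ E ∧ EtPBC.supp ((D F).obj j) ⊆ Z

theorem supp_subset_of_mono {G : EtCoh.Ab X} (i : G ⟶ F) [Mono i] : EtPBC.supp G ⊆ EtPBC.supp F := by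
  rintro x ⟨Ω, _, _, ξ, hξ, hG⟩
  refine ⟨Ω, inferInstance, inferInstance, ξ, hξ, fun hF => hG ?_⟩
  haveI : Mono ((EtCoh.stalk ξ).map i) :=
    (AddCommGrpCat.mono_iff_injective _).2 ((mono_iff_stalks i).1 inferInstance Ω ξ)
  exact IsZero.of_mono ((EtCoh.stalk ξ).map i) hF

theorem supp_subset_of_iso {G G' : EtCoh.Ab X} (e : G ≅ G') : EtPBC.supp G' ⊆ EtPBC.supp G := by
  rintro x ⟨Ω, _, _, ξ, hξ, hG⟩
  exact ⟨Ω, inferInstance, inferInstance, ξ, hξ, fun h => hG (h.of_iso ((EtCoh.stalk ξ).mapIso e).symm)⟩

theorem exists_colimit_supp (hE : StableUnderSpecialization E) (hF : EtCoh.IsTorsion F) (hsupp : EtPBC.supp F ⊆ E) :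
    ∃ (J' : Type (u + 1)) (_ : SmallCategory J') (_ : IsFiltered J') (D' : J' ⥤ EtCoh.Ab X)
      (c : Cocone D') (_ : IsColimit c), Nonempty (c.pt ≅ F) ∧
      ∀ j, EtPBC.IsConstructible (D'.obj j) ∧
        ∃ Z : Set X, IsClosed Z ∧ Z ⊆ E ∧ EtPBC.supp (D'.obj j) ⊆ Z := by
  have hex : ∀ j : J F, ∃ k : (PE F E).FullSubcategory, Nonempty (j ⟶ (PE F E).ι.obj k) := fun j => by
    let p : (D F).obj j ⟶ F := j.hom
    have hc : EtPBC.IsConstructible (image p) := isConstructible_image F j
    obtain ⟨k, e, he⟩ := exists_j F hc (image.ι p)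
    have hs : closure (EtPBC.supp (image p)) ⊆ E := fun y hy => by
      obtain ⟨z, hz, hzy⟩ := (ProConsLib.consClosed_of_isLocallyConstructible
        (Groth.Agent.S8526.result _ hc)).exists_specializes_of_mem_closure hy
      exact hE hzy (hsupp (supp_subset_of_mono F (image.ι p) hz))
    refine ⟨⟨k, closure (EtPBC.supp (image p)), isClosed_closure, hs, (supp_subset_of_iso e).trans subset_closure⟩,
      ⟨CostructuredArrow.homMk (InducedCategory.homMk (factorThruImage p ≫ e.hom)) ?_⟩⟩
    show (factorThruImage p ≫ e.hom) ≫ k.hom = p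
    rw [Category.assoc, he, image.fac]
  haveI := IsFiltered.of_exists_of_isFiltered_of_fullyFaithful (PE F E).ι hex
  haveI := Functor.final_of_exists_of_isFiltered_of_fullyFaithful (PE F E).ι hex
  exact ⟨(PE F E).FullSubcategory, inferInstance, inferInstance, (PE F E).ι ⋙ D F, (cocone F).whisker (PE F E).ι,
    (Functor.Final.isColimitWhiskerEquiv (PE F E).ι (cocone F)).symm (isColimit F hF), ⟨Iso.refl _⟩,
    fun j => ⟨isConstructible_D F j.obj, j.property⟩⟩

end Groth.Agent.EtFound.TorsionInd
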