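import Groth.Agent.EtFound.AbRecollement
import Groth.Agent.EtFound.SepClosedField
import Groth.Agent.EtFound.PushExact
import Groth.Agent.EtFound.Immersion
import Groth.Agent.EtFound.GermSupp
import Groth.Agent.EtLC12.QcqsAcyclic
import Groth.Agent.EtFound.ConstAcyclic
import Groth.Agent.EtFound.TorsionSupp
import Groth.Agent.AlgSpDec.OnePoint

/-!
# Sheaves supported in closed points over a separably closed field are acyclic
-/

universe u

open CategoryTheory CategoryTheory.Limits AlgebraicGeometry Opposite Abelian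

namespace Groth.Agent.EtFound.ClosedSupp

set_option backward.isDefEq.respectTransparency.types false

section point

variable {k : Type u} [Field k] [IsSepClosed k]

theorem surjective_sections {I Q : EtCoh.Ab (Spec (CommRingCat.of k))} (a : I ⟶ Q) [Epi a]
    {W : (Spec (CommRingCat.of k)).Etale} (hW : IsTerminal W) : Function.Surjective (a.hom.app (op W)).hom := by
  haveI := sectTop_isEquivalence (k := k) (A := AddCommGrpCat.{u + 1})
  have h : Epi (((sheafSections (Spec (CommRingCat.of k)).smallEtaleTopology AddCommGrpCat.{u + 1}).obj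
      (op (EtCoh.top (Spec (CommRingCat.of k))))).map a) := inferInstance
  rw [AddCommGrpCat.epi_iff_surjective] at h
  intro z
  let e := hW.uniqueUpToIso (MorphismProperty.Over.mkIdTerminal EtCoh.etaleMP (Spec (CommRingCat.of k)))
  obtain ⟨w, hw⟩ := h ((Q.obj.map e.inv.op).hom z)
  refine ⟨(I.obj.map e.hom.op).hom w, ?_⟩
  refine (NatTrans.naturality_apply a.hom e.hom.op w).trans ?_
  refine (congrArg (Q.obj.map e.hom.op).hom hw).trans ?_
  rw [← AddCommGrpCat.comp_apply, ← Functor.map_comp, ← op_comp, e.hom_inv_id, op_id, Q.obj.map_id]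
  rfl

theorem subsingleton_H_push {X : Scheme.{u}} (i : Spec (CommRingCat.of k) ⟶ X) [IsClosedImmersion i] :
    ∀ (q : ℕ) (G : EtCoh.Ab (Spec (CommRingCat.of k))), Subsingleton (EtCoh.H X ((EtCoh.push i).obj G) (q + 1)) := by
  haveI := EtFound.pull_preservesFiniteLimits i
  haveI := EtFound.push_preservesFiniteColimits i
  haveI := EtFound.push_preservesFiniteLimits i
  intro q
  induction q with
  | zero =>
    intro G
    let S := ShortComplex.mk (Injective.ι G) (cokernel.π _) (cokernel.condition (Injective.ι G))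
    have hS0 : S.ShortExact := { exact := ShortComplex.exact_of_g_is_cokernel _ (cokernelIsCokernel _) }
    have hS := hS0.map_of_exact (EtCoh.push i)
    haveI : Injective (S.map (EtCoh.push i)).X₂ :=
      Injective.injective_of_adjoint (EtCoh.pullPushAdj i) (Injective.under G)
    refine subsingleton_of_forall_eq 0 fun x => ?_
    obtain ⟨z, rfl⟩ := Ext.covariant_sequence_exact₁ _ hS x (Ext.eq_zero_of_injective _) (rfl : 0 + 1 = 1)
    obtain ⟨φ, rfl⟩ := (Ext.mk₀_bijective _ _).2 z
    let hT := MorphismProperty.Over.mkIdTerminal EtCoh.etaleMP X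
    let adj := constantSheafAdj X.smallEtaleTopology AddCommGrpCat.{u + 1} hT
    haveI : Epi S.g := hS0.epi_g
    obtain ⟨a, ha⟩ := surjective_sections (k := k) S.g (IsTerminal.isTerminalObj (EtCoh.bc i) _ hT)
      (adj.homEquiv _ _ φ ⟨1⟩)
    let a' : (S.map (EtCoh.push i)).X₂.obj.obj (op (EtCoh.top X)) := a
    have hφ : (adj.homEquiv _ (S.map (EtCoh.push i)).X₂).symm ((AddCommGrpCat.uliftZMultiplesAddEquiv _).symm a') ≫
        (S.map (EtCoh.push i)).g = φ := by
      apply (adj.homEquiv _ _).injective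
      rw [Adjunction.homEquiv_naturality_right, Equiv.apply_symm_apply]
      apply (AddCommGrpCat.uliftZMultiplesAddEquiv _).injective
      refine Eq.trans ?_ ha
      exact congrArg ((S.map (EtCoh.push i)).g.hom.app (op (EtCoh.top X)))
        ((AddCommGrpCat.uliftZMultiplesAddEquiv _).apply_symm_apply a')
    rw [← hφ, ← Ext.mk₀_comp_mk₀, Ext.comp_assoc_of_second_deg_zero, hS.comp_extClass, Ext.comp_zero]
    rfl
  | succ n ih =>
    intro G
    let S := ShortComplex.mk (Injective.ι G) (cokernel.π _) (cokernel.condition (Injective.ι G))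
    have hS0 : S.ShortExact := { exact := ShortComplex.exact_of_g_is_cokernel _ (cokernelIsCokernel _) }
    have hS := hS0.map_of_exact (EtCoh.push i)
    haveI : Injective (S.map (EtCoh.push i)).X₂ :=
      Injective.injective_of_adjoint (EtCoh.pullPushAdj i) (Injective.under G)
    refine subsingleton_of_forall_eq 0 fun x => ?_
    obtain ⟨z, rfl⟩ := Ext.covariant_sequence_exact₁ _ hS x (Ext.eq_zero_of_injective _) (rfl : (n + 1) + 1 = _)
    haveI := ih S.X₃
    rw [show z = 0 from @Subsingleton.elim (EtCoh.H X ((EtCoh.push i).obj S.X₃) (n + 1)) _ z 0, Ext.zero_comp]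
    rfl

end point

variable {X : Scheme.{u}}

/-- `supp` does not see the choice of geometric point. -/
theorem isZero_stalk_of_not_mem {F : EtCoh.Ab X} {Ω : Type u} [Field Ω] [IsSepClosed Ω]
    (ξ : Spec (CommRingCat.of Ω) ⟶ X) (h : ξ.base (default : Spec (CommRingCat.of Ω)) ∉ EtPBC.supp F) :
    IsZero ((EtCoh.stalk ξ).obj F) := by
  by_contra hz
  exact h ⟨Ω, inferInstance, inferInstance, ξ, range_point ξ, hz⟩

theorem supp_subset_of_mono' {F G : EtCoh.Ab X} (i : G ⟶ F) [Mono i] : EtPBC.supp G ⊆ EtPBC.supp F := by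
  rintro x ⟨Ω, _, _, ξ, hξ, hG⟩
  refine ⟨Ω, inferInstance, inferInstance, ξ, hξ, fun hF => hG ?_⟩
  haveI : Mono ((EtCoh.stalk ξ).map i) :=
    (AddCommGrpCat.mono_iff_injective _).2 ((mono_iff_stalks i).1 inferInstance Ω ξ)
  exact IsZero.of_mono ((EtCoh.stalk ξ).map i) hF

theorem subsingleton_H_of_finite {K : Type u} [Field K] [IsSepClosed K] (a : X ⟶ Spec (CommRingCat.of K))
    [LocallyOfFiniteType a] : ∀ (S : Finset X), (∀ x ∈ S, IsClosed ({x} : Set X)) →
    ∀ (F : EtCoh.Ab X), EtPBC.supp F ⊆ (S : Set X) → ∀ q, Subsingleton (EtCoh.H X F (q + 1)) := by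
  classical
  intro S
  induction S using Finset.induction with
  | empty =>
    intro _ F hF q
    have h0 : IsZero F := (IsZero.iff_id_eq_zero _).2 (eq_of_stalks _ _ fun Ω _ _ ξ =>
      (isZero_stalk_of_not_mem ξ fun h => by simpa using hF h).eq_of_src _ _)
    refine subsingleton_of_forall_eq 0 fun x => ?_
    rw [← Ext.comp_mk₀_id x, h0.eq_of_src (𝟙 F) 0, Ext.mk₀_zero, Ext.comp_zero]
  | insert x S hx ih =>
    intro hcl F hF q
    have hxc : IsClosed ({x} : Set X) := hcl x (Finset.mem_insert_self x S)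
    haveI := AlgSpDec.isClosedImmersion_fromSpecResidueField hxc
    let i := X.fromSpecResidueField x
    haveI : IsClosedImmersion i := AlgSpDec.isClosedImmersion_fromSpecResidueField hxc
    haveI : IsSepClosed (X.residueField x) := by
      obtain ⟨φ, hφ⟩ := Spec.map_surjective (i ≫ a)
      have hft : φ.hom.FiniteType := by
        rw [← HasRingHomProperty.Spec_iff (P := @LocallyOfFiniteType), hφ]
        infer_instance
      algebraize [φ.hom]
      haveI : Module.Finite K (X.residueField x) := finite_of_finite_type_of_isJacobsonRing _ _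
      exact Algebra.IsAlgebraic.isSepClosed (F := K)
    let U : X.Opens := ⟨{x}ᶜ, hxc.isOpen_compl⟩
    haveI : EtShriek.JCont U.ι := EtFound.jCont U.ι
    have hU : Set.range U.ι.base = (Set.range i.base)ᶜ := by
      rw [Scheme.range_fromSpecResidueField]
      exact Scheme.Opens.range_ι U
    obtain ⟨w, hw⟩ := recollement_shortExact i U.ι hU F
    refine subsingleton_of_forall_eq 0 fun c => ?_
    have h3 := @subsingleton_H_push (X.residueField x) _ ‹_› X i ‹_› q ((EtCoh.pull i).obj F)
    obtain ⟨d, rfl⟩ := Ext.covariant_sequence_exact₂ _ hw c (@Subsingleton.elim _ h3 _ _)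
    have hsupp : EtPBC.supp ((EtShriek.extZero U.ι).obj ((EtShriek.restrAlong U.ι).obj F)) ⊆ (S : Set X) := by
      intro y hy
      haveI : Mono ((EtShriek.extZeroAdj U.ι).counit.app F) := hw.mono_f
      rcases Finset.mem_insert.1 (Finset.mem_coe.1 (hF (supp_subset_of_mono'
        ((EtShriek.extZeroAdj U.ι).counit.app F) hy))) with h | h
      · obtain ⟨Ω, _, _, ξ, hξ, hne⟩ := hy
        exfalso
        refine hne (isZero_stalk_extZero U.ι ξ ?_ _)
        subst h
        rw [hU, Scheme.range_fromSpecResidueField, Set.mem_compl_iff, not_not]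
        rw [← hξ]
        exact Set.mem_range_self _
      · exact h
    rw [@Subsingleton.elim _ (ih (fun z hz => hcl z (Finset.mem_insert_of_mem hz)) _ hsupp q) d 0, Ext.zero_comp]

section colim

variable (F : EtCoh.Ab X)

/-- finite sets of closed points -/
abbrev Idx (X : Scheme.{u}) : Type (u + 1) := ULift.{u + 1} (Finset {x : X // IsClosed ({x} : Set X)})

def pts (S : Idx X) : Set X := Subtype.val '' (S.down : Set {x : X // IsClosed ({x} : Set X)})

theorem isClosed_pts (S : Idx X) : IsClosed (pts S) := by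
  rw [pts, Set.image_eq_iUnion]
  exact S.down.finite_toSet.isClosed_biUnion fun x _ => x.2

def compl (S : Idx X) : X.Opens := ⟨(pts S)ᶜ, (isClosed_pts S).isOpen_compl⟩

theorem pts_mono {S T : Idx X} (h : S ≤ T) : pts S ⊆ pts T := Set.image_mono (Finset.coe_subset.2 h)

noncomputable def eta (S : Idx X) : F ⟶ (EtCoh.push (compl S).ι).obj ((EtCoh.pull (compl S).ι).obj F) :=
  (EtCoh.pullPushAdj (compl S).ι).unit.app F

/-- the sections supported in a finite set -/
noncomputable def sub (S : Idx X) : EtCoh.Ab X := kernel (eta F S)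

theorem supp_sub (S : Idx X) : EtPBC.supp (sub F S) ⊆ pts S := by
  rintro y ⟨Ω, _, _, ξ, hξ, hne⟩
  by_contra hy
  refine hne ((IsZero.iff_id_eq_zero _).2 ?_)
  have hmem : ξ.base (default : Spec (CommRingCat.of Ω)) ∈ Set.range (compl S).ι.base := by
    rw [Scheme.Opens.range_ι]
    exact fun h => hy (by
      have : ξ.base (default : Spec (CommRingCat.of Ω)) ∈ ({y} : Set X) := hξ ▸ Set.mem_range_self _
      exact (Set.mem_singleton_iff.1 this) ▸ h)
  have hiso : IsIso ((EtCoh.stalk ξ).map (eta F S)) := by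
    refine isIso_stalk_of_lift (compl S).ι _ ξ hmem fun k _ _ z => ?_
    refine (NatIso.isIso_map_iff (sheafFiberPullIso (A := AddCommGrpCat.{u + 1}) (compl S).ι z) _).1 ?_
    have := counit_isIso (A := AddCommGrpCat.{u + 1}) (compl S).ι (liftable_of_isImmersion _)
      ((EtCoh.pull (compl S).ι).obj F)
    have : IsIso ((EtCoh.pull (compl S).ι).map (eta F S)) :=
      @IsIso.of_isIso_fac_right _ _ _ _ _ _ _ _ this (IsIso.id _)
        ((EtCoh.pullPushAdj (compl S).ι).left_triangle_components F)
    exact inferInstanceAs (IsIso ((EtCoh.stalk z).map ((EtCoh.pull (compl S).ι).map (eta F S))))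
  haveI : Mono ((EtCoh.stalk ξ).map (kernel.ι (eta F S))) :=
    (AddCommGrpCat.mono_iff_injective _).2 ((mono_iff_stalks _).1 inferInstance Ω ξ)
  refine (cancel_mono ((EtCoh.stalk ξ).map (kernel.ι (eta F S)))).1 ((cancel_mono ((EtCoh.stalk ξ).map (eta F S))).1 ?_)
  refine Eq.trans ?_ ((congrArg (· ≫ (EtCoh.stalk ξ).map (eta F S)) zero_comp).trans zero_comp).symm
  refine (congrArg (· ≫ (EtCoh.stalk ξ).map (eta F S)) (Category.id_comp _)).trans ?_
  exact ((EtCoh.stalk ξ).map_comp _ _).symm.trans ((congrArg (EtCoh.stalk ξ).map (kernel.condition _)).trans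
    ((EtCoh.stalk ξ).map_zero _ _))

theorem comp_eta_eq_zero {G : EtCoh.Ab X} (a : G ⟶ F) (S : Idx X) (h : EtPBC.supp G ⊆ pts S) : a ≫ eta F S = 0 := by
  have h0 : IsZero ((EtCoh.pull (compl S).ι).obj G) := (IsZero.iff_id_eq_zero _).2 (eq_of_stalks _ _ fun Ω _ _ z =>
    (IsZero.of_iso (isZero_stalk_of_not_mem (F := G) (z ≫ (compl S).ι) fun hm => by
      have hz : (z ≫ (compl S).ι).base (default : Spec (CommRingCat.of Ω)) ∈ (compl S : Set X) := by
        rw [Scheme.Hom.comp_apply]
        exact ((z.base default : (compl S).toScheme)).2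
      exact hz (h hm))
      ((sheafFiberPullIso (A := AddCommGrpCat.{u + 1}) (compl S).ι z).app G)).eq_of_src _ _)
  apply ((EtCoh.pullPushAdj (compl S).ι).homEquiv _ _).symm.injective
  exact h0.eq_of_src _ _

noncomputable def subMap {S T : Idx X} (h : S ≤ T) : sub F S ⟶ sub F T :=
  kernel.lift _ (kernel.ι (eta F S)) (comp_eta_eq_zero F _ T ((supp_sub F S).trans (pts_mono h)))

noncomputable def diag : Idx X ⥤ EtCoh.Ab X where
  obj := sub F
  map f := subMap F (leOfHom f)
  map_id S := by simp [subMap, sub]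
  map_comp f g := by simp [subMap, sub, ← cancel_mono (kernel.ι (eta F _))]

noncomputable def cocone : Cocone (diag F) where
  pt := F
  ι :=
    { app := fun S => kernel.ι (eta F S)
      naturality := fun S T f => by simp [diag, subMap, sub] }

theorem exists_lift_section {K : Type u} [Field K] (a : X ⟶ Spec (CommRingCat.of K)) [LocallyOfFiniteType a]
    (hF : ∀ x ∈ EtPBC.supp F, IsClosed ({x} : Set X)) (V : X.Etale) [IsAffine V.left] (s : F.obj.obj (op V)) :
    ∃ (S : Idx X) (t : (sub F S).obj.obj (op V)), ((kernel.ι (eta F S)).hom.app (op V)).hom t = s := by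
  classical
  haveI : Etale V.hom := V.prop
  haveI : IsNoetherian V.left := by
    haveI : IsLocallyNoetherian V.left := LocallyOfFiniteType.isLocallyNoetherian (V.hom ≫ a)
    exact ⟨⟩
  have hcl : ∀ v ∈ germSupp F V s, IsClosed ({V.hom.base v} : Set X) := by
    intro v hv
    obtain ⟨Ω, _, _, ξ, z, rfl⟩ := exists_algClosed_point V v
    refine hF _ ⟨Ω, inferInstance, inferInstance, ξ, ?_, fun h0 => ?_⟩
    · rw [range_point ξ]
      exact congrArg _ (hom_ptOf z).symm
    · exact (mem_germSupp_iff s z).1 hv (@Subsingleton.elim _ (AddCommGrpCat.subsingleton_of_isZero h0) _ _)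
  have hfin : (germSupp F V s).Finite := by
    have hd : ∀ v ∈ germSupp F V s, ∀ w, v ⤳ w → v = w := by
      intro v hv w hvw
      have hc := (hcl v hv).preimage V.hom.continuous
      have hw : w ∈ V.hom.base ⁻¹' {V.hom.base v} := hvw.mem_closed hc rfl
      have hdisc : _root_.IsDiscrete (V.hom.base ⁻¹' ({V.hom.base v} : Set X)) := V.hom.isDiscrete_preimage_singleton _
      rw [isDiscrete_iff_discreteTopology] at hdisc
      exact congrArg Subtype.val (((Topology.IsInducing.subtypeVal.specializes_iff).1 (show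
        (⟨v, rfl⟩ : ↥(V.hom.base ⁻¹' ({V.hom.base v} : Set X))).1 ⤳ (⟨w, hw⟩ :
          ↥(V.hom.base ⁻¹' ({V.hom.base v} : Set X))).1 from hvw)).eq)
    obtain ⟨T, hTf, hTc, hTi, hTu⟩ := TopologicalSpace.NoetherianSpace.exists_finite_set_isClosed_irreducible
      (isClosed_germSupp F V s)
    rw [hTu]
    refine Set.Finite.sUnion hTf fun Z hZ => ?_
    obtain ⟨η, hη⟩ := QuasiSober.sober (hTi Z hZ) (hTc Z hZ)
    refine (Set.finite_singleton η).subset fun w hw => ?_
    have hηm : η ∈ germSupp F V s := hTu ▸ Set.subset_sUnion_of_mem hZ hη.mem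
    exact (hd η hηm w (hη.specializes hw)).symm
  let S : Idx X := ⟨(hfin.image V.hom.base).toFinset.subtype fun x => IsClosed ({x} : Set X)⟩
  have hsub : ∀ v ∈ germSupp F V s, V.hom.base v ∈ pts S := fun v hv =>
    ⟨⟨V.hom.base v, hcl v hv⟩, Finset.mem_coe.2 (Finset.mem_subtype.2
      ((hfin.image V.hom.base).mem_toFinset.2 ⟨v, hv, rfl⟩)), rfl⟩
  let O : V.left.Opens := V.hom ⁻¹ᵁ compl S
  let W : X.Etale := Scheme.Etale.mk (O.ι ≫ V.hom)
  let g : W ⟶ V := MorphismProperty.Over.homMk O.ι rfl trivial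
  have hsW : (F.obj.map g.op).hom s = 0 := by
    refine (((isSheaf_iff_isSheaf_of_type _ _).1 ((sheafCompose X.smallEtaleTopology (forget AddCommGrpCat.{u + 1})).obj F).property).isSeparated
      _ (equalizerSieve_mem_of_germs F.obj W ((F.obj.map g.op).hom s) 0 fun Ω _ _ ξ z => ?_)).ext fun T h hh => hh
    rw [map_zero, (Scheme.pointSmallEtale ξ).toPresheafFiber_w_apply]
    by_contra hne
    have hp := hsub _ ((mem_germSupp_iff s _).2 hne)
    rw [ptOf_map] at hp
    exact (ptOf z : O.toScheme).2 hp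
  haveI : IsIso ((EtCoh.bc (compl S).ι).map g) := by
    have sq := EtCoh.isPullback_bc_map (compl S).ι g
    haveI : IsIso ((EtCoh.bc (compl S).ι).map g).left := by
      have : IsOpenImmersion ((EtCoh.bc (compl S).ι).map g).left :=
        MorphismProperty.of_isPullback sq.flip (inferInstanceAs (IsOpenImmersion O.ι))
      refine isIso_of_isOpenImmersion_of_opensRange_eq_top _ (TopologicalSpace.Opens.ext (Set.eq_univ_of_forall fun p => ?_))
      have hp : (pullback.fst V.hom (compl S).ι).base p ∈ O := by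
        show V.hom.base ((pullback.fst V.hom (compl S).ι).base p) ∈ compl S
        rw [← Scheme.Hom.comp_apply, pullback.condition, Scheme.Hom.comp_apply]
        exact ((pullback.snd V.hom (compl S).ι).base p).2
      obtain ⟨q, hq, -⟩ := Scheme.Pullback.exists_preimage_pullback
        (f := (pullback.fst V.hom (compl S).ι : ((EtCoh.bc (compl S).ι).obj V).left ⟶ V.left)) (g := g.left)
        p (⟨_, hp⟩ : O.toScheme) rfl
      refine ⟨sq.isoPullback.inv q, ?_⟩
      rw [← Scheme.Hom.comp_apply, IsPullback.isoPullback_inv_fst]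
      exact hq
    haveI : IsIso ((Scheme.Etale.forget _ ⋙ CategoryTheory.Over.forget _).map ((EtCoh.bc (compl S).ι).map g)) := this
    exact isIso_of_reflects_iso ((EtCoh.bc (compl S).ι).map g) (Scheme.Etale.forget _ ⋙ CategoryTheory.Over.forget _)
  have hs0 : ((eta F S).hom.app (op V)).hom s = 0 := by
    have hinj : Function.Injective (((EtCoh.push (compl S).ι).obj ((EtCoh.pull (compl S).ι).obj F)).obj.map g.op).hom :=
      ((ConcreteCategory.isIso_iff_bijective _).1 (inferInstanceAs (IsIso
        (((EtCoh.pull (compl S).ι).obj F).obj.map ((EtCoh.bc (compl S).ι).map g).op)))).1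
    apply hinj
    rw [map_zero]
    exact (NatTrans.naturality_apply (eta F S).hom g.op s).symm.trans
      ((congrArg ((eta F S).hom.app (op W)).hom hsW).trans (map_zero _))
  have hker : (ShortComplex.mk (kernel.ι (eta F S)) (eta F S) (kernel.condition _)).Exact :=
    ShortComplex.exact_of_f_is_kernel _ (kernelIsKernel _)
  obtain ⟨t, ht⟩ := (SiteBase.secExact_iff _ V).1 (hker.map_of_mono_of_preservesKernel
      (sheafToPresheaf X.smallEtaleTopology AddCommGrpCat.{u + 1} ⋙
        (evaluation X.Etaleᵒᵖ AddCommGrpCat.{u + 1}).obj (op V)) inferInstance inferInstance) s hs0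
  exact ⟨S, t, ht⟩

theorem subsingleton_H {K : Type u} [Field K] [IsSepClosed K] (a : X ⟶ Spec (CommRingCat.of K))
    [LocallyOfFiniteType a] [QuasiCompact a] [CompactSpace X] [QuasiSeparatedSpace X]
    (hF : ∀ x ∈ EtPBC.supp F, IsClosed ({x} : Set X)) (q : ℕ) : Subsingleton (EtCoh.H X F (q + 1)) := by
  classical
  haveI : IsDirected (Idx X) (· ≤ ·) := ⟨fun i j =>
    ⟨⟨i.down ∪ j.down⟩, ULift.down_le.1 Finset.subset_union_left, ULift.down_le.1 Finset.subset_union_right⟩⟩
  haveI : Nonempty (Idx X) := ⟨⟨∅⟩⟩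
  haveI : IsFiltered (Idx X) := isFiltered_of_directed_le_nonempty _
  let d := colimit.desc (diag F) (cocone F)
  have hι : ∀ (S : Idx X) (V : X.Etale) z, (d.hom.app (op V)).hom ((colimit.ι (diag F) S).hom.app (op V) z) =
      ((kernel.ι (eta F S)).hom.app (op V)).hom z := fun S V z =>
    congrArg (fun t : (diag F).obj S ⟶ F => (t.hom.app (op V)).hom z) (colimit.ι_desc (cocone F) S)
  haveI : Sheaf.IsLocallyInjective d := ⟨fun {W} s t e => by
    refine (mem_topology_iff _).2 fun x => ?_
    obtain ⟨O, hO, hx, -⟩ := exists_isAffineOpen_mem_and_subset (U := (⊤ : W.unop.left.Opens)) (x := x) trivial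
    haveI : Etale W.unop.hom := W.unop.prop
    let V : X.Etale := Scheme.Etale.mk (O.ι ≫ W.unop.hom)
    let g : V ⟶ W.unop := MorphismProperty.Over.homMk O.ι rfl trivial
    haveI : IsAffine V.left := hO
    haveI := preservesColimitsOfShape_sections_qcqs_ab V (isQcqsObj_of_isAffine V) (Idx X)
    let hc := isColimitOfPreserves (sheafToPresheaf X.smallEtaleTopology AddCommGrpCat.{u + 1} ⋙
      (evaluation X.Etaleᵒᵖ AddCommGrpCat.{u + 1}).obj (op V)) (colimit.isColimit (diag F))
    refine ⟨V, g, (⟨x, hx⟩ : O.toScheme), ?_, rfl⟩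
    obtain ⟨j, b, hb⟩ := Concrete.isColimit_exists_rep _ hc
      (((colimit (diag F)).obj.map g.op).hom s - ((colimit (diag F)).obj.map g.op).hom t)
    show ((colimit (diag F)).obj.map g.op).hom s = ((colimit (diag F)).obj.map g.op).hom t
    rw [← sub_eq_zero, ← hb]
    have hd : (d.hom.app (op V)).hom ((colimit (diag F)).obj.map g.op |>.hom s) =
        (d.hom.app (op V)).hom ((colimit (diag F)).obj.map g.op |>.hom t) :=
      (NatTrans.naturality_apply d.hom g.op s).trans
        ((congrArg (F.obj.map g.op).hom e).trans (NatTrans.naturality_apply d.hom g.op t).symm)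
    have hb0 : ((kernel.ι (eta F j)).hom.app (op V)).hom b = 0 := by
      rw [← hι]
      refine (congrArg (d.hom.app (op V)).hom hb).trans ?_
      exact (map_sub _ _ _).trans (sub_eq_zero.2 hd)
    have : b = 0 := SiteBase.sheaf_app_injective (kernel.ι (eta F j)) V (hb0.trans (map_zero _).symm)
    show (colimit.ι (diag F) j).hom.app (op V) b = 0
    rw [this]
    exact map_zero _⟩
  haveI : Sheaf.IsLocallySurjective d := ⟨fun {W} s => by
    refine (mem_topology_iff _).2 fun x => ?_
    obtain ⟨O, hO, hx, -⟩ := exists_isAffineOpen_mem_and_subset (U := (⊤ : W.left.Opens)) (x := x) trivial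
    haveI : Etale W.hom := W.prop
    let V : X.Etale := Scheme.Etale.mk (O.ι ≫ W.hom)
    let g : V ⟶ W := MorphismProperty.Over.homMk O.ι rfl trivial
    haveI : IsAffine V.left := hO
    obtain ⟨S, t, ht⟩ := exists_lift_section F a hF V ((F.obj.map g.op).hom s)
    exact ⟨V, g, (⟨x, hx⟩ : O.toScheme), ⟨(colimit.ι (diag F) S).hom.app (op V) t, (hι S V t).trans ht⟩, rfl⟩⟩
  haveI : IsIso d := (Sheaf.isLocallyBijective_iff_isIso d).1 ⟨inferInstance, inferInstance⟩
  haveI := EtLC12.QcqsAcyclic.preservesColimitsOfShape_HF X (q + 1) (Idx X)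
  refine ConstAcyclic.subsingleton_H_iso (asIso d) ?_
  let hc := isColimitOfPreserves (EtCoh.HF X (q + 1)) (colimit.isColimit (diag F))
  refine subsingleton_of_forall_eq 0 fun c => ?_
  obtain ⟨S, b, rfl⟩ := Concrete.isColimit_exists_rep _ hc c
  haveI : Subsingleton (EtCoh.H X (sub F S) (q + 1)) := by
    refine subsingleton_H_of_finite a (S.down.map ⟨Subtype.val, Subtype.val_injective⟩) (fun x hx => ?_) _
      ((supp_sub F S).trans (by rw [Finset.coe_map]; rfl)) q
    obtain ⟨y, -, rfl⟩ := Finset.mem_map.1 hx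
    exact y.2
  rw [show b = 0 from @Subsingleton.elim (EtCoh.H X (sub F S) (q + 1)) _ b 0, map_zero]
  rfl

end colim

end Groth.Agent.EtFound.ClosedSupp
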