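import Groth.Agent.EtCount.Basic
import Groth.Agent.EtFound.Strata
import Groth.Agent.EtFound.StalkSet
import Groth.Agent.SGA1Q.SigmaFinite
import Mathlib.Topology.Spectral.ConstructibleTopology

/-!
# Étale morphisms become finite étale along a finite constructible stratification
-/

universe u

open CategoryTheory CategoryTheory.Limits AlgebraicGeometry Topology

namespace Groth.Agent.EtFound.EtStrat

open Groth.Agent.EtCount

variable {X Y : Scheme.{u}}

theorem isCompact_le_card (n : ℕ) : ∀ {X Y : Scheme.{u}} (f : X ⟶ Y) [Etale f] [IsSeparated f] [QuasiCompact f]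
    [CompactSpace Y], IsCompact {y : Y | (n : ℕ∞) ≤ ENat.card ↥(MoreMor.geomFiber f y)} := by
  induction n with
  | zero => intro X Y f _ _ _ _; simpa using isCompact_univ
  | succ n ih =>
    intro X Y f _ _ _ _
    have : CompactSpace X := QuasiCompact.compactSpace_of_compactSpace f
    have : IsClosedImmersion (offDiag f).ι := .of_isPreimmersion _ (by
      rw [Scheme.Opens.range_ι]
      exact ((pullback.diagonal f).isOpenEmbedding.isOpen_range).isClosed_compl)
    rw [setOf_succ_le]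
    exact (ih (offMap f)).image f.continuous

theorem isConstructible_le_card [CompactSpace Y] [QuasiSeparatedSpace Y] (f : X ⟶ Y) [Etale f] [IsSeparated f]
    [QuasiCompact f] (n : ℕ) : IsConstructible {y : Y | (n : ℕ∞) ≤ ENat.card ↥(MoreMor.geomFiber f y)} :=
  (IsCompact.isRetrocompact (isCompact_le_card n f) (isOpen_le_card n f)).isConstructible (isOpen_le_card n f)

theorem exists_bound [CompactSpace Y] [QuasiSeparatedSpace Y] (f : X ⟶ Y) [Etale f] [IsSeparated f]
    [QuasiCompact f] : ∃ N : ℕ, ∀ y : Y, ENat.card ↥(MoreMor.geomFiber f y) ≤ N := by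
  let S : ℕ → Set (WithConstructibleTopology Y) := fun n =>
    ((fun y => y.ofTopology) ⁻¹' {y : Y | ((n + 1 : ℕ) : ℕ∞) ≤ ENat.card ↥(MoreMor.geomFiber f y)}ᶜ)
  have hopen : ∀ n, IsOpen (S n) := fun n => by
    rw [WithConstructibleTopology.isOpen_iff]
    refine IsCompact.isOpen_constructibleTopology_of_isClosed ?_ (isOpen_le_card (n + 1) f).isClosed_compl
    convert isCompact_le_card (n + 1) f using 1
    ext y
    exact not_not
  have hcov : (Set.univ : Set (WithConstructibleTopology Y)) ⊆ ⋃ n, S n := fun y _ => by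
    obtain ⟨n, hn⟩ := ENat.ne_top_iff_exists.1 (haveI := finite_geomFiber f y.ofTopology; ENat.card_lt_top_of_finite (α := ↥(MoreMor.geomFiber f y.ofTopology))).ne
    refine Set.mem_iUnion.2 ⟨n, fun h => ?_⟩
    rw [Set.mem_setOf_eq, ← hn, Nat.cast_le] at h
    omega
  obtain ⟨t, ht⟩ := isCompact_univ.elim_finite_subcover S hopen hcov
  refine ⟨t.sup id + 1, fun y => not_lt.1 fun h => ?_⟩
  obtain ⟨n, hn, hyn⟩ := Set.mem_iUnion₂.1 (ht (Set.mem_univ (WithTopology.toTopology _ y)))
  apply hyn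
  show ((n + 1 : ℕ) : ℕ∞) ≤ ENat.card ↥(MoreMor.geomFiber f y)
  exact le_trans (by exact_mod_cast Nat.add_le_add_right (Finset.le_sup (f := id) hn) 1) h.le

theorem card_geomFiber_of_isPullback {X' Y' : Scheme.{u}} {f : X ⟶ Y} {f' : X' ⟶ Y'} {a : X' ⟶ X} {g : Y' ⟶ Y}
    (sq : IsPullback a f' f g) [Etale f] [Etale f'] (y : Y') :
    ENat.card ↥(MoreMor.geomFiber f' y) = ENat.card ↥(MoreMor.geomFiber f (g y)) := by
  obtain ⟨Ω, _, _, η, hη⟩ := exists_geomPoint y
  have h1 := card_lifts_of_point f' η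
  have h2 := card_lifts_of_point f (η ≫ g)
  have e1 : η (IsLocalRing.closedPoint Ω) = y := (congrArg η (Subsingleton.elim _ _)).trans hη
  rw [Scheme.Hom.comp_apply, e1] at h2
  rw [e1] at h1
  rw [← h1, ← h2]
  refine ENat.card_congr
    { toFun := fun l => ⟨l.1 ≫ a, by rw [Category.assoc, sq.w, ← Category.assoc, l.2]⟩
      invFun := fun l => ⟨sq.lift l.1 η l.2, sq.lift_snd _ _ _⟩
      left_inv := fun l => Subtype.ext (sq.hom_ext (sq.lift_fst _ _ _) ((sq.lift_snd _ _ _).trans l.2.symm))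
      right_inv := fun l => Subtype.ext (sq.lift_fst _ _ _) }

/-- An étale morphism is finite once it has an open cover by finitely many opens which, with their
pairwise intersections, are separated with constant fibre cardinality. -/
theorem isFinite_of_cover {P T : Scheme.{u}} (π : P ⟶ T) [Etale π] {m : ℕ} (V : Fin m → P.Opens)
    (hV : ⨆ i, V i = ⊤) (hsep : ∀ i, IsSeparated ((V i).ι ≫ π))
    (hfin : ∀ i k, IsFinite ((V i ⊓ V k).ι ≫ π)) : IsFinite π := by
  have hclosed : ∀ i k, IsClosed ((V i).ι ⁻¹' (V k : Set P)) := fun i k => by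
    let c := P.homOfLE (inf_le_left : V i ⊓ V k ≤ V i)
    have : IsFinite (c ≫ (V i).ι ≫ π) := by
      rw [Scheme.homOfLE_ι_assoc]
      exact hfin i k
    have := hsep i
    have : IsFinite c := IsFinite.of_comp c ((V i).ι ≫ π)
    have hr : Set.range c = (V i).ι ⁻¹' (V k : Set P) := by
      ext x
      refine ⟨?_, fun hx => ⟨⟨x.1, x.2, hx⟩, Subtype.ext (Scheme.homOfLE_apply _ _)⟩⟩
      rintro ⟨z, rfl⟩
      show (V i).ι (c z) ∈ (V k : Set P)
      rw [← Scheme.Hom.comp_apply, Scheme.homOfLE_ι]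
      exact z.2.2
    rw [← hr]
    exact c.isClosedMap.isClosed_range
  let D : ULift.{u} (Fin m) → P.Opens := fun i =>
    ⟨(V i.down : Set P) \ ⋃ k : {k // k < i.down}, (V k.1 : Set P), by
      have : IsOpen ((V i.down).ι ⁻¹' (⋃ k : {k // k < i.down}, (V k.1 : Set P)))ᶜ := by
        rw [Set.preimage_iUnion]
        exact (isClosed_iUnion_of_finite fun k => hclosed _ _).isOpen_compl
      convert (V i.down).ι.isOpenEmbedding.isOpenMap _ this using 1
      ext x
      refine ⟨fun h => ⟨⟨x, h.1⟩, h.2, rfl⟩, ?_⟩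
      rintro ⟨⟨y, hy⟩, h, rfl⟩
      exact ⟨hy, h⟩⟩
  have hle : ∀ i, D i ≤ V i.down := fun i x hx => hx.1
  have hDfin : ∀ i, IsFinite ((D i).ι ≫ π) := fun i => by
    have h1 : IsFinite ((V i.down).ι ≫ π) := by
      have := hfin i.down i.down
      rwa [inf_idem] at this
    have h2 : IsClosedImmersion (P.homOfLE (hle i)) := by
      refine .of_isPreimmersion _ ?_
      have : Set.range (P.homOfLE (hle i)) =
          ((V i.down).ι ⁻¹' (⋃ k : {k // k < i.down}, (V k.1 : Set P)))ᶜ := by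
        ext x
        refine ⟨?_, fun hx => ⟨⟨x.1, x.2, hx⟩, Subtype.ext (Scheme.homOfLE_apply _ _)⟩⟩
        rintro ⟨z, rfl⟩
        show (V i.down).ι (P.homOfLE (hle i) z) ∉ (⋃ k : {k // k < i.down}, (V k.1 : Set P))
        rw [← Scheme.Hom.comp_apply, Scheme.homOfLE_ι]
        exact z.2.2
      rw [this, Set.preimage_iUnion, Set.compl_iUnion]
      refine isClosed_iInter fun k => ?_
      have : IsOpen ((V i.down).ι ⁻¹' (V k.1 : Set P)) := (V k.1).2.preimage (V i.down).ι.continuous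
      exact this.isClosed_compl
    rw [← Scheme.homOfLE_ι_assoc _ (hle i)]
    infer_instance
  have hdisj : ∀ i k, i.down < k.down → Disjoint (D i) (D k) := fun i k h => by
    refine disjoint_iff.2 (TopologicalSpace.Opens.ext (Set.eq_empty_iff_forall_notMem.2 fun x hx => ?_))
    exact hx.2.2 (Set.mem_iUnion.2 ⟨⟨i.down, h⟩, hx.1.1⟩)
  obtain ⟨H⟩ := nonempty_isColimit_cofanMk_of (fun i => (D i).ι) (top_le_iff.1 fun x _ => by
      classical
      have hx : ∃ i, x ∈ V i := TopologicalSpace.Opens.mem_iSup.1 (hV.symm ▸ TopologicalSpace.Opens.mem_top x)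
      obtain ⟨i, hi, hmin⟩ := WellFounded.has_min (wellFounded_lt (α := Fin m)) {i | x ∈ V i} hx
      refine TopologicalSpace.Opens.mem_iSup.2 ⟨⟨i⟩, ?_⟩
      rw [Scheme.Opens.opensRange_ι]
      refine ⟨hi, fun h => ?_⟩
      obtain ⟨k, hk⟩ := Set.mem_iUnion.1 h
      exact hmin k.1 hk k.2) (fun i k hik => by
      rw [Function.onFun, Scheme.Opens.opensRange_ι, Scheme.Opens.opensRange_ι]
      rcases lt_trichotomy i.down k.down with h | h | h
      · exact hdisj i k h
      · exact absurd (ULift.ext _ _ h) hik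
      · exact (hdisj k i h).symm)
  let e := (coproductIsCoproduct fun i => (D i).toScheme).coconePointUniqueUpToIso H
  have he : e.hom ≫ π = Sigma.desc fun i => (D i).ι ≫ π := Sigma.hom_ext _ _ fun i => by
    have h' : Sigma.ι (fun i => (D i).toScheme) i ≫ e.hom = (D i).ι :=
      IsColimit.comp_coconePointUniqueUpToIso_hom (coproductIsCoproduct fun i => (D i).toScheme) H ⟨i⟩
    rw [Sigma.ι_desc, ← Category.assoc, h']
  have h' : IsFinite (e.hom ≫ π) := he ▸ SGA1Q.isFinite_sigmaDesc _ hDfin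
  exact (MorphismProperty.cancel_left_of_respectsIso @IsFinite e.hom π).1 h'

theorem exists_stratification {U X : Scheme.{u}} [CompactSpace U] [QuasiSeparatedSpace U]
    [CompactSpace X] [QuasiSeparatedSpace X] (j : U ⟶ X) [Etale j] :
    ∃ (n : ℕ) (T : Fin n → Scheme.{u}) (g : ∀ i, T i ⟶ X),
      (∀ i, IsImmersion (g i)) ∧ (∀ i, Topology.IsConstructible (Set.range (g i))) ∧
      Pairwise (fun i i' => Disjoint (Set.range (g i)) (Set.range (g i'))) ∧
      (⋃ i, Set.range (g i)) = Set.univ ∧ ∀ i, IsFinite (pullback.snd j (g i)) := by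
  classical
  obtain ⟨s, hs⟩ := isCompact_univ.elim_finite_subcover (fun A : U.affineOpens => (A.1 : Set U))
    (fun A => A.1.2) (fun x _ => by
      obtain ⟨A, hA, hx, -⟩ := exists_isAffineOpen_mem_and_subset (U := (⊤ : U.Opens)) (x := x) trivial
      exact Set.mem_iUnion.2 ⟨⟨A, hA⟩, hx⟩)
  let m := s.card
  let V : Fin m → U.Opens := fun i => (s.equivFin.symm i).1.1
  have hVa : ∀ i, IsAffineOpen (V i) := fun i => (s.equivFin.symm i).1.2
  have hVcov : ∀ x : U, ∃ i, x ∈ V i := fun x => by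
    obtain ⟨A, hA, hx⟩ := Set.mem_iUnion₂.1 (hs (Set.mem_univ x))
    exact ⟨s.equivFin ⟨A, hA⟩, by simpa [V] using hx⟩
  let W : Fin m × Fin m → U.Opens := fun p => V p.1 ⊓ V p.2
  have hWsep : ∀ p, IsSeparated ((W p).ι ≫ j) := fun p => by
    haveI : IsAffine (V p.1).toScheme := hVa p.1
    have : IsSeparated ((V p.1).ι ≫ j) := inferInstance
    have h2 : IsSeparated (U.homOfLE (inf_le_left : W p ≤ V p.1) ≫ (V p.1).ι ≫ j) := inferInstance
    rwa [Scheme.homOfLE_ι_assoc] at h2
  have hWqc : ∀ p, QuasiCompact ((W p).ι ≫ j) := fun p => by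
    haveI : CompactSpace (W p).toScheme := isCompact_iff_compactSpace.1
      (QuasiSeparatedSpace.inter_isCompact _ _ (V p.1).2 (hVa p.1).isCompact (V p.2).2 (hVa p.2).isCompact)
    exact inferInstance
  choose N hN using fun p => @exists_bound _ _ _ _ ((W p).ι ≫ j) inferInstance (hWsep p) (hWqc p)
  let E : (Σ p : Fin m × Fin m, Fin (N p + 1)) → Set X := fun k =>
    {y : X | ((k.2.1 : ℕ) : ℕ∞) ≤ ENat.card ↥(MoreMor.geomFiber ((W k.1).ι ≫ j) y)}
  obtain ⟨n, P, hlc, hc, hdisj, hcov, href⟩ := exists_lc_partition E fun k =>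
    @isConstructible_le_card _ _ _ _ ((W k.1).ι ≫ j) inferInstance (hWsep _) (hWqc _) k.2.1
  choose T g himm hrange using fun i => exists_immersion_range (hlc i)
  refine ⟨n, T, g, himm, fun i => (hrange i).symm ▸ hc i,
    fun i i' h => by simp only [hrange]; exact hdisj h, by simpa [hrange] using hcov, fun i => ?_⟩
  let π := pullback.snd j (g i)
  let a := pullback.fst j (g i)
  haveI : Etale π := MorphismProperty.pullback_snd _ _ ‹_›
  have sq : ∀ O : U.Opens, IsPullback (a ∣_ O) ((a ⁻¹ᵁ O).ι ≫ π) (O.ι ≫ j) (g i) := fun O =>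
    (isPullback_morphismRestrict a O).paste_vert (IsPullback.of_hasPullback j (g i))
  refine isFinite_of_cover π (fun k => a ⁻¹ᵁ V k) (top_le_iff.1 fun x _ => by
      obtain ⟨k, hk⟩ := hVcov (a x)
      exact TopologicalSpace.Opens.mem_iSup.2 ⟨k, hk⟩) (fun k => ?_) fun k l => ?_
  · haveI : IsAffine (V k).toScheme := hVa k
    exact MorphismProperty.of_isPullback (sq (V k)) (inferInstance : IsSeparated ((V k).ι ≫ j))
  · show IsFinite ((a ⁻¹ᵁ W (k, l)).ι ≫ π)
    have := hWsep (k, l)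
    have := hWqc (k, l)
    haveI : IsSeparated ((a ⁻¹ᵁ W (k, l)).ι ≫ π) := MorphismProperty.of_isPullback (sq (W (k, l))) ‹_›
    haveI : QuasiCompact ((a ⁻¹ᵁ W (k, l)).ι ≫ π) := MorphismProperty.of_isPullback (sq (W (k, l))) ‹_›
    rcases isEmpty_or_nonempty (T i) with hT | ⟨⟨t₀⟩⟩
    · exact isFinite_of_card_eq 0 _ fun y => isEmptyElim y
    obtain ⟨c, hc'⟩ := ENat.ne_top_iff_exists.1 (ne_top_of_le_ne_top (ENat.coe_ne_top _) (hN (k, l) (g i t₀)))
    refine isFinite_of_card_eq c _ fun t => ?_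
    rw [card_geomFiber_of_isPullback (sq (W (k, l))) t, hc']
    have hiff : ∀ r : Fin (N (k, l) + 1), (g i t ∈ E ⟨(k, l), r⟩ ↔ g i t₀ ∈ E ⟨(k, l), r⟩) := fun r => by
      have h1 : g i t ∈ P i := hrange i ▸ Set.mem_range_self t
      have h2 : g i t₀ ∈ P i := hrange i ▸ Set.mem_range_self t₀
      rcases href i ⟨(k, l), r⟩ with h | h
      · exact iff_of_true (h h1) (h h2)
      · exact iff_of_false (Set.disjoint_left.1 h h1) (Set.disjoint_left.1 h h2)
    obtain ⟨b, hb⟩ := ENat.ne_top_iff_exists.1 (ne_top_of_le_ne_top (ENat.coe_ne_top _) (hN (k, l) (g i t)))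
    have hbN : b ≤ N (k, l) := by exact_mod_cast hb ▸ hN (k, l) (g i t)
    have hcN : c ≤ N (k, l) := by exact_mod_cast hc' ▸ hN (k, l) (g i t₀)
    refine le_antisymm ?_ ?_
    · rw [← hb]
      exact (hiff ⟨b, Nat.lt_succ_of_le hbN⟩).1 (le_of_eq hb)
    · rw [← hc']
      exact (hiff ⟨c, Nat.lt_succ_of_le hcN⟩).2 (le_of_eq hc')

end Groth.Agent.EtFound.EtStrat
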