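import Groth.Agent.EtFound.FLCAb
import Groth.Agent.EtFound.CoprodSections
import Groth.Agent.SGA1Q.SigmaFinite
import Groth.Agent.DescLib.SigmaLocal
import Mathlib.AlgebraicGeometry.Sites.Fpqc

/-!
# A universal section of a finite locally constant sheaf over an etale covering
-/

set_option autoImplicit false

universe u

open CategoryTheory CategoryTheory.Limits AlgebraicGeometry Opposite

namespace Groth.Agent.EtFound.FLCRep

set_option backward.isDefEq.respectTransparency false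
set_option backward.isDefEq.respectTransparency.types false

variable {X : Scheme.{u}} (F : EtCoh.Ab X)

/-- `E` over `W` represents `W × F`, with universal section `s`. -/
def Univ {W E : X.Etale} (q : E ⟶ W) (s : F.obj.obj (op E)) : Prop :=
  ∀ (T : X.Etale) (a : T ⟶ W) (t : F.obj.obj (op T)), ∃! b : T ⟶ E, b ≫ q = a ∧ F.obj.map b.op s = t

variable {F}

theorem map_map {A B C : X.Etale} (f : A ⟶ B) (g : B ⟶ C) (s : F.obj.obj (op C)) :
    F.obj.map f.op (F.obj.map g.op s) = F.obj.map (f ≫ g).op s := by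
  rw [op_comp, Functor.map_comp]
  rfl

theorem effectiveEpi_of_surjective {Y Z : Scheme.{u}} (f : Y ⟶ Z) [Etale f] [Surjective f] : EffectiveEpi f := by
  infer_instance

/-- Glue morphisms into `E` along a surjective etale morphism. -/
theorem exists_glue {T T' E : X.Etale} (π : T' ⟶ T) [Surjective π.left] (b' : T' ⟶ E)
    (h : ∀ (Z : X.Etale) (g₁ g₂ : Z ⟶ T'), g₁ ≫ π = g₂ ≫ π → g₁ ≫ b' = g₂ ≫ b') :
    ∃ b : T ⟶ E, π ≫ b = b' := by
  haveI := etale_left π
  haveI : Etale T'.hom := T'.prop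
  haveI := effectiveEpi_of_surjective π.left
  have hl : ∀ {Z : Scheme.{u}} (g₁ g₂ : Z ⟶ T'.left), g₁ ≫ π.left = g₂ ≫ π.left → g₁ ≫ b'.left = g₂ ≫ b'.left := by
    intro Z g₁ g₂ e
    let P : X.Etale := Scheme.Etale.mk (pullback.fst π.left π.left ≫ T'.hom)
    let p₁ : P ⟶ T' := MorphismProperty.Over.homMk (pullback.fst π.left π.left) rfl trivial
    let p₂ : P ⟶ T' := MorphismProperty.Over.homMk (pullback.snd π.left π.left) (by
      show pullback.snd π.left π.left ≫ T'.hom = pullback.fst π.left π.left ≫ T'.hom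
      rw [← MorphismProperty.Over.w π, pullback.condition_assoc]) trivial
    have hp := congrArg (fun m => m.left) (h P p₁ p₂ (MorphismProperty.Over.Hom.ext pullback.condition))
    have := congrArg (pullback.lift g₁ g₂ e ≫ ·) hp
    change pullback.lift g₁ g₂ e ≫ pullback.fst π.left π.left ≫ b'.left =
      pullback.lift g₁ g₂ e ≫ pullback.snd π.left π.left ≫ b'.left at this
    rwa [pullback.lift_fst_assoc, pullback.lift_snd_assoc] at this
  refine ⟨MorphismProperty.Over.homMk (EffectiveEpi.desc π.left b'.left hl) ?_ trivial,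
    MorphismProperty.Over.Hom.ext (EffectiveEpi.fac π.left b'.left hl)⟩
  haveI : Epi π.left := Flat.epi_of_flat_of_surjective _
  refine (cancel_epi π.left).1 ?_
  rw [← Category.assoc, EffectiveEpi.fac, MorphismProperty.Over.w b']
  exact (MorphismProperty.Over.w π).symm

theorem exists_univ (h : EtCoh.IsFiniteLocallyConstant F) :
    ∃ (W E : X.Etale) (q : E ⟶ W) (s : F.obj.obj (op E)),
      Surjective W.hom ∧ IsFinite q.left ∧ Univ F q s := by
  classical
  choose U p hp S hS using (isFiniteLocallyConstant_iff F).1 h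
  haveI : ∀ x, Finite (S x) := fun x => (hS x).1
  choose n he using fun x => Finite.exists_equiv_fin (S x)
  let e : ∀ x, S x ≃ Fin (n x) := fun x => (he x).some
  have heU : ∀ x, Etale (U x).hom := fun x => (U x).prop
  let desc₁ : (∐ fun x : X => (U x).left) ⟶ X := Sigma.desc fun x => (U x).hom
  haveI : Etale desc₁ := IsZariskiLocalAtSource.sigmaDesc fun x => heU x
  let W : X.Etale := Scheme.Etale.mk desc₁
  let Ex : X → Scheme.{u} := fun x => ∐ fun _ : ULift.{u} (Fin (n x)) => (U x).left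
  let fold : ∀ x, Ex x ⟶ (U x).left := fun x => Sigma.desc fun _ => 𝟙 _
  have hfold : ∀ x, IsFinite (fold x) := fun x => SGA1Q.isFinite_sigmaDesc _ fun _ => inferInstance
  haveI hfoldE : ∀ x, Etale (fold x) := fun x => IsZariskiLocalAtSource.sigmaDesc fun _ => inferInstance
  let ql : (∐ Ex) ⟶ W.left := Limits.Sigma.map fold
  have hqf : IsFinite ql := DescLib.prop_sigmaMap @IsFinite fold hfold
  have hqe : Etale ql := DescLib.prop_sigmaMap @Etale fold hfoldE
  haveI := hqe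
  let E : X.Etale := Scheme.Etale.mk (ql ≫ desc₁)
  let q : E ⟶ W := MorphismProperty.Over.homMk ql rfl trivial
  let ι : ∀ x, U x ⟶ W := fun x =>
    MorphismProperty.Over.homMk (Sigma.ι (fun x : X => (U x).left) x) (Sigma.ι_desc _ _) trivial
  let κ : ∀ k : (x : X) × ULift.{u} (Fin (n x)), U k.1 ⟶ E := fun k =>
    MorphismProperty.Over.homMk (Sigma.ι (fun _ : ULift.{u} (Fin (n k.1)) => (U k.1).left) k.2 ≫ Sigma.ι Ex k.1) (by
      show (Sigma.ι (fun _ : ULift.{u} (Fin (n k.1)) => (U k.1).left) k.2 ≫ Sigma.ι Ex k.1) ≫ ql ≫ desc₁ = (U k.1).hom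
      simp [ql, fold, desc₁]) trivial
  have hκq : ∀ k, κ k ≫ q = ι k.1 := fun k => MorphismProperty.Over.Hom.ext (by
    show (Sigma.ι (fun _ : ULift.{u} (Fin (n k.1)) => (U k.1).left) k.2 ≫ Sigma.ι Ex k.1) ≫ ql =
      Sigma.ι (fun x : X => (U x).left) k.1
    simp [ql, fold])
  haveI hιo : ∀ x, IsOpenImmersion (ι x).left := fun x =>
    inferInstanceAs (IsOpenImmersion (Sigma.ι (fun x : X => (U x).left) x))
  haveI hκo : ∀ k, IsOpenImmersion (κ k).left := fun k =>
    inferInstanceAs (IsOpenImmersion (Sigma.ι (fun _ : ULift.{u} (Fin (n k.1)) => (U k.1).left) k.2 ≫ Sigma.ι Ex k.1))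
  haveI hmono : ∀ {A B : X.Etale} (m : A ⟶ B), [IsOpenImmersion m.left] → Mono m := fun m _ =>
    (Scheme.Etale.forget X ⋙ CategoryTheory.Over.forget X).mono_of_mono_map (inferInstanceAs (Mono m.left))
  have hκcov : ∀ y : E.left, ∃ k, y ∈ Set.range (κ k).left := fun y => by
    obtain ⟨x, z, rfl⟩ := (sigmaOpenCover Ex).exists_eq y
    obtain ⟨k, z', rfl⟩ := (sigmaOpenCover fun _ : ULift.{u} (Fin (n x)) => (U x).left).exists_eq z
    exact ⟨⟨x, k⟩, z', Scheme.Hom.comp_apply _ _ _⟩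
  have hιdisj : ∀ (x x' : X) (a : (U x).left) (b : (U x').left), (ι x).left a = (ι x').left b → x = x' :=
    fun x x' a b hab => (Sigma.mk.inj_iff.1 ((sigmaι_eq_iff _ _ _ _ _).1 hab)).1
  have hκdisj : ∀ k k', k ≠ k' → ∀ a b, (κ k).left.base a ≠ (κ k').left.base b := by
    rintro ⟨x, l⟩ ⟨x', l'⟩ hne a b hab
    have h1 : Sigma.ι Ex x (Sigma.ι (fun _ : ULift.{u} (Fin (n x)) => (U x).left) l a) =
        Sigma.ι Ex x' (Sigma.ι (fun _ : ULift.{u} (Fin (n x')) => (U x').left) l' b) :=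
      (Scheme.Hom.comp_apply _ _ _).symm.trans (hab.trans (Scheme.Hom.comp_apply _ _ _))
    obtain rfl := (Sigma.mk.inj_iff.1 ((sigmaι_eq_iff _ _ _ _ _).1 h1)).1
    have h2 := (Sigma.ι Ex x).isOpenEmbedding.injective h1
    obtain rfl := (Sigma.mk.inj_iff.1 ((sigmaι_eq_iff _ _ _ _ _).1 h2)).1
    exact hne rfl
  obtain ⟨s, hs⟩ := (bijective_sections_of_disjoint F (fun k : (x : X) × ULift.{u} (Fin (n x)) => U k.1) κ
    (fun y => by obtain ⟨k, z, hz⟩ := hκcov y; exact ⟨k, z, hz⟩) hκdisj).2 fun k => ((e k.1).symm k.2.down).1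
  have hs' : ∀ k, F.obj.map (κ k).op s = ((e k.1).symm k.2.down).1 := fun k => congrFun hs k
  refine ⟨W, E, q, s, ⟨fun x => ⟨(ι x).left (p x), ?_⟩⟩, hqf, fun T a t => ?_⟩
  · refine (Scheme.Hom.comp_apply _ _ _).symm.trans ?_
    exact (congrArg (fun m : (U x).left ⟶ X => m (p x)) (MorphismProperty.Over.w (ι x))).trans (hp x)
  have huniq : ∀ {T : X.Etale} (b₁ b₂ : T ⟶ E), b₁ ≫ q = b₂ ≫ q →
      F.obj.map b₁.op s = F.obj.map b₂.op s → b₁ = b₂ := by
    intro T b₁ b₂ hq hsec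
    haveI : Etale T.hom := T.prop
    refine MorphismProperty.Over.Hom.ext ?_
    choose k₁ w₁ hw₁ using fun τ => hκcov (b₁.left τ)
    choose k₂ w₂ hw₂ using fun τ => hκcov (b₂.left τ)
    let O : T.left → T.left.Opens := fun τ =>
      b₁.left ⁻¹ᵁ (κ (k₁ τ)).left.opensRange ⊓ b₂.left ⁻¹ᵁ (κ (k₂ τ)).left.opensRange
    have hO : ∀ τ, τ ∈ O τ := fun τ => ⟨⟨w₁ τ, hw₁ τ⟩, ⟨w₂ τ, hw₂ τ⟩⟩
    refine (T.left.openCoverOfIsOpenCover O (TopologicalSpace.IsOpenCover.mk (eq_top_iff.2 fun τ _ =>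
      TopologicalSpace.Opens.mem_iSup.2 ⟨τ, hO τ⟩))).hom_ext _ _ fun τ => ?_
    let V : X.Etale := Scheme.Etale.mk ((O τ).ι ≫ T.hom)
    let g : V ⟶ T := MorphismProperty.Over.homMk (O τ).ι rfl trivial
    have r₁ : Set.range (g ≫ b₁).left ⊆ Set.range (κ (k₁ τ)).left := by
      rintro _ ⟨y, rfl⟩
      exact (y : (O τ).toScheme).2.1
    have r₂ : Set.range (g ≫ b₂).left ⊆ Set.range (κ (k₂ τ)).left := by
      rintro _ ⟨y, rfl⟩
      exact (y : (O τ).toScheme).2.2
    let c₁ : V ⟶ U (k₁ τ).1 := MorphismProperty.Over.homMk (IsOpenImmersion.lift (κ (k₁ τ)).left (g ≫ b₁).left r₁) (by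
      rw [← MorphismProperty.Over.w (κ (k₁ τ)), IsOpenImmersion.lift_fac_assoc]
      exact MorphismProperty.Over.w (g ≫ b₁)) trivial
    let c₂ : V ⟶ U (k₂ τ).1 := MorphismProperty.Over.homMk (IsOpenImmersion.lift (κ (k₂ τ)).left (g ≫ b₂).left r₂) (by
      rw [← MorphismProperty.Over.w (κ (k₂ τ)), IsOpenImmersion.lift_fac_assoc]
      exact MorphismProperty.Over.w (g ≫ b₂)) trivial
    have hc₁ : c₁ ≫ κ (k₁ τ) = g ≫ b₁ := MorphismProperty.Over.Hom.ext (IsOpenImmersion.lift_fac _ _ r₁)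
    have hc₂ : c₂ ≫ κ (k₂ τ) = g ≫ b₂ := MorphismProperty.Over.Hom.ext (IsOpenImmersion.lift_fac _ _ r₂)
    suffices key : g ≫ b₁ = g ≫ b₂ from congrArg (fun m : V ⟶ E => m.left) key
    have hW : c₁ ≫ ι (k₁ τ).1 = c₂ ≫ ι (k₂ τ).1 := by
      rw [← hκq, ← hκq, ← Category.assoc, ← Category.assoc, hc₁, hc₂, Category.assoc, Category.assoc, hq]
    have hsV : F.obj.map c₁.op ((e (k₁ τ).1).symm (k₁ τ).2.down).1 = F.obj.map c₂.op ((e (k₂ τ).1).symm (k₂ τ).2.down).1 := by
      rw [← hs', ← hs', map_map, map_map, hc₁, hc₂, ← map_map, ← map_map, hsec]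
    let v : V.left := (⟨τ, hO τ⟩ : (O τ).toScheme)
    have hx : (k₁ τ).1 = (k₂ τ).1 := hιdisj _ _ (c₁.left v) (c₂.left v)
      (congrArg (fun m : V ⟶ W => m.left v) hW)
    obtain ⟨Ω, _, _, ξ, z, -⟩ := exists_algClosed_point V v
    rw [← hc₁, ← hc₂]
    suffices hgen : ∀ (K₁ K₂ : (x : X) × ULift.{u} (Fin (n x))) (c₁ : V ⟶ U K₁.1) (c₂ : V ⟶ U K₂.1),
        c₁ ≫ ι K₁.1 = c₂ ≫ ι K₂.1 →
        F.obj.map c₁.op ((e K₁.1).symm K₁.2.down).1 = F.obj.map c₂.op ((e K₂.1).symm K₂.2.down).1 →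
        K₁.1 = K₂.1 → c₁ ≫ κ K₁ = c₂ ≫ κ K₂ from hgen _ _ _ _ hW hsV hx
    intro K₁ K₂ c₁ c₂ hW hsV hx
    obtain ⟨x, l₁⟩ := K₁
    obtain ⟨x', l₂⟩ := K₂
    obtain rfl : x = x' := hx
    haveI := hmono (ι x)
    obtain rfl : c₁ = c₂ := (cancel_mono (ι x)).1 hW
    have h1 := congrArg ((Scheme.pointSmallEtale ξ).toPresheafFiber V z F.obj) hsV
    rw [(Scheme.pointSmallEtale ξ).toPresheafFiber_w_apply c₁ z F.obj,
      (Scheme.pointSmallEtale ξ).toPresheafFiber_w_apply c₁ z F.obj] at h1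
    obtain rfl : l₁ = l₂ := ULift.ext _ _ ((e x).symm.injective (((hS x).2 Ω ξ _).1 h1))
    rfl
  suffices hex : ∃ b : T ⟶ E, b ≫ q = a ∧ F.obj.map b.op s = t by
    obtain ⟨b, hb⟩ := hex
    exact ⟨b, hb, fun b' hb' => huniq b' b (hb'.1.trans hb.1.symm) (hb'.2.trans hb.2.symm)⟩
  haveI : Etale T.hom := T.prop
  have hloc : ∀ τ : T.left, ∃ (V : X.Etale) (g : V ⟶ T) (v : V.left) (b : V ⟶ E),
      g.left v = τ ∧ b ≫ q = g ≫ a ∧ F.obj.map b.op s = F.obj.map g.op t := fun τ => by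
    obtain ⟨x, u, hu⟩ := (sigmaOpenCover fun x : X => (U x).left).exists_eq (a.left τ)
    let O : T.left.Opens := a.left ⁻¹ᵁ (ι x).left.opensRange
    let V : X.Etale := Scheme.Etale.mk (O.ι ≫ T.hom)
    let g : V ⟶ T := MorphismProperty.Over.homMk O.ι rfl trivial
    have r : Set.range (g ≫ a).left ⊆ Set.range (ι x).left := by
      rintro _ ⟨y, rfl⟩
      exact (y : O.toScheme).2
    let c : V ⟶ U x := MorphismProperty.Over.homMk (IsOpenImmersion.lift (ι x).left (g ≫ a).left r) (by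
      rw [← MorphismProperty.Over.w (ι x), IsOpenImmersion.lift_fac_assoc]
      exact MorphismProperty.Over.w (g ≫ a)) trivial
    have hc : c ≫ ι x = g ≫ a := MorphismProperty.Over.Hom.ext (IsOpenImmersion.lift_fac _ _ r)
    obtain ⟨Ω, _, _, ξ, z, hz⟩ := exists_algClosed_point V (⟨τ, u, hu⟩ : O.toScheme)
    obtain ⟨l, hl⟩ := ((hS x).2 Ω ξ ((Scheme.pointSmallEtale ξ).fiber.map c z)).2
      ((Scheme.pointSmallEtale ξ).toPresheafFiber V z F.obj (F.obj.map g.op t))
    replace hl : (Scheme.pointSmallEtale ξ).toPresheafFiber V z F.obj (F.obj.map c.op l.1) =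
        (Scheme.pointSmallEtale ξ).toPresheafFiber V z F.obj (F.obj.map g.op t) := by
      rw [(Scheme.pointSmallEtale ξ).toPresheafFiber_w_apply c z F.obj]
      exact hl
    obtain ⟨V', g', v', hv', hg'⟩ := ((Scheme.pointSmallEtale ξ).toPresheafFiber_eq_iff' V z _ _).1 hl
    refine ⟨V', g' ≫ g, (v'.left : Spec (CommRingCat.of Ω) ⟶ V'.left).base (default : Spec (CommRingCat.of Ω)),
      g' ≫ c ≫ κ ⟨x, ULift.up (e x l)⟩, ?_, ?_, ?_⟩
    · show (g'.left ≫ g.left) _ = τ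
      rw [Scheme.Hom.comp_apply]
      refine (congrArg g.left ?_).trans (rfl : g.left (⟨τ, u, hu⟩ : O.toScheme) = τ)
      rw [← hz, ← hv']
      exact (Scheme.Hom.comp_apply _ _ _).symm
    · rw [Category.assoc, Category.assoc, hκq, hc, Category.assoc]
    · rw [← map_map, ← map_map, hs', ← map_map g' g t]
      simpa using hg'
  choose V g v b hv hbq hbs using hloc
  haveI : ∀ τ, Etale (g τ).left := fun τ => etale_left (g τ)
  let πl : (∐ fun τ => (V τ).left) ⟶ T.left := Sigma.desc fun τ => (g τ).left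
  haveI : Etale πl := IsZariskiLocalAtSource.sigmaDesc fun τ => inferInstance
  let T' : X.Etale := Scheme.Etale.mk (πl ≫ T.hom)
  let π : T' ⟶ T := MorphismProperty.Over.homMk πl rfl trivial
  let inj : ∀ τ, V τ ⟶ T' := fun τ => MorphismProperty.Over.homMk (Sigma.ι (fun τ => (V τ).left) τ)
    ((Sigma.ι_desc_assoc _ _ _).trans (MorphismProperty.Over.w (g τ))) trivial
  have hinj : ∀ τ, inj τ ≫ π = g τ := fun τ => MorphismProperty.Over.Hom.ext (Sigma.ι_desc _ _)
  haveI : Surjective π.left := ⟨fun τ => ⟨(inj τ).left (v τ), by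
    refine (Scheme.Hom.comp_apply _ _ _).symm.trans ?_
    exact (congrArg (fun m : V τ ⟶ T => m.left (v τ)) (hinj τ)).trans (hv τ)⟩⟩
  let b' : T' ⟶ E := MorphismProperty.Over.homMk (Sigma.desc fun τ => (b τ).left) (Sigma.hom_ext _ _ fun τ => by
    refine (Sigma.ι_desc_assoc _ _ _).trans ?_
    refine (MorphismProperty.Over.w (b τ)).trans ?_
    exact (MorphismProperty.Over.w (inj τ)).symm) trivial
  have hb' : ∀ τ, inj τ ≫ b' = b τ := fun τ => MorphismProperty.Over.Hom.ext (Sigma.ι_desc _ _)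
  have hext : ∀ {A : X.Etale} (m m' : T' ⟶ A), (∀ τ, inj τ ≫ m = inj τ ≫ m') → m = m' := fun m m' hm =>
    MorphismProperty.Over.Hom.ext (Sigma.hom_ext _ _ fun τ => congrArg (fun r => r.left) (hm τ))
  have hq' : b' ≫ q = π ≫ a := hext _ _ fun τ => by
    rw [← Category.assoc, hb', hbq, ← Category.assoc, hinj]
  obtain ⟨hcov, hdisj, hm, -⟩ := cover_disjoint_mono_of_isColimit V inj
    (coproductIsCoproduct fun τ => (V τ).left)
  haveI := hm
  have hs'' : F.obj.map b'.op s = F.obj.map π.op t := (bijective_sections_of_disjoint F V inj hcov hdisj).1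
    (funext fun τ => by simp only [map_map, hb', hbs, hinj])
  obtain ⟨b₀, hb₀⟩ := exists_glue π b' fun Z g₁ g₂ e => huniq _ _
    (by rw [Category.assoc, Category.assoc, hq', ← Category.assoc, e, Category.assoc])
    (by rw [← map_map, ← map_map, hs'', map_map, map_map, e])
  haveI : Epi π := by
    haveI := etale_left π
    haveI : Epi π.left := Flat.epi_of_flat_of_surjective _
    exact (Scheme.Etale.forget X ⋙ CategoryTheory.Over.forget X).epi_of_epi_map (inferInstanceAs (Epi π.left))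
  refine ⟨b₀, (cancel_epi π).1 (by rw [← Category.assoc, hb₀, hq']), ?_⟩
  refine EtFound.eq_of_cover F _ t ((mem_topology_iff _).2 fun τ => ⟨V τ, g τ, v τ, ?_, hv τ⟩)
  show F.obj.map (g τ).op (F.obj.map b₀.op s) = F.obj.map (g τ).op t
  rw [map_map, ← hinj, Category.assoc, hb₀, hb', hbs, hinj]

end Groth.Agent.EtFound.FLCRep
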