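import Groth.Agent.EtFound.ConstAcyclic
import Groth.Agent.EtDescSplit.HFunctor

/-!
# Gabber's criterion for acyclicity on affine schemes with strictly henselian local rings
-/

set_option autoImplicit false
set_option linter.style.haveILetI false

universe u

open CategoryTheory CategoryTheory.Limits AlgebraicGeometry Opposite TopologicalSpace Abelian

namespace Groth.Agent.EtFound.GabberCrit

set_option backward.isDefEq.respectTransparency false
set_option backward.isDefEq.respectTransparency.types false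

open ConstAcyclic EtDescSplit

attribute [local instance] ConstAcyclic.pull_exact

variable {X : Scheme.{u}} (F : EtCoh.Ab X)

theorem eq_zero_iff {U W : Scheme.{u}} (k : W ⟶ U) (j : U ⟶ X) (w : W ⟶ X) (e : k ≫ j = w) (n : ℕ)
    (x : EtCoh.H U ((EtCoh.pull j).obj F) n) :
    hres k j w e F n x = 0 ↔ EtCore.Hpull k ((EtCoh.pull j).obj F) n x = 0 := by
  refine ⟨fun h => ?_, fun h => ?_⟩
  · refine (EtAcycLib.bijective_comp_mk₀ (((EtCore.pullComp k j).symm ≪≫ EtCore.pullCongr e).app F)).1 ?_
    simp only [Ext.zero_comp]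
    exact h
  · show (EtCore.Hpull k ((EtCoh.pull j).obj F) n x).comp _ (add_zero n) = 0
    rw [h, Ext.zero_comp]

/-- Restriction between basic opens. -/
noncomputable abbrev res {A B : X.Opens} (le : B ≤ A) (n : ℕ) :
    EtCoh.H ↑A ((EtCoh.pull A.ι).obj F) n →+ EtCoh.H ↑B ((EtCoh.pull B.ι).obj F) n :=
  hres (X.homOfLE le) A.ι B.ι (X.homOfLE_ι le) F n

theorem res_res {A B C : X.Opens} (le : B ≤ A) (le' : C ≤ B) (n : ℕ) (x : EtCoh.H ↑A ((EtCoh.pull A.ι).obj F) n) :
    res F le' n (res F le n x) = res F (le'.trans le) n x :=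
  hres_comp (X.homOfLE le') (X.homOfLE le) A.ι B.ι (X.homOfLE_ι le) (X.homOfLE (le'.trans le)) (X.homOfLE_homOfLE _ _)
    C.ι (X.homOfLE_ι le') (X.homOfLE_ι _) F n x

theorem subsingleton_of_range {A : Scheme.{u}} (j : A ⟶ X) [IsOpenImmersion j] (O : X.Opens) (hj : j.opensRange = O)
    (n : ℕ) (h : Subsingleton (EtCoh.H ↑O ((EtCoh.pull O.ι).obj F) n)) :
    Subsingleton (EtCoh.H A ((EtCoh.pull j).obj F) n) := by
  subst hj
  let e := j.isoOpensRange.hom
  have w : e ≫ j.opensRange.ι = j := Scheme.Hom.isoOpensRange_hom_ι j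
  haveI := h
  have h1 := (EtAcycLib.bijective_Hpull_of_isIso e ((EtCoh.pull j.opensRange.ι).obj F) n).2.subsingleton
  exact @Function.Surjective.subsingleton _ _ _ h1 (EtAcycLib.bijective_comp_mk₀ (A := EtCoh.const A ℤ) (n := n)
    (((EtCore.pullComp e j.opensRange.ι).symm ≪≫ EtCore.pullCongr w).app F)).2

variable [IsAffine X] (hS : ∀ s : X, EtCoh.IsStrictlyHenselianLocalRing (X.presheaf.stalk s))

include hS in
theorem exists_res_eq_zero (h : Γ(X, ⊤)) (q : ℕ)
    (x : EtCoh.H ↑(X.basicOpen h) ((EtCoh.pull (X.basicOpen h).ι).obj F) (q + 1)) (p : X) (hp : p ∈ X.basicOpen h) :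
    ∃ f : Γ(X, ⊤), p ∈ X.basicOpen f ∧ ∀ le : X.basicOpen (f * h) ≤ X.basicOpen h, res F le (q + 1) x = 0 := by
  let W := X.basicOpen h
  have hW : ∀ w : W.toScheme, EtCoh.IsStrictlyHenselianLocalRing (W.toScheme.presheaf.stalk w) := fun w => by
    obtain ⟨h1, h2⟩ := hS w.1
    haveI := h1
    haveI := h2
    exact (AlgSpDec.EtStalkProps.isStrictlyHenselian_of_ringEquiv (W.stalkIso w).commRingCatIsoToRingEquiv.symm).2
  obtain ⟨O, hpO, hO⟩ := exists_open_kill hW q _ x ⟨p, hp⟩
  obtain ⟨f, hf, hpf⟩ := (isAffineOpen_top X).exists_basicOpen_le (V := W.ι ''ᵁ O) ⟨p, ⟨⟨p, hp⟩, hpO, rfl⟩⟩ trivial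
  refine ⟨f, hpf, fun le => (eq_zero_iff F _ _ _ _ _ x).2 ?_⟩
  have hsub : Set.range (X.homOfLE le) ⊆ Set.range O.ι := by
    rintro _ ⟨y, rfl⟩
    rw [Scheme.Opens.range_ι]
    have hy : y.1 ∈ X.basicOpen f := by
      have := y.2
      simp only [Scheme.basicOpen_mul] at this
      exact this.1
    obtain ⟨o, ho, hoy⟩ := hf hy
    have : X.homOfLE le y = o := Subtype.ext ((Scheme.homOfLE_apply _ _).trans hoy.symm)
    rw [this]
    exact ho
  rw [← EtAcycLib.Hpull_comp (IsOpenImmersion.lift O.ι (X.homOfLE le) hsub) O.ι (X.homOfLE le)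
    (IsOpenImmersion.lift_fac _ _ _) _ (q + 1) x, hO, map_zero, Ext.zero_comp]

include hS in
/-- If first cohomology classes on `D(f+g)` which die on both pieces are zero, all cohomology on basic opens dies. -/
theorem subsingleton_basicOpen
    (hker : ∀ (f g : Γ(X, ⊤)) (lf : X.basicOpen (f * (f + g)) ≤ X.basicOpen (f + g))
      (lg : X.basicOpen (g * (f + g)) ≤ X.basicOpen (f + g))
      (ξ : EtCoh.H ↑(X.basicOpen (f + g)) ((EtCoh.pull (X.basicOpen (f + g)).ι).obj F) 1),
      res F lf 1 ξ = 0 → res F lg 1 ξ = 0 → ξ = 0) :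
    ∀ (q : ℕ) (h : Γ(X, ⊤)), Subsingleton (EtCoh.H ↑(X.basicOpen h) ((EtCoh.pull (X.basicOpen h).ι).obj F) (q + 1)) := by
  have hle : ∀ a b : Γ(X, ⊤), X.basicOpen (a * b) ≤ X.basicOpen b := fun a b => by
    rw [Scheme.basicOpen_mul]; exact inf_le_right
  have hle' : ∀ a b : Γ(X, ⊤), X.basicOpen (a * b) ≤ X.basicOpen a := fun a b => by
    rw [Scheme.basicOpen_mul]; exact inf_le_left
  intro q
  induction q using Nat.strong_induction_on with
  | _ q ih =>
    intro h
    refine subsingleton_of_forall_eq 0 fun x => ?_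
    let K : Ideal Γ(X, ⊤) :=
      { carrier := {f | ∀ le : X.basicOpen (f * h) ≤ X.basicOpen h, res F le (q + 1) x = 0}
        zero_mem' := fun le => by
          haveI : IsEmpty (X.basicOpen (0 * h)).toScheme := ⟨fun p => by
            have := p.2
            simp only [zero_mul, Scheme.basicOpen_zero] at this
            exact this⟩
          exact @Subsingleton.elim _ (subsingleton_H_of_isEmpty _ _) _ _
        smul_mem' := fun a f hf le => by
          have le' : X.basicOpen (a • f * h) ≤ X.basicOpen (f * h) := by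
            rw [smul_eq_mul, mul_assoc]; exact hle a _
          rw [← res_res F (hle f h) le' (q + 1) x, hf, map_zero]
        add_mem' := fun {f g} hf hg le => by
          let k := f * h + g * h
          have lk : X.basicOpen k ≤ X.basicOpen h := by rw [show k = (f + g) * h from (add_mul f g h).symm]; exact hle _ _
          have le' : X.basicOpen ((f + g) * h) ≤ X.basicOpen k := by rw [show k = (f + g) * h from (add_mul f g h).symm]
          rw [← res_res F lk le' (q + 1) x]
          suffices hy : res F lk (q + 1) x = 0 by rw [hy, map_zero]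
          let y := res F lk (q + 1) x
          cases q with
          | zero =>
            refine hker (f * h) (g * h) (hle _ _) (hle _ _) y ?_ ?_
            · rw [res_res, ← res_res F (hle f h) (hle' (f * h) k) 1 x, hf, map_zero]
            · rw [res_res, ← res_res F (hle g h) (hle' (g * h) k) 1 x, hg, map_zero]
          | succ q =>
            let W := X.basicOpen k
            let U : W.toScheme.Opens := W.ι ⁻¹ᵁ X.basicOpen (f * h)
            let V : W.toScheme.Opens := W.ι ⁻¹ᵁ X.basicOpen (g * h)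
            have hUV : U ⊔ V = ⊤ := eq_top_iff.2 fun p _ => by
              rcases Scheme.basicOpen_add_le X (f * h) (g * h) p.2 with h' | h'
              exacts [Or.inl h', Or.inr h']
            have hk : ∀ a : Γ(X, ⊤), (∀ le : X.basicOpen (a * h) ≤ X.basicOpen h, res F le (q + 1 + 1) x = 0) →
                EtCore.Hpull (W.ι ⁻¹ᵁ X.basicOpen (a * h)).ι ((EtCoh.pull W.ι).obj F) (q + 1 + 1) y = 0 := fun a ha => by
              let A := W.ι ⁻¹ᵁ X.basicOpen (a * h)
              refine (eq_zero_iff F A.ι W.ι (A.ι ≫ W.ι) rfl _ y).1 ?_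
              rw [hres_comp A.ι (X.homOfLE lk) (X.basicOpen h).ι W.ι (X.homOfLE_ι lk) (A.ι ≫ X.homOfLE lk) rfl
                (A.ι ≫ W.ι) rfl (by rw [Category.assoc, Scheme.homOfLE_ι]) F _ x,
                ← hres_comp (W.ι ∣_ X.basicOpen (a * h)) (X.homOfLE (hle a h)) (X.basicOpen h).ι (X.basicOpen (a * h)).ι
                (X.homOfLE_ι _) (A.ι ≫ X.homOfLE lk)
                (by rw [← cancel_mono (X.basicOpen h).ι, Category.assoc, Category.assoc, Scheme.homOfLE_ι, Scheme.homOfLE_ι,
                  morphismRestrict_ι])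
                (A.ι ≫ W.ι) (morphismRestrict_ι _ _) (by rw [Category.assoc, Scheme.homOfLE_ι]) F _ x]
              have h0 : hres (X.homOfLE (hle a h)) (X.basicOpen h).ι (X.basicOpen (a * h)).ι (X.homOfLE_ι _) F _ x = 0 := ha _
              rw [h0, map_zero]
            obtain ⟨δ, -, hker', -, -⟩ := EtMVLib.mayerVietoris W.toScheme U V hUV ((EtCoh.pull W.ι).obj F)
            obtain ⟨b, hb⟩ : y ∈ (δ (q + 1)).range := by
              rw [← hker' (q + 1)]
              exact Prod.ext (hk f hf) (hk g hg)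
            have hrange : ((U ⊓ V).ι ≫ W.ι).opensRange = X.basicOpen (k * (f * h * (g * h))) := by
              rw [Scheme.Hom.opensRange_comp, Scheme.Opens.opensRange_ι]
              show W.ι ''ᵁ (W.ι ⁻¹ᵁ X.basicOpen (f * h) ⊓ W.ι ⁻¹ᵁ X.basicOpen (g * h)) = _
              rw [← Scheme.Hom.preimage_inf, Scheme.Hom.image_preimage_eq_opensRange_inf, Scheme.Opens.opensRange_ι,
                Scheme.basicOpen_mul X k, Scheme.basicOpen_mul X (f * h) (g * h)]
            haveI : Subsingleton (EtCoh.H ↑(U ⊓ V) ((EtCoh.pull (U ⊓ V).ι).obj ((EtCoh.pull W.ι).obj F)) (q + 1)) :=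
              subsingleton_H_iso ((EtCore.pullComp (U ⊓ V).ι W.ι).app F)
                (subsingleton_of_range F _ _ hrange (q + 1) (ih q (Nat.lt_succ_self q) _))
            show y = 0
            rw [← hb, Subsingleton.elim b 0, map_zero] }
    have hK : K = ⊤ ∨ h ∈ K.radical := by
      by_cases hh : h ∈ K.radical
      · exact Or.inr hh
      left
      exfalso
      obtain ⟨m, hKm, hm, hhm⟩ : ∃ m, K ≤ m ∧ m.IsPrime ∧ h ∉ m := by
        rw [Ideal.radical_eq_sInf] at hh
        simp only [Submodule.mem_sInf, not_forall] at hh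
        obtain ⟨m, ⟨h1, h2⟩, h3⟩ := hh
        exact ⟨m, h1, h2, h3⟩
      let p : X := X.isoSpec.inv ⟨m, hm⟩
      have hmem : ∀ a, p ∈ X.basicOpen a ↔ a ∉ m := fun a => by
        rw [← Scheme.toSpecΓ_preimage_basicOpen X a]
        show X.isoSpec.hom (X.isoSpec.inv ⟨m, hm⟩) ∈ PrimeSpectrum.basicOpen a ↔ _
        rw [← Scheme.Hom.comp_apply, Iso.inv_hom_id]
        exact Iff.rfl
      obtain ⟨f, hpf, hf⟩ := exists_res_eq_zero F hS h q x p ((hmem h).2 hhm)
      exact (hmem f).1 hpf (hKm hf)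
    obtain ⟨f, hf, hfh⟩ : ∃ f, f ∈ K ∧ X.basicOpen h ≤ X.basicOpen f := by
      rcases hK with hK | ⟨n, hn⟩
      · exact ⟨1, hK ▸ trivial, by rw [Scheme.basicOpen_of_isUnit _ isUnit_one]; exact le_top⟩
      · refine ⟨h ^ n, hn, ?_⟩
        induction n with
        | zero => rw [pow_zero, Scheme.basicOpen_of_isUnit _ isUnit_one]; exact le_top
        | succ n _ => rw [Scheme.basicOpen_pow _ _ (Nat.succ_pos n)]
    have le₂ : X.basicOpen h ≤ X.basicOpen (f * h) := by rw [Scheme.basicOpen_mul]; exact le_inf hfh le_rfl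
    have h0 : res F (le_refl (X.basicOpen h)) (q + 1) x = 0 := by
      rw [show res F (le_refl (X.basicOpen h)) (q + 1) x = res F le₂ (q + 1) (res F (hle f h) (q + 1) x) from
        (res_res F (hle f h) le₂ (q + 1) x).symm, hf, map_zero]
    haveI : IsIso (X.homOfLE (le_refl (X.basicOpen h))) := by rw [Scheme.homOfLE_rfl]; infer_instance
    exact (EtAcycLib.bijective_Hpull_of_isIso (X.homOfLE (le_refl (X.basicOpen h))) _ _).1
      (((eq_zero_iff F _ _ _ _ _ x).1 h0).trans (map_zero _).symm)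

include hS in
theorem subsingleton_H
    (hker : ∀ (f g : Γ(X, ⊤)) (lf : X.basicOpen (f * (f + g)) ≤ X.basicOpen (f + g))
      (lg : X.basicOpen (g * (f + g)) ≤ X.basicOpen (f + g))
      (ξ : EtCoh.H ↑(X.basicOpen (f + g)) ((EtCoh.pull (X.basicOpen (f + g)).ι).obj F) 1),
      res F lf 1 ξ = 0 → res F lg 1 ξ = 0 → ξ = 0) (q : ℕ) :
    Subsingleton (EtCoh.H X F (q + 1)) := by
  haveI : IsIso (X.basicOpen (1 : Γ(X, ⊤))).ι :=
    isIso_of_isOpenImmersion_of_opensRange_eq_top _ (by rw [Scheme.Opens.opensRange_ι]; exact X.basicOpen_of_isUnit isUnit_one)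
  haveI := subsingleton_basicOpen F hS hker q 1
  exact (EtAcycLib.bijective_Hpull_of_isIso (X.basicOpen (1 : Γ(X, ⊤))).ι F (q + 1)).1.subsingleton

end Groth.Agent.EtFound.GabberCrit
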