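import Groth.Agent.EtFound.LiftEtale
import Groth.Agent.EtFound.LiftEtaleLoc
import Groth.Agent.EtFound.Basic
import Mathlib.RingTheory.Unramified.LocalStructure
import Mathlib.AlgebraicGeometry.Morphisms.ClosedImmersion

/-! etale schemes over a closed subscheme lift, Zariski locally -/

universe u

open CategoryTheory CategoryTheory.Limits AlgebraicGeometry Opposite Polynomial
open scoped TensorProduct

namespace Groth.Agent.EtFound

set_option backward.isDefEq.respectTransparency.types false


/-- `T` consists of fractions of elements coming from `A`. -/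
def IsFracImage (A T : Type u) [CommRing A] [CommRing T] [Algebra A T] : Prop :=
  ∀ t : T, ∃ a c : A, IsUnit (algebraMap A T c) ∧ t * algebraMap A T c = algebraMap A T a

theorem isFracImage_tensor (A B K : Type u) [CommRing A] [CommRing B] [CommRing K] [Algebra A B] [Algebra A K]
    (hK : IsFracImage A K) : IsFracImage B (B ⊗[A] K) := by
  intro t
  induction t using TensorProduct.induction_on with
  | zero => exact ⟨0, 1, by rw [map_one]; exact isUnit_one, by simp⟩
  | tmul b z =>
    obtain ⟨a, c, hc, h⟩ := hK z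
    have key : ∀ x : A, algebraMap B (B ⊗[A] K) (algebraMap A B x) = (1 : B) ⊗ₜ[A] algebraMap A K x := fun x => by
      rw [Algebra.TensorProduct.algebraMap_apply, Algebra.algebraMap_self, RingHom.id_apply,
        Algebra.algebraMap_eq_smul_one, Algebra.algebraMap_eq_smul_one, TensorProduct.smul_tmul]
    refine ⟨b * algebraMap A B a, algebraMap A B c, ?_, ?_⟩
    · rw [key]
      exact hc.map (Algebra.TensorProduct.includeRight : K →ₐ[A] B ⊗[A] K)
    · rw [key, map_mul, key, Algebra.TensorProduct.algebraMap_apply, Algebra.algebraMap_self,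
        RingHom.id_apply, Algebra.TensorProduct.tmul_mul_tmul, Algebra.TensorProduct.tmul_mul_tmul,
        h, mul_one, one_mul]
  | add x y hx hy =>
    obtain ⟨a, c, hc, h⟩ := hx
    obtain ⟨a', c', hc', h'⟩ := hy
    refine ⟨a * c' + a' * c, c * c', by rw [map_mul]; exact hc.mul hc', ?_⟩
    simp only [map_add, map_mul, ← h, ← h']
    ring

/-- standard etale algebras lift to a ring of which the base consists of fractions -/
theorem exists_standardEtale_lift_frac {A T C : Type u} [CommRing A] [CommRing T] [CommRing C] [Algebra A T]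
    (hT : IsFracImage A T) [Algebra T C] [Algebra.IsStandardEtale T C] :
    ∃ (P : StandardEtalePair A), Nonempty (T ⊗[A] P.Ring ≃ₐ[T] C) := by
  let I := RingHom.ker (algebraMap A T)
  let A' := A ⧸ I
  letI : Algebra A' T := (Ideal.Quotient.lift I (algebraMap A T) fun a ha => ha).toAlgebra
  haveI : IsScalarTower A A' T := IsScalarTower.of_algebraMap_eq fun a => rfl
  let S : Submonoid A' := (IsUnit.submonoid T).comap (algebraMap A' T)
  haveI : IsLocalization S T := by
    refine ⟨fun y => y.2, fun z => ?_, fun {x y} h => ?_⟩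
    · obtain ⟨a, c, hc, h⟩ := hT z
      exact ⟨(Ideal.Quotient.mk I a, ⟨Ideal.Quotient.mk I c, hc⟩), h⟩
    · refine ⟨1, ?_⟩
      have hinj : Function.Injective (algebraMap A' T) :=
        RingHom.lift_injective_of_ker_le_ideal I (f := algebraMap A T) (fun a ha => ha) le_rfl
      simpa using hinj h
  obtain ⟨P', ⟨e'⟩⟩ := exists_standardEtale_lift_loc (A := A') (T := T) (C := C) S
  haveI : Algebra.IsStandardEtale A' P'.Ring := inferInstance
  obtain ⟨P, ⟨e⟩⟩ := exists_standardEtale_lift (A := A) (T := A') (C := P'.Ring) Ideal.Quotient.mk_surjective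
  refine ⟨P, ⟨AlgEquiv.trans ?_ e'⟩⟩
  exact (Algebra.TensorProduct.cancelBaseChange A A' T T P.Ring).symm.trans
    (Algebra.TensorProduct.congr AlgEquiv.refl e)

/-- etale schemes lift Zariski locally, given the algebraic lifting -/
theorem exists_etale_lift_gen {Z X : Scheme.{u}} (i : Z ⟶ X) {U : Scheme.{u}}
    (f : U ⟶ Z) [AlgebraicGeometry.Etale f] (u : U) (A : CommRingCat.{u}) (j : Spec A ⟶ X) [IsOpenImmersion j]
    (T : CommRingCat.{u}) [Algebra A T] (k : Spec T ⟶ Z)
    (sq : IsPullback k (Spec.map (CommRingCat.ofHom (algebraMap A T))) i j)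
    (t : ↥(Spec T)) (ht : k.base t = f.base u) (hT : IsFracImage A T) :
    ∃ (V : X.Etale) (h : pullback V.hom i ⟶ U), h ≫ f = pullback.snd V.hom i ∧ IsOpenImmersion h ∧
      u ∈ Set.range h.base := by
  have hj : IsOpenImmersion j := inferInstance
  let q : Spec T ⟶ Spec A := Spec.map (CommRingCat.ofHom (algebraMap A T))
  have hk : IsOpenImmersion k := MorphismProperty.of_isPullback sq.flip hj
  obtain ⟨u', hu', hu''⟩ := Scheme.Pullback.exists_preimage_pullback (f := f) (g := k) u t ht.symm
  obtain ⟨C0, w, hw, hu0, -⟩ := Scheme.exists_affine_mem_range_and_range_subset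
    (x := u') (U := (⊤ : (pullback f k).Opens)) (by simp)
  obtain ⟨c, hc⟩ := hu0
  obtain ⟨φ, hφ⟩ := Spec.map_surjective (w ≫ pullback.snd f k)
  algebraize [φ.hom]
  have : Algebra.Etale T C0 := by
    have h : AlgebraicGeometry.Etale (Spec.map φ) := by
      have hs : AlgebraicGeometry.Etale (pullback.snd f k) :=
        MorphismProperty.of_isPullback (P := @AlgebraicGeometry.Etale) (IsPullback.of_hasPullback f k) ‹_›
      rw [hφ]; infer_instance
    exact RingHom.etale_algebraMap.1 ((HasRingHomProperty.Spec_iff (P := @AlgebraicGeometry.Etale)).mp h)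
  obtain ⟨g, hgc, hC⟩ := Algebra.IsEtaleAt.exists_isStandardEtale (R := T) c.asIdeal
  obtain ⟨P, ⟨eC⟩⟩ := exists_standardEtale_lift_frac (A := A) (T := T) (C := Localization.Away g) hT
  let B : CommRingCat.{u} := CommRingCat.of P.Ring
  let b : Spec B ⟶ Spec A := Spec.map (CommRingCat.ofHom (algebraMap A P.Ring))
  have hb : AlgebraicGeometry.Etale b := by
    rw [HasRingHomProperty.Spec_iff (P := @AlgebraicGeometry.Etale)]
    exact RingHom.etale_algebraMap.2 inferInstance
  have hVet : AlgebraicGeometry.Etale (b ≫ j) := inferInstance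
  let V : X.Etale := Scheme.Etale.mk (b ≫ j)
  -- the fibre of `V` over `Z`
  let L : CommRingCat.{u} := CommRingCat.of (Localization.Away g)
  let π : Spec L ⟶ Spec T := Spec.map (CommRingCat.ofHom (algebraMap T (Localization.Away g)))
  let m : Spec L ⟶ Spec B := Spec.map (CommRingCat.ofHom ((eC.toRingEquiv.toRingHom).comp
    (Algebra.TensorProduct.includeRight (R := A) (A := T) (B := P.Ring)).toRingHom))
  let ε : Spec L ≅ Spec (CommRingCat.of (T ⊗[A] P.Ring)) :=
    Scheme.Spec.mapIso (eC.toRingEquiv.toCommRingCatIso).op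
  have sq2 : IsPullback π m q b := by
    refine (IsPullback.of_hasPullback q b).of_iso ((pullbackSpecIso A T P.Ring) ≪≫ ε.symm)
      (Iso.refl _) (Iso.refl _) (Iso.refl _) ?_ ?_ (by simp) (by simp)
    · have e1 : ε.hom ≫ Spec.map (CommRingCat.ofHom (algebraMap T (T ⊗[A] P.Ring))) = π := by
        change Spec.map _ ≫ Spec.map _ = _
        rw [← Spec.map_comp]
        refine congrArg Spec.map ?_
        ext r
        exact eC.commutes r
      rw [← e1]
      change _ ≫ 𝟙 _ = ((pullbackSpecIso A T P.Ring).hom ≫ ε.inv) ≫ ε.hom ≫ _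
      rw [Category.comp_id, Category.assoc, Iso.inv_hom_id_assoc]
      exact (pullbackSpecIso_hom_fst' _ _ _).symm
    · have e2 : ε.hom ≫ Spec.map (CommRingCat.ofHom
          (Algebra.TensorProduct.includeRight (R := A) (A := T) (B := P.Ring)).toRingHom) = m := by
        change Spec.map _ ≫ Spec.map _ = _
        rw [← Spec.map_comp]
        rfl
      rw [← e2]
      change _ ≫ 𝟙 _ = ((pullbackSpecIso A T P.Ring).hom ≫ ε.inv) ≫ ε.hom ≫ _
      rw [Category.comp_id, Category.assoc, Iso.inv_hom_id_assoc]
      exact (pullbackSpecIso_hom_snd _ _ _).symm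
  have sq3 : IsPullback m (π ≫ k) (b ≫ j) i := sq2.flip.paste_vert sq.flip
  let o : Spec L ⟶ U := Spec.map (CommRingCat.ofHom (algebraMap C0 (Localization.Away g))) ≫ w ≫ pullback.fst f k
  have ho : IsOpenImmersion o := by
    have h1 : IsOpenImmersion (Spec.map (CommRingCat.ofHom (algebraMap C0 (Localization.Away g)))) :=
      IsOpenImmersion.of_isLocalization g
    have h2 : IsOpenImmersion (pullback.fst f k) :=
      MorphismProperty.of_isPullback (P := @IsOpenImmersion) (IsPullback.of_hasPullback f k).flip hk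
    infer_instance
  have hof : o ≫ f = π ≫ k := by
    simp only [o, Category.assoc, pullback.condition]
    rw [← Category.assoc w, ← hφ, ← Category.assoc, ← Spec.map_comp]
    refine congrArg (· ≫ k) (congrArg Spec.map ?_)
    ext r
    exact (IsScalarTower.algebraMap_apply T C0 (Localization.Away g) r).symm
  refine ⟨V, sq3.isoPullback.inv ≫ o, ?_, inferInstance, ?_⟩
  · rw [Category.assoc, hof]
    exact sq3.isoPullback_inv_snd
  · have hcg : c ∈ Set.range (Spec.map (CommRingCat.ofHom (algebraMap C0 (Localization.Away g)))).base :=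
      (PrimeSpectrum.localization_away_comap_range (Localization.Away g) g).ge hgc
    obtain ⟨l, hl⟩ := hcg
    obtain ⟨p', hp'⟩ := sq3.isoPullback.inv.surjective l
    refine ⟨p', (Scheme.Hom.comp_apply _ _ p').trans ((congrArg o.base hp').trans ?_)⟩
    rw [← hu']
    simp only [o, Scheme.Hom.comp_apply, hl, hc]

end Groth.Agent.EtFound
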