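import Groth.Agent.MorLib.GeomFibre

/-!
# Cocycles with values in torsion free groups vanish on Galois orbits of geometric points
-/

set_option autoImplicit false
universe u

open AlgebraicGeometry CategoryTheory Limits

namespace Groth.Agent.EtFound.OrbitCocycle

open Groth.Agent.MorLib.GF

set_option backward.isDefEq.respectTransparency.types false

variable {U V : Scheme.{u}}

theorem exists_ringHom_ext {L Ω Ω' : Type u} [Field L] [Field Ω] [Field Ω'] [IsAlgClosed Ω'] (α : L →+* Ω)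
    (hα : α.IsIntegral) (β : L →+* Ω') : ∃ σ : Ω →+* Ω', σ.comp α = β := by
  letI := α.toAlgebra
  letI := β.toAlgebra
  haveI : Algebra.IsIntegral L Ω := ⟨hα⟩
  haveI : Algebra.IsAlgebraic L Ω := Algebra.IsIntegral.isAlgebraic
  let l : Ω →ₐ[L] Ω' := IsAlgClosed.lift
  exact ⟨l.toRingHom, RingHom.ext fun y => l.commutes y⟩

theorem exists_galois (π : U ⟶ V) {Ω : Type u} [Field Ω] [IsAlgClosed Ω] {v : V}
    (η : V.residueField v ⟶ CommRingCat.of Ω) (hη : η.hom.IsIntegral) (z : U) (hz : π z = v)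
    {ξ ξ' : Spec (CommRingCat.of Ω) ⟶ U}
    (h : ξ ≫ π = Spec.map η ≫ V.fromSpecResidueField v) (hp : pt ξ = z)
    (h' : ξ' ≫ π = Spec.map η ≫ V.fromSpecResidueField v) (hp' : pt ξ' = z) :
    ∃ τ : Spec (CommRingCat.of Ω) ⟶ Spec (CommRingCat.of Ω), Epi τ ∧ τ ≫ ξ = ξ' ∧
      τ ≫ (Spec.map η ≫ V.fromSpecResidueField v) = Spec.map η ≫ V.fromSpecResidueField v := by
  subst hz
  have hψ : ∀ δ : Spec (CommRingCat.of Ω) ⟶ U, pt δ = z → δ ≫ π = Spec.map η ≫ V.fromSpecResidueField (π z) →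
      ∃ α : U.residueField z ⟶ CommRingCat.of Ω, δ = Spec.map α ≫ U.fromSpecResidueField z ∧
        π.residueFieldMap z ≫ α = η := fun δ hδu hδ => by
    obtain ⟨α, rfl⟩ : ∃ α : U.residueField z ⟶ CommRingCat.of Ω,
        δ = Spec.map α ≫ U.fromSpecResidueField z := by
      refine ⟨(U.residueFieldCongr hδu.symm).hom ≫ U.descResidueField (Scheme.stalkClosedPointTo δ), ?_⟩
      rw [Spec.map_comp, Category.assoc, Scheme.residueFieldCongr_fromSpecResidueField,
        Scheme.descResidueField_stalkClosedPointTo_fromSpecResidueField]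
    rw [Category.assoc, ← Scheme.Hom.SpecMap_residueFieldMap_fromSpecResidueField,
      ← Spec.map_comp_assoc, cancel_mono, Spec.map_inj] at hδ
    exact ⟨α, rfl, hδ⟩
  obtain ⟨α, rfl, hα⟩ := hψ ξ hp h
  obtain ⟨β, rfl, hβ⟩ := hψ ξ' hp' h'
  obtain ⟨σ, hσ⟩ := exists_ringHom_ext α.hom (RingHom.IsIntegral.tower_top _ _ (hα ▸ hη)) β.hom
  have h1 : Spec.map (CommRingCat.ofHom σ) ≫ Spec.map α ≫ U.fromSpecResidueField z =
      Spec.map β ≫ U.fromSpecResidueField z := by
    rw [← Spec.map_comp_assoc]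
    congr 2
    exact CommRingCat.hom_ext hσ
  refine ⟨Spec.map (CommRingCat.ofHom σ), ?_, h1, ?_⟩
  · refine ⟨fun {W} a b hab => ?_⟩
    obtain ⟨⟨p, αa⟩, rfl⟩ := (Scheme.SpecToEquivOfField Ω W).symm.surjective a
    obtain ⟨⟨q, αb⟩, rfl⟩ := (Scheme.SpecToEquivOfField Ω W).symm.surjective b
    have hpq : p = q := by
      have := congrArg (fun m : Spec (CommRingCat.of Ω) ⟶ W => pt m) hab
      simpa [pt, Scheme.SpecToEquivOfField] using this
    subst hpq
    simp only [Scheme.SpecToEquivOfField, Equiv.coe_fn_symm_mk, ← Spec.map_comp_assoc, cancel_mono,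
      Spec.map_inj] at hab
    have : αa = αb := CommRingCat.hom_ext (RingHom.ext fun r => σ.injective congr($hab r))
    rw [this]
  · rw [← h, ← Category.assoc, h1, h', h]

/-- A translation invariant cocycle on an orbit, with values in a torsion free group, is zero. -/
theorem eq_zero {P : Type*} [Finite P] {N : Type*} [AddCommGroup N] [IsAddTorsionFree N] (G : P → P → N)
    (hco : ∀ a b c, G a b + G b c = G a c)
    (hinv : ∀ a a', ∃ τ : P → P, Function.Injective τ ∧ τ a = a' ∧ ∀ b c, G (τ b) (τ c) = G b c) (a a' : P) :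
    G a a' = 0 := by
  classical
  haveI := Fintype.ofFinite P
  haveI : Nonempty P := ⟨a⟩
  obtain ⟨τ, hτ, rfl, hG⟩ := hinv a a'
  have hb : Function.Bijective τ := Finite.injective_iff_bijective.1 hτ
  have h1 : ∑ c, G (τ a) c = ∑ c, G a c := by
    rw [← (Equiv.ofBijective τ hb).sum_comp]
    exact Finset.sum_congr rfl fun c _ => hG a c
  have h2 : ∑ c, G a c = Fintype.card P • G a (τ a) + ∑ c, G (τ a) c := by
    rw [← Finset.card_univ, ← Finset.sum_const, ← Finset.sum_add_distrib]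
    exact Finset.sum_congr rfl fun c _ => (hco a (τ a) c).symm
  rw [h1] at h2
  exact (nsmul_eq_zero_iff_right (Fintype.card_ne_zero (α := P))).1 (right_eq_add.1 h2)

end Groth.Agent.EtFound.OrbitCocycle
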