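import Groth.Agent.EtFound.TopInvSplit
import Groth.Agent.Pi1Ext.UHDescent

/-! topological invariance of the small etale site: etale-local models descend -/

set_option autoImplicit false

universe u

open CategoryTheory CategoryTheory.Limits AlgebraicGeometry TopologicalSpace

noncomputable section

set_option backward.isDefEq.respectTransparency false
set_option backward.isDefEq.respectTransparency.types false

namespace Groth.Agent.EtFound.UH

open Groth.Agent.Pi1Ext.UH (lifts_bijective ofArrows_mem comm_apply)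

variable {X Y : Scheme.{u}} {f : X ⟶ Y} [IsIntegralHom f] [UniversallyInjective f] [Surjective f]
  {V : X.Etale} {y : Y}

/-- Lifts to `X`: the points of `V` over a `Y`-scheme. -/
abbrev Sec (f : X ⟶ Y) (V : X.Etale) {T : Scheme.{u}} (s : T ⟶ Y) : Type u :=
  {u : pullback s f ⟶ V.left // u ≫ V.hom = pullback.snd s f}

variable (M : Model f V y)

/-- The comparison map to the model. -/
def Model.j {T : Scheme.{u}} (x : T ⟶ M.Y') (s : T ⟶ Y) (hs : x ≫ M.v = s) : pullback s f ⟶ M.X' :=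
  M.sq.lift (pullback.snd s f) (pullback.fst s f ≫ x)
    (by rw [Category.assoc, hs, pullback.condition])

@[reassoc (attr := simp)]
theorem Model.j_a {T : Scheme.{u}} (x : T ⟶ M.Y') (s : T ⟶ Y) (hs : x ≫ M.v = s) :
    M.j x s hs ≫ M.a = pullback.snd s f := M.sq.lift_fst _ _ _

@[reassoc (attr := simp)]
theorem Model.j_b {T : Scheme.{u}} (x : T ⟶ M.Y') (s : T ⟶ Y) (hs : x ≫ M.v = s) :
    M.j x s hs ≫ M.b = pullback.fst s f ≫ x := M.sq.lift_snd _ _ _

/-- The component of `κ` towards `V`. -/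
def Model.toV : pullback M.E.hom M.b ⟶ V.left := M.κ.hom.left ≫ pullback.fst V.hom M.a

theorem Model.toV_hom : M.toV ≫ V.hom = pullback.snd M.E.hom M.b ≫ M.a := by
  rw [Model.toV, Category.assoc, pullback.condition, ← Category.assoc]
  exact congrArg (· ≫ M.a) (MorphismProperty.Over.w M.κ.hom)

theorem Model.toV_ext {T : Scheme.{u}} (p q : T ⟶ pullback M.E.hom M.b) (h1 : p ≫ M.toV = q ≫ M.toV)
    (h2 : p ≫ pullback.snd M.E.hom M.b = q ≫ pullback.snd M.E.hom M.b) : p = q := by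
  have h3 : p ≫ M.κ.hom.left = q ≫ M.κ.hom.left := by
    refine pullback.hom_ext ?_ ?_
    · simpa [Model.toV] using h1
    · have := MorphismProperty.Over.w M.κ.hom
      exact ((Category.assoc _ _ _).trans (congrArg (p ≫ ·) this)).trans
        (h2.trans ((congrArg (q ≫ ·) this).symm.trans (Category.assoc _ _ _).symm))
  have h4 := congrArg (· ≫ M.κ.inv.left) h3
  simp only [Category.assoc] at h4
  have h5 : M.κ.hom.left ≫ M.κ.inv.left = 𝟙 _ := congrArg (fun k => k.left) M.κ.hom_inv_id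
  simp only [h5, Category.comp_id] at h4
  exact h4

/-- The map from points of the model to sections of `V`. -/
def Model.toSec {T : Scheme.{u}} (x : T ⟶ M.Y') (s : T ⟶ Y) (hs : x ≫ M.v = s)
    (e : Desc.Lifts (CategoryTheory.Over.mk M.E.hom) x) : Sec f V s :=
  ⟨pullback.lift (pullback.fst s f ≫ e.1) (M.j x s hs)
      (by rw [Category.assoc, M.j_b]; exact congrArg (pullback.fst s f ≫ ·) e.2) ≫ M.toV, by
    rw [Category.assoc, M.toV_hom, pullback.lift_snd_assoc, M.j_a]⟩

theorem Model.toSec_bijective {T : Scheme.{u}} (x : T ⟶ M.Y') (s : T ⟶ Y) (hs : x ≫ M.v = s) :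
    Function.Bijective (M.toSec x s hs) := by
  haveI : IsIntegralHom (pullback.fst s f) := MorphismProperty.pullback_fst _ _ inferInstance
  haveI : UniversallyInjective (pullback.fst s f) :=
    MorphismProperty.pullback_fst (P := @UniversallyInjective) _ _ ‹_›
  haveI : Surjective (pullback.fst s f) := MorphismProperty.pullback_fst (P := @Surjective) _ _ ‹_›
  haveI : Etale M.E.hom := M.E.prop
  have hb := lifts_bijective (pullback.fst s f) M.E.hom x
  constructor
  · intro e e' h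
    refine hb.1 (Subtype.ext ?_)
    have := M.toV_ext _ _ (congrArg Subtype.val h) (by simp)
    exact (pullback.lift_fst _ _ _).symm.trans ((congrArg (· ≫ pullback.fst M.E.hom M.b) this).trans (pullback.lift_fst _ _ _))
  · rintro ⟨u, hu⟩
    let p : pullback s f ⟶ pullback M.E.hom M.b :=
      pullback.lift u (M.j x s hs) (by rw [hu, M.j_a]) ≫ M.κ.inv.left
    have hp : p ≫ pullback.snd M.E.hom M.b = M.j x s hs := by
      rw [Category.assoc]
      exact (congrArg (_ ≫ ·) (MorphismProperty.Over.w M.κ.inv)).trans (pullback.lift_snd _ _ _)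
    obtain ⟨e, he⟩ := hb.2 ⟨p ≫ pullback.fst M.E.hom M.b, by
      rw [Category.assoc, pullback.condition, ← Category.assoc, hp, M.j_b]⟩
    refine ⟨e, Subtype.ext ?_⟩
    have he' : pullback.fst s f ≫ e.1 = p ≫ pullback.fst M.E.hom M.b := congrArg Subtype.val he
    show pullback.lift _ _ _ ≫ M.toV = u
    have : pullback.lift (pullback.fst s f ≫ e.1) (M.j x s hs)
      (by rw [Category.assoc, M.j_b]; exact congrArg (pullback.fst s f ≫ ·) e.2) = p :=
      pullback.hom_ext ((pullback.lift_fst _ _ _).trans he') ((pullback.lift_snd _ _ _).trans hp.symm)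
    rw [this]
    simp only [p, Model.toV, Category.assoc]
    have h5 : M.κ.inv.left ≫ M.κ.hom.left = 𝟙 _ := congrArg (fun k => k.left) M.κ.inv_hom_id
    rw [reassoc_of% h5]
    exact pullback.lift_fst _ _ _

/-- Points of the model are sections of `V`. -/
def Model.secEquiv {T : Scheme.{u}} (x : T ⟶ M.Y') (s : T ⟶ Y) (hs : x ≫ M.v = s) :
    Desc.Lifts (CategoryTheory.Over.mk M.E.hom) x ≃ Sec f V s :=
  Equiv.ofBijective _ (M.toSec_bijective x s hs)

theorem Model.toSec_natural {T T' : Scheme.{u}} (g : T' ⟶ T) (x : T ⟶ M.Y') (s : T ⟶ Y) (hs : x ≫ M.v = s)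
    (x' : T' ⟶ M.Y') (s' : T' ⟶ Y) (hs' : x' ≫ M.v = s') (hx : g ≫ x = x')
    (e : Desc.Lifts (CategoryTheory.Over.mk M.E.hom) x) (e' : Desc.Lifts (CategoryTheory.Over.mk M.E.hom) x')
    (he : e'.1 = g ≫ e.1) :
    (M.toSec x' s' hs' e').1 = pullback.map s' f s f g (𝟙 X) (𝟙 Y)
      (by rw [Category.comp_id, ← hs', ← hx, Category.assoc, hs]) (by simp) ≫ (M.toSec x s hs e).1 := by
  subst hx
  simp only [Model.toSec]
  rw [← Category.assoc]
  refine congrArg (· ≫ M.toV) (pullback.hom_ext ?_ ?_)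
  · simp [he]
  · rw [Category.assoc, pullback.lift_snd, pullback.lift_snd]
    refine M.sq.hom_ext ?_ ?_ <;> simp

section global

variable (f V) (Ms : ∀ y : Y, Model f V y)

/-- The descent datum. -/
def datum : Desc.SchDDFam (fun y => (Ms y).v) where
  obj y := CategoryTheory.Over.mk (Ms y).E.hom
  φ _ i j x₀ x₁ h := ((Ms i).secEquiv x₀ (x₀ ≫ (Ms i).v) rfl).trans
    ((Ms j).secEquiv x₁ (x₀ ≫ (Ms i).v) h.symm).symm
  φ_natural T T' g i j x₀ x₁ h y₀ y₁ hy₀ hy₁ h' v v' hv' := by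
    let e₁ := ((Ms i).secEquiv x₀ (x₀ ≫ (Ms i).v) rfl).trans ((Ms j).secEquiv x₁ (x₀ ≫ (Ms i).v) h.symm).symm v
    let e₁' := ((Ms i).secEquiv y₀ (y₀ ≫ (Ms i).v) rfl).trans ((Ms j).secEquiv y₁ (y₀ ≫ (Ms i).v) h'.symm).symm v'
    have hg : (⟨g ≫ e₁.1, by rw [Category.assoc, e₁.2, hy₁]⟩ : Desc.Lifts (CategoryTheory.Over.mk (Ms j).E.hom) y₁) = e₁' := by
      refine ((Ms j).secEquiv y₁ (y₀ ≫ (Ms i).v) h'.symm).injective ?_
      refine Eq.trans (Subtype.ext ?_) (Equiv.apply_symm_apply _ _).symm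
      have k1 := (Ms j).toSec_natural g x₁ (x₀ ≫ (Ms i).v) h.symm y₁ (y₀ ≫ (Ms i).v) h'.symm hy₁ e₁
        ⟨g ≫ e₁.1, by rw [Category.assoc, e₁.2, hy₁]⟩ rfl
      have k2 := (Ms i).toSec_natural g x₀ (x₀ ≫ (Ms i).v) rfl y₀ (y₀ ≫ (Ms i).v) rfl hy₀ v v' hv'
      refine k1.trans (Eq.trans ?_ k2.symm)
      refine congrArg (_ ≫ ·) (congrArg Subtype.val ?_)
      exact ((Ms j).secEquiv x₁ (x₀ ≫ (Ms i).v) h.symm).apply_symm_apply _
    exact (congrArg Subtype.val hg).symm
  φ_self T i x v := ((Ms i).secEquiv x (x ≫ (Ms i).v) rfl).symm_apply_apply v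
  φ_comp T i j k x₀ x₁ x₂ h₀₁ h₁₂ v := by
    simp only [Equiv.trans_apply]
    have key : ∀ (s s' : T ⟶ Y) (e : s = s') (hs : x₁ ≫ (Ms j).v = s) (hs' : x₁ ≫ (Ms j).v = s')
        (ht : x₂ ≫ (Ms k).v = s) (ht' : x₂ ≫ (Ms k).v = s') (w : Desc.Lifts (CategoryTheory.Over.mk (Ms j).E.hom) x₁),
        ((Ms k).secEquiv x₂ s ht).symm ((Ms j).secEquiv x₁ s hs w) =
          ((Ms k).secEquiv x₂ s' ht').symm ((Ms j).secEquiv x₁ s' hs' w) := by
      rintro s _ rfl _ _ _ _ _; rfl
    rw [key _ _ h₀₁.symm rfl h₀₁.symm h₁₂.symm (h₁₂.symm.trans h₀₁.symm), Equiv.apply_symm_apply]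

variable {f V}


/-- The isomorphism of a model and the pullback of a solution. -/
def compIso (U : CategoryTheory.Over Y) (θ : (Desc.toDDFam fun y => (Ms y).v).obj U ≅ datum f V Ms) (y : Y) :
    pullback (Ms y).v U.hom ≅ (Ms y).E.left where
  hom := (θ.hom.hom y).left
  inv := (θ.inv.hom y).left
  hom_inv_id := congrArg (fun k => (k.hom y).left) θ.hom_inv_id
  inv_hom_id := congrArg (fun k => (k.hom y).left) θ.inv_hom_id

theorem etale_of_models (hv : ∀ y, IsAffine (Ms y).Y') (hW : ∀ y, ∃ W : Y.Opens, IsAffineOpen W ∧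
    Set.range (Ms y).v.base ⊆ W) (U : CategoryTheory.Over Y)
    (θ : (Desc.toDDFam fun y => (Ms y).v).obj U ≅ datum f V Ms) : Etale U.hom := by
  haveI := fun y => (Ms y).hv
  let O : Y → Y.Opens := fun y => ⟨Set.range (Ms y).v.base, (Ms y).v.isOpenMap.isOpen_range⟩
  have hO : ⨆ y, O y = ⊤ := top_le_iff.mp fun y _ => Opens.mem_iSup.mpr ⟨y, ⟨(Ms y).z, (Ms y).hz⟩⟩
  have key : ∀ y, Etale (U.hom ∣_ O y) := fun y => by
    obtain ⟨W, hWa, hWr⟩ := hW y
    let v' : (Ms y).Y' ⟶ O y := IsOpenImmersion.lift (O y).ι (Ms y).v (by simp [O])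
    have hv' : v' ≫ (O y).ι = (Ms y).v := IsOpenImmersion.lift_fac _ _ _
    haveI : Etale v' := MorphismProperty.of_postcomp (W := @Etale) (W' := @Etale) v' (O y).ι inferInstance
      (hv'.symm ▸ (Ms y).hv)
    haveI : Surjective v' := ⟨fun o => by
      obtain ⟨t, ht⟩ := o.2
      exact ⟨t, (O y).ι.isOpenEmbedding.injective
        ((Scheme.Hom.comp_apply _ _ _).symm.trans ((congrArg (fun k => k.base t) hv').trans ht))⟩⟩
    haveI : IsAffine W := hWa
    haveI : QuasiSeparatedSpace (O y : Scheme.{u}) :=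
      quasiSeparatedSpace_of_quasiSeparated (Y.homOfLE (show O y ≤ W from hWr))
    haveI : IsAffine (Ms y).Y' := hv y
    haveI : QuasiCompact v' := quasiCompact_of_compactSpace v'
    have hQ : (@Surjective ⊓ @Flat ⊓ @QuasiCompact : MorphismProperty Scheme.{u}) v' :=
      ⟨⟨inferInstance, inferInstance⟩, inferInstance⟩
    let m : pullback (Ms y).v U.hom ⟶ (U.hom ⁻¹ᵁ O y : Scheme.{u}) :=
      IsOpenImmersion.lift (U.hom ⁻¹ᵁ O y).ι (pullback.snd (Ms y).v U.hom) (by
        rintro _ ⟨t, rfl⟩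
        rw [Scheme.Opens.range_ι]
        exact ⟨_, comm_apply pullback.condition t⟩)
    have hm : m ≫ (U.hom ⁻¹ᵁ O y).ι = pullback.snd (Ms y).v U.hom := IsOpenImmersion.lift_fac _ _ _
    have sq : IsPullback m (pullback.fst (Ms y).v U.hom) (U.hom ∣_ O y) v' := by
      refine IsPullback.of_right ?_ ?_ (isPullback_morphismRestrict U.hom (O y)).flip
      · rw [hm, hv']
        exact (IsPullback.of_hasPullback _ _).flip
      · rw [← cancel_mono (O y).ι, Category.assoc, morphismRestrict_ι, Category.assoc, hv', ← Category.assoc, hm,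
          pullback.condition]
    have he : (compIso Ms U θ y).hom ≫ (Ms y).E.hom = pullback.fst (Ms y).v U.hom :=
      CategoryTheory.Over.w (θ.hom.hom y)
    refine MorphismProperty.of_isPullback_of_descendsAlong (P := @Etale)
        (Q := (@Surjective ⊓ @Flat ⊓ @QuasiCompact : MorphismProperty Scheme.{u})) sq.flip hQ ?_
    rw [← he]
    exact (MorphismProperty.cancel_left_of_respectsIso (P := @Etale) _ _).mpr (Ms y).E.prop
  exact (IsZariskiLocalAtTarget.iff_of_iSup_eq_top (P := @Etale) O hO).mpr key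

theorem sigma_toSec (M : Model f V y) {T : Scheme.{u}} (x : T ⟶ M.X') (s : T ⟶ Y) (hs : (x ≫ M.b) ≫ M.v = s)
    (w : 𝟙 T ≫ s = (x ≫ M.a) ≫ f) (e : Desc.Lifts (CategoryTheory.Over.mk M.E.hom) (x ≫ M.b)) :
    pullback.lift (𝟙 T) (x ≫ M.a) w ≫ (M.toSec (x ≫ M.b) s hs e).1 =
      pullback.lift e.1 x e.2 ≫ M.toV := by
  rw [Model.toSec, ← Category.assoc]
  refine congrArg (· ≫ M.toV) (pullback.hom_ext ?_ ?_)
  · simp
    exact Category.id_comp _
  · rw [Category.assoc, pullback.lift_snd]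
    refine Eq.trans ?_ (pullback.lift_snd _ _ _).symm
    refine M.sq.hom_ext ?_ ?_ <;> simp
    exact Category.id_comp _

variable (U : CategoryTheory.Over Y) (θ : (Desc.toDDFam fun y => (Ms y).v).obj U ≅ datum f V Ms)

/-- The solution restricted to `X`. -/
abbrev UX : CategoryTheory.Over X := CategoryTheory.Over.mk (pullback.snd U.hom f)

/-- The forward component. -/
def fwd (y : Y) : pullback (Ms y).a (pullback.snd U.hom f) ⟶ pullback (Ms y).E.hom (Ms y).b :=
  pullback.lift (pullback.lift (pullback.fst _ _ ≫ (Ms y).b) (pullback.snd _ _ ≫ pullback.fst U.hom f)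
      (by rw [Category.assoc, ← (Ms y).sq.w, Category.assoc, pullback.condition (f := U.hom), ← Category.assoc,
        ← Category.assoc, pullback.condition]) ≫ (compIso Ms U θ y).hom)
    (pullback.fst _ _)
    (by rw [Category.assoc, show (compIso Ms U θ y).hom ≫ (Ms y).E.hom = pullback.fst _ _ from
      CategoryTheory.Over.w (θ.hom.hom y), pullback.lift_fst])

/-- The backward component. -/
def bwd (y : Y) : pullback (Ms y).E.hom (Ms y).b ⟶ pullback (Ms y).a (pullback.snd U.hom f) :=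
  pullback.lift (pullback.snd _ _)
    (pullback.lift (pullback.fst _ _ ≫ (compIso Ms U θ y).inv ≫ pullback.snd _ _) (pullback.snd _ _ ≫ (Ms y).a)
      (by
        have h := CategoryTheory.Over.w (θ.inv.hom y)
        simp only [Category.assoc]
        rw [← pullback.condition, ← Category.assoc (compIso Ms U θ y).inv,
          show (compIso Ms U θ y).inv ≫ pullback.fst _ _ = (Ms y).E.hom from h, ← Category.assoc,
          pullback.condition, Category.assoc, (Ms y).sq.w]))
    (pullback.lift_snd _ _ _).symm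

theorem fwd_bwd (y : Y) : fwd Ms U θ y ≫ bwd Ms U θ y = 𝟙 _ := by
  refine pullback.hom_ext ?_ ?_
  · simp [fwd, bwd]
  · refine pullback.hom_ext ?_ ?_
    · simp [fwd, bwd]
    · simp [fwd, bwd, pullback.condition]

theorem bwd_fwd (y : Y) : bwd Ms U θ y ≫ fwd Ms U θ y = 𝟙 _ := by
  refine pullback.hom_ext ?_ ?_
  · simp only [fwd, Category.assoc, pullback.lift_fst, Category.id_comp]
    rw [← Category.assoc, ← Iso.eq_comp_inv]
    refine pullback.hom_ext ?_ ?_
    · have h := CategoryTheory.Over.w (θ.inv.hom y)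
      simp only [bwd, Category.assoc, pullback.lift_fst, pullback.lift_fst_assoc]
      rw [show (compIso Ms U θ y).inv ≫ pullback.fst _ _ = (Ms y).E.hom from h, pullback.condition]
    · simp [bwd]
  · simp [fwd, bwd]

/-- The component isomorphisms over `X`. -/
def component (y : Y) : CategoryTheory.Over.mk (pullback.fst (Ms y).a (UX (f := f) U).hom) ≅
    CategoryTheory.Over.mk (pullback.fst (Ms y).a (CategoryTheory.Over.mk V.hom).hom) :=
  CategoryTheory.Over.isoMk
    ({ hom := fwd Ms U θ y, inv := bwd Ms U θ y, hom_inv_id := fwd_bwd Ms U θ y, inv_hom_id := bwd_fwd Ms U θ y } ≪≫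
      { hom := (Ms y).κ.hom.left, inv := (Ms y).κ.inv.left,
        hom_inv_id := congrArg (fun k => k.left) (Ms y).κ.hom_inv_id,
        inv_hom_id := congrArg (fun k => k.left) (Ms y).κ.inv_hom_id } ≪≫ pullbackSymmetry V.hom (Ms y).a)
    (by
      show ((fwd Ms U θ y ≫ (Ms y).κ.hom.left ≫ (pullbackSymmetry V.hom (Ms y).a).hom)) ≫ pullback.fst _ _ = _
      simp only [Category.assoc, pullbackSymmetry_hom_comp_fst]
      rw [show (Ms y).κ.hom.left ≫ pullback.snd V.hom (Ms y).a = pullback.snd _ _ from MorphismProperty.Over.w (Ms y).κ.hom]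
      simp [fwd])

theorem component_snd (y : Y) : (component Ms U θ y).hom.left ≫ pullback.snd (Ms y).a V.hom =
    fwd Ms U θ y ≫ (Ms y).toV := by
  show (fwd Ms U θ y ≫ (Ms y).κ.hom.left ≫ (pullbackSymmetry V.hom (Ms y).a).hom) ≫ pullback.snd _ _ = _
  simp [Model.toV]

theorem comm_component ⦃T : Scheme.{u}⦄ ⦃i j : Y⦄ (x₀ : T ⟶ (Ms i).X') (x₁ : T ⟶ (Ms j).X')
    (h : x₀ ≫ (Ms i).a = x₁ ≫ (Ms j).a) (v : T ⟶ pullback (Ms i).a (pullback.snd U.hom f))
    (hv : v ≫ pullback.fst _ _ = x₀) (v₁ : T ⟶ pullback (Ms j).a (pullback.snd U.hom f))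
    (hv₁ : v₁ ≫ pullback.fst _ _ = x₁) (hsnd : v₁ ≫ pullback.snd _ _ = v ≫ pullback.snd _ _) :
    v₁ ≫ fwd Ms U θ j ≫ (Ms j).toV = v ≫ fwd Ms U θ i ≫ (Ms i).toV := by
  let s : T ⟶ Y := (x₀ ≫ (Ms i).a) ≫ f
  have hs₀ : (x₀ ≫ (Ms i).b) ≫ (Ms i).v = s := by simp only [s, Category.assoc, (Ms i).sq.w]
  have hs₁ : (x₁ ≫ (Ms j).b) ≫ (Ms j).v = s := by
    show _ = (x₀ ≫ (Ms i).a) ≫ f
    rw [h, Category.assoc, Category.assoc, (Ms j).sq.w]
  let r : T ⟶ U.left := v ≫ pullback.snd _ _ ≫ pullback.fst U.hom f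
  have hr : r ≫ U.hom = s := by
    simp only [r, s, Category.assoc, pullback.condition (f := U.hom), ← hv, pullback.condition_assoc]
  let c₀ : Desc.Lifts (((Desc.toDDFam fun y => (Ms y).v).obj U).obj i) (x₀ ≫ (Ms i).b) :=
    ⟨pullback.lift (x₀ ≫ (Ms i).b) r (hs₀.trans hr.symm), pullback.lift_fst _ _ _⟩
  let e₀ : Desc.Lifts (CategoryTheory.Over.mk (Ms i).E.hom) (x₀ ≫ (Ms i).b) :=
    ⟨c₀.1 ≫ (compIso Ms U θ i).hom, by
      rw [Category.assoc]; exact (congrArg (c₀.1 ≫ ·) (CategoryTheory.Over.w (θ.hom.hom i))).trans c₀.2⟩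
  let e₁ : Desc.Lifts (CategoryTheory.Over.mk (Ms j).E.hom) (x₁ ≫ (Ms j).b) :=
    ⟨pullback.lift (x₁ ≫ (Ms j).b) r (hs₁.trans hr.symm) ≫ (compIso Ms U θ j).hom, by
      rw [Category.assoc]
      exact (congrArg (_ ≫ ·) (CategoryTheory.Over.w (θ.hom.hom j))).trans (pullback.lift_fst _ _ _)⟩
  have hφ : (datum f V Ms).φ (x₀ ≫ (Ms i).b) (x₁ ≫ (Ms j).b) (hs₀.trans hs₁.symm) e₀ = e₁ := by
    refine Subtype.ext ((θ.hom.comm (x₀ ≫ (Ms i).b) (x₁ ≫ (Ms j).b) (hs₀.trans hs₁.symm) c₀ e₀ rfl).trans ?_)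
    refine congrArg (· ≫ (compIso Ms U θ j).hom) ?_
    refine pullback.hom_ext ?_ ?_
    · simp [Desc.toDDFam, Desc.canonicalDDFam]
    · simp [Desc.toDDFam, Desc.canonicalDDFam, c₀]
  have key : ∀ (s' : T ⟶ Y) (e : s' = s) (hi : (x₀ ≫ (Ms i).b) ≫ (Ms i).v = s') (hj : (x₁ ≫ (Ms j).b) ≫ (Ms j).v = s'),
      (Ms j).secEquiv _ s' hj (((Ms j).secEquiv _ s' hj).symm ((Ms i).secEquiv _ s' hi e₀)) = (Ms i).secEquiv _ s' hi e₀ →
      ((Ms j).secEquiv _ s' hj).symm ((Ms i).secEquiv _ s' hi e₀) = e₁ →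
      ((Ms j).toSec _ s hs₁ e₁).1 = ((Ms i).toSec _ s hs₀ e₀).1 := by
    rintro _ rfl hi hj ha hb
    rw [hb] at ha
    exact congrArg Subtype.val ha
  have hsec := key ((x₀ ≫ (Ms i).b) ≫ (Ms i).v) hs₀ rfl (hs₁.trans hs₀.symm) (Equiv.apply_symm_apply _ _) hφ
  have hl₀ : v ≫ fwd Ms U θ i = pullback.lift e₀.1 x₀ e₀.2 := by
    refine pullback.hom_ext ?_ ?_
    · simp only [fwd, Category.assoc, pullback.lift_fst, e₀]
      refine Eq.trans ?_ (pullback.lift_fst _ _ _).symm
      rw [← Category.assoc]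
      refine congrArg (· ≫ (compIso Ms U θ i).hom) (pullback.hom_ext ?_ ?_)
      · simp [c₀, ← hv]
      · simp [c₀, r]
    · simp [fwd, hv]
  have hl₁ : v₁ ≫ fwd Ms U θ j = pullback.lift e₁.1 x₁ e₁.2 := by
    refine pullback.hom_ext ?_ ?_
    · simp only [fwd, Category.assoc, pullback.lift_fst, e₁]
      refine Eq.trans ?_ (pullback.lift_fst _ _ _).symm
      rw [← Category.assoc]
      refine congrArg (· ≫ (compIso Ms U θ j).hom) (pullback.hom_ext ?_ ?_)
      · simp [← hv₁]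
      · simp [r, reassoc_of% hsnd]
    · simp [fwd, hv₁]
  rw [← Category.assoc, hl₁, ← Category.assoc, hl₀,
    ← sigma_toSec (Ms j) x₁ s hs₁ (by rw [Category.id_comp]; exact congrArg (· ≫ f) h) e₁, ← sigma_toSec (Ms i) x₀ s hs₀ (by simp [s]) e₀, hsec]
  exact congrArg (· ≫ _) (pullback.hom_ext (by simp) (by simp [h]))

include θ in
theorem exists_restrict_iso : Nonempty (UX (f := f) U ≅ CategoryTheory.Over.mk V.hom) := by
  haveI : ∀ y, Etale (Ms y).a := fun y => MorphismProperty.of_isPullback (Ms y).sq.flip (Ms y).hv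
  have hcov : DescLib.factorSieve (fun y => (Ms y).a) (𝟙 X) ∈ Scheme.fpqcTopology X := by
    refine DescLib.factorSieve_mem_of_cover _ (ofArrows_mem _ inferInstance fun x => ⟨f.base x, ?_⟩) _
    obtain ⟨t, ht, -⟩ := Scheme.Pullback.exists_preimage_pullback (f := f) (g := (Ms (f.base x)).v) x
      (Ms (f.base x)).z (Ms (f.base x)).hz.symm
    exact ⟨(Ms (f.base x)).sq.isoPullback.inv.base t, by
      rw [← Scheme.Hom.comp_apply, IsPullback.isoPullback_inv_fst, ht]⟩
  obtain ⟨h1, h2⟩ := DescLib.toDDFam_full_faithful hcov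
  let D := Desc.toDDFam fun y => (Ms y).a
  let hom : D.obj (UX (f := f) U) ⟶ D.obj (CategoryTheory.Over.mk V.hom) :=
    ⟨fun y => (component Ms U θ y).hom, fun T i j x₀ x₁ h v w hw => by
      refine pullback.hom_ext ?_ ?_
      · refine Eq.trans ((((D.obj (CategoryTheory.Over.mk V.hom)).φ x₀ x₁ h w).2)) ?_
        rw [Category.assoc]
        exact ((congrArg (_ ≫ ·) (CategoryTheory.Over.w (component Ms U θ j).hom)).trans
          ((D.obj (UX (f := f) U)).φ x₀ x₁ h v).2).symm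
      · refine (pullback.lift_snd _ _ _).trans ?_
        rw [hw, Category.assoc]
        refine (congrArg (v.1 ≫ ·) (component_snd Ms U θ i)).trans ?_
        rw [Category.assoc]
        refine Eq.trans ?_ (congrArg (_ ≫ ·) (component_snd Ms U θ j)).symm
        exact (comm_component Ms U θ x₀ x₁ h v.1 v.2 _ ((D.obj (UX (f := f) U)).φ x₀ x₁ h v).2
          (pullback.lift_snd _ _ _)).symm⟩
  haveI : ∀ y, IsIso (hom.hom y) := fun y => inferInstanceAs (IsIso (component Ms U θ y).hom)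
  let inv : D.obj (CategoryTheory.Over.mk V.hom) ⟶ D.obj (UX (f := f) U) :=
    ⟨fun y => (component Ms U θ y).inv, fun T i j x₀ x₁ h v w hw => by
      let v' : Desc.Lifts ((D.obj (UX (f := f) U)).obj i) x₀ := w
      have hv' : v.1 = v'.1 ≫ (component Ms U θ i).hom.left := by
        show v.1 = w.1 ≫ _
        rw [hw, Category.assoc, ← CategoryTheory.Over.comp_left, Iso.inv_hom_id]
        exact (Category.comp_id _).symm
      rw [hom.comm x₀ x₁ h v' v hv', Category.assoc]
      show _ = _ ≫ (component Ms U θ j).hom.left ≫ (component Ms U θ j).inv.left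
      rw [← CategoryTheory.Over.comp_left, Iso.hom_inv_id]
      exact (Category.comp_id _).symm⟩
  let I : D.obj (UX (f := f) U) ≅ D.obj (CategoryTheory.Over.mk V.hom) :=
    ⟨hom, inv, Desc.SchDDFam.hom_ext (funext fun y => (component Ms U θ y).hom_inv_id),
      Desc.SchDDFam.hom_ext (funext fun y => (component Ms U θ y).inv_hom_id)⟩
  haveI : D.Full := h1
  haveI : D.Faithful := h2
  exact ⟨D.preimageIso I⟩

end global


end Groth.Agent.EtFound.UH
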