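import Groth.Agent.EtFound.RadicialFpqc
import Groth.Agent.EtFound.TopInvEquiv
import Groth.Agent.EtFound.TopInvDescent
import Groth.Agent.S7482

/-! etale schemes descend along radicial fpqc maps -/

set_option autoImplicit false

universe u

open CategoryTheory CategoryTheory.Limits AlgebraicGeometry

noncomputable section

set_option backward.isDefEq.respectTransparency false
set_option backward.isDefEq.respectTransparency.types false

namespace Groth.Agent.EtFound.Rad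

open Groth.Agent.Pi1Ext.UH (lifts_bijective)

variable {S S' : Scheme.{u}} (g : S' ⟶ S) [Flat g] [QuasiCompact g] [Surjective g] [UniversallyInjective g]

theorem diag_props : IsClosedImmersion (pullback.diagonal g) ∧ Surjective (pullback.diagonal g) := by
  have hs : Surjective (pullback.diagonal g) := (UniversallyInjective.iff_diagonal g).1 inferInstance
  refine ⟨IsClosedImmersion.of_isPreimmersion _ ?_, hs⟩
  rw [(pullback.diagonal g).surjective.range_eq]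
  exact isClosed_univ

variable {g}

/-- the locus where two points over `S` agree -/
abbrev eqOn {T : Scheme.{u}} (x₀ x₁ : T ⟶ S') (h : x₀ ≫ g = x₁ ≫ g) :
    pullback (pullback.lift x₀ x₁ h) (pullback.diagonal g) ⟶ T := pullback.fst _ _

theorem eqOn_props {T : Scheme.{u}} (x₀ x₁ : T ⟶ S') (h : x₀ ≫ g = x₁ ≫ g) :
    IsIntegralHom (eqOn x₀ x₁ h) ∧ UniversallyInjective (eqOn x₀ x₁ h) ∧ Surjective (eqOn x₀ x₁ h) := by
  obtain ⟨_, _⟩ := diag_props g
  haveI : IsClosedImmersion (eqOn x₀ x₁ h) := MorphismProperty.pullback_fst _ _ ‹_›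
  exact ⟨inferInstance, inferInstance, MorphismProperty.pullback_fst (P := @Surjective) _ _ ‹_›⟩

theorem eqOn_eq {T : Scheme.{u}} (x₀ x₁ : T ⟶ S') (h : x₀ ≫ g = x₁ ≫ g) :
    eqOn x₀ x₁ h ≫ x₀ = eqOn x₀ x₁ h ≫ x₁ := by
  have e0 := congrArg (· ≫ pullback.fst g g)
    (pullback.condition (f := pullback.lift x₀ x₁ h) (g := pullback.diagonal g))
  have e1 := congrArg (· ≫ pullback.snd g g)
    (pullback.condition (f := pullback.lift x₀ x₁ h) (g := pullback.diagonal g))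
  simp only [Category.assoc, pullback.lift_fst, pullback.lift_snd, pullback.diagonal_fst,
    pullback.diagonal_snd] at e0 e1
  exact e0.trans e1.symm

variable (U : S'.Etale)

abbrev objU : CategoryTheory.Over S' := CategoryTheory.Over.mk U.hom

/-- transport of points -/
theorem exists_tr {T : Scheme.{u}} (x₀ x₁ : T ⟶ S') (h : x₀ ≫ g = x₁ ≫ g)
    (v : Desc.Lifts (objU U) x₀) : ∃ w : Desc.Lifts (objU U) x₁,
      ∀ {C : Scheme.{u}} (k : C ⟶ T), k ≫ x₀ = k ≫ x₁ → k ≫ w.1 = k ≫ v.1 := by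
  obtain ⟨_, _, _⟩ := eqOn_props x₀ x₁ h
  haveI : Etale U.hom := U.prop
  obtain ⟨⟨w, hw⟩, e⟩ := (lifts_bijective (eqOn x₀ x₁ h) U.hom x₁).2
    ⟨eqOn x₀ x₁ h ≫ v.1, by
      rw [Category.assoc, ← eqOn_eq x₀ x₁ h]
      exact congrArg (_ ≫ ·) v.2⟩
  refine ⟨⟨w, hw⟩, fun {C} k hk => ?_⟩
  have he : eqOn x₀ x₁ h ≫ w = eqOn x₀ x₁ h ≫ v.1 := congrArg Subtype.val e
  have hk' : pullback.lift k (k ≫ x₀) (pullback.hom_ext (by simp) (by simp [hk])) ≫ eqOn x₀ x₁ h = k :=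
    pullback.lift_fst _ _ _
  exact (congrArg (· ≫ w) hk').symm.trans ((Category.assoc _ _ _).trans ((congrArg (_ ≫ ·) he).trans
    ((Category.assoc _ _ _).symm.trans (congrArg (· ≫ v.1) hk'))))

/-- transport of points, as a map -/
def tr {T : Scheme.{u}} (x₀ x₁ : T ⟶ S') (h : x₀ ≫ g = x₁ ≫ g) (v : Desc.Lifts (objU U) x₀) :
    Desc.Lifts (objU U) x₁ := (exists_tr U x₀ x₁ h v).choose

theorem tr_spec {T : Scheme.{u}} (x₀ x₁ : T ⟶ S') (h : x₀ ≫ g = x₁ ≫ g) (v : Desc.Lifts (objU U) x₀)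
    {C : Scheme.{u}} (k : C ⟶ T) (hk : k ≫ x₀ = k ≫ x₁) : k ≫ (tr U x₀ x₁ h v).1 = k ≫ v.1 :=
  (exists_tr U x₀ x₁ h v).choose_spec k hk

theorem lifts_ext {T C : Scheme.{u}} (x : T ⟶ S') (k : C ⟶ T) [IsIntegralHom k] [UniversallyInjective k]
    [Surjective k] (v w : Desc.Lifts (objU U) x) (e : k ≫ v.1 = k ≫ w.1) : v = w := by
  haveI : Etale U.hom := U.prop
  exact (lifts_bijective k U.hom x).1 (a₁ := v) (a₂ := w) (Subtype.ext e)

theorem tr_self {T : Scheme.{u}} (x : T ⟶ S') (v : Desc.Lifts (objU U) x) : tr U x x (rfl : x ≫ g = x ≫ g) v = v := by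
  refine Subtype.ext ?_
  have := tr_spec U x x (rfl : x ≫ g = x ≫ g) v (𝟙 T) rfl
  rwa [Category.id_comp, Category.id_comp] at this

theorem tr_comp {T : Scheme.{u}} (x₀ x₁ x₂ : T ⟶ S') (h₀₁ : x₀ ≫ g = x₁ ≫ g) (h₁₂ : x₁ ≫ g = x₂ ≫ g)
    (v : Desc.Lifts (objU U) x₀) :
    tr U x₁ x₂ h₁₂ (tr U x₀ x₁ h₀₁ v) = tr U x₀ x₂ (h₀₁.trans h₁₂) v := by
  obtain ⟨_, _, _⟩ := eqOn_props x₀ x₁ h₀₁
  obtain ⟨_, _, _⟩ := eqOn_props x₁ x₂ h₁₂
  let a := pullback.fst (eqOn x₀ x₁ h₀₁) (eqOn x₁ x₂ h₁₂)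
  let b := pullback.snd (eqOn x₀ x₁ h₀₁) (eqOn x₁ x₂ h₁₂)
  haveI : IsIntegralHom a := MorphismProperty.pullback_fst _ _ inferInstance
  haveI : UniversallyInjective a := MorphismProperty.pullback_fst (P := @UniversallyInjective) _ _ ‹_›
  haveI : Surjective a := MorphismProperty.pullback_fst (P := @Surjective) _ _ ‹_›
  haveI : UniversallyInjective (a ≫ eqOn x₀ x₁ h₀₁) := MorphismProperty.comp_mem _ _ _ ‹_› ‹_›
  refine lifts_ext U x₂ (a ≫ eqOn x₀ x₁ h₀₁) _ _ ?_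
  have c : a ≫ eqOn x₀ x₁ h₀₁ = b ≫ eqOn x₁ x₂ h₁₂ := pullback.condition
  have k01 : (a ≫ eqOn x₀ x₁ h₀₁) ≫ x₀ = (a ≫ eqOn x₀ x₁ h₀₁) ≫ x₁ := by
    rw [Category.assoc, eqOn_eq, Category.assoc]
  have k12 : (a ≫ eqOn x₀ x₁ h₀₁) ≫ x₁ = (a ≫ eqOn x₀ x₁ h₀₁) ≫ x₂ := by
    rw [c, Category.assoc, eqOn_eq, Category.assoc]
  rw [tr_spec U x₁ x₂ h₁₂ _ _ k12, tr_spec U x₀ x₁ h₀₁ v _ k01, tr_spec U x₀ x₂ _ v _ (k01.trans k12)]

variable (g)

/-- the canonical descent datum of an etale scheme along a radicial fpqc map -/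
def radDatum : Desc.SchDDFam (fun _ : PUnit.{u+1} => g) where
  obj _ := objU U
  φ T i j x₀ x₁ h :=
    { toFun := tr U x₀ x₁ h
      invFun := tr U x₁ x₀ h.symm
      left_inv := fun v => (tr_comp U x₀ x₁ x₀ h h.symm v).trans (tr_self U x₀ v)
      right_inv := fun v => (tr_comp U x₁ x₀ x₁ h.symm h v).trans (tr_self U x₁ v) }
  φ_natural T T' c i j x₀ x₁ h y₀ y₁ hy₀ hy₁ h' v v' hv' := by
    subst hy₀ hy₁
    obtain ⟨_, _, _⟩ := eqOn_props (c ≫ x₀) (c ≫ x₁) h'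
    refine congrArg Subtype.val (lifts_ext U (c ≫ x₁) (eqOn (c ≫ x₀) (c ≫ x₁) h') _
      ⟨c ≫ (tr U x₀ x₁ h v).1, by rw [Category.assoc]; exact congrArg (c ≫ ·) (tr U x₀ x₁ h v).2⟩ ?_)
    have e := eqOn_eq (c ≫ x₀) (c ≫ x₁) h'
    show _ ≫ (tr U (c ≫ x₀) (c ≫ x₁) h' v').1 = _
    rw [tr_spec U _ _ h' v' _ e, hv', ← Category.assoc, ← Category.assoc]
    exact (tr_spec U x₀ x₁ h v _ (by simpa only [Category.assoc] using e)).symm
  φ_self T i x v := tr_self (g := g) U x v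
  φ_comp T i j k x₀ x₁ x₂ h₀₁ h₁₂ v := tr_comp U x₀ x₁ x₂ h₀₁ h₁₂ v

/-- separated etale schemes descend -/
theorem essImage_of_separated [IsSeparated U.hom] : (EtCoh.bc g).essImage U := by
  haveI : Etale U.hom := U.prop
  have hf : Presieve.ofArrows (fun _ : PUnit.{u+1} => S') (fun _ => g) ∈ Scheme.fpqcPrecoverage S := by
    rw [Presieve.ofArrows_pUnit]; exact g.singleton_mem_fpqcPrecoverage
  obtain ⟨V, ⟨θ⟩⟩ := Groth.Agent.S7482.result _ hf (radDatum g U) fun _ => by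
    haveI : LocallyQuasiFinite U.hom := AlgSpLib.locallyQuasiFinite_of_formallyUnramified _
    exact MorLib.IQA.indQA_of_locallyQuasiFinite U.hom
  let c : pullback g V.hom ≅ U.left :=
    { hom := (θ.hom.hom PUnit.unit).left
      inv := (θ.inv.hom PUnit.unit).left
      hom_inv_id := congrArg (fun k => (k.hom PUnit.unit).left) θ.hom_inv_id
      inv_hom_id := congrArg (fun k => (k.hom PUnit.unit).left) θ.inv_hom_id }
  have hc : c.hom ≫ U.hom = pullback.fst g V.hom := CategoryTheory.Over.w (θ.hom.hom PUnit.unit)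
  have hV : Etale V.hom := by
    refine MorphismProperty.of_isPullback_of_descendsAlong (P := @Etale)
      (Q := (@Surjective ⊓ @Flat ⊓ @QuasiCompact : MorphismProperty Scheme.{u}))
      (IsPullback.of_hasPullback g V.hom) ⟨⟨inferInstance, inferInstance⟩, inferInstance⟩ ?_
    rw [← hc]
    haveI : IsIso c.hom := ⟨c.inv, c.hom_inv_id, c.inv_hom_id⟩
    exact (MorphismProperty.cancel_left_of_respectsIso (P := @Etale) c.hom U.hom).mpr ‹Etale U.hom›
  refine ⟨MorphismProperty.Over.mk ⊤ V.hom hV,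
    ⟨MorphismProperty.Over.isoMk ((pullbackSymmetry V.hom g) ≪≫ c) ?_⟩⟩
  show ((pullbackSymmetry V.hom g).hom ≫ c.hom) ≫ U.hom = pullback.snd V.hom g
  rw [Category.assoc, hc, pullbackSymmetry_hom_comp_fst]

theorem bc_isEquivalence : (EtCoh.bc g).IsEquivalence := by
  have := bc_full g
  have := bc_faithful g
  have : (EtCoh.bc g).EssSurj := ⟨fun U => essImage_of_local g U fun x => by
    haveI : Etale U.hom := U.prop
    obtain ⟨O, hxO, n, -, hs⟩ := UH.exists_bd_nhd U x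
    haveI : IsSeparated (Scheme.Etale.mk (O.ι ≫ U.hom) : S'.Etale).hom := hs
    obtain ⟨V, ⟨e⟩⟩ := essImage_of_separated g (Scheme.Etale.mk (O.ι ≫ U.hom) : S'.Etale)
    haveI : IsIso e.hom.left := ⟨e.inv.left, congrArg (fun k => k.left) e.hom_inv_id,
      congrArg (fun k => k.left) e.inv_hom_id⟩
    let m : (Scheme.Etale.mk (O.ι ≫ U.hom) : S'.Etale) ⟶ U := MorphismProperty.Over.homMk O.ι rfl
    refine ⟨V, e.hom ≫ m, inferInstanceAs (IsOpenImmersion (e.hom.left ≫ O.ι)), ?_⟩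
    obtain ⟨p, hp⟩ := e.hom.left.homeomorph.surjective (⟨x, hxO⟩ : O.toScheme)
    exact ⟨p, (Scheme.Hom.comp_apply e.hom.left O.ι p).trans (congrArg O.ι.base hp)⟩⟩
  exact {}

end Groth.Agent.EtFound.Rad
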