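import Mathlib
import Groth.Agent.EtFound.ZeroDimSection

/-!
# Reductions of quasi-finite algebras over absolutely flat rings with algebraically closed residue fields
-/

universe u

open scoped Function

namespace Groth.Agent.EtFound.SplitZeroDim

section

variable {T C : Type u} [CommRing T] [CommRing C] [Algebra T C]

variable (hmax : ∀ p : Ideal T, p.IsPrime → p.IsMaximal)

include hmax

theorem mul_eq_zero_of_forall [IsReduced T] {s a : T}
    (h : ∀ p : Ideal T, p.IsPrime → s ∉ p → a ∈ p) : s * a = 0 := by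
  refine IsReduced.eq_zero _ (mem_nilradical.1 ((nilradical_eq_sInf T).symm ▸ Ideal.mem_sInf.2 fun {p} hp => ?_))
  by_cases hs : s ∈ p
  · exact Ideal.mul_mem_right a p hs
  · exact Ideal.mul_mem_left p s (h p hp hs)

theorem exists_smul_eq_zero [IsReduced T] (p : Ideal T) [p.IsPrime] {a : T} (ha : a ∈ p) :
    ∃ s ∉ p, s * a = 0 := by
  haveI : Ring.KrullDimLE 0 T := Ring.krullDimLE_zero_iff.2 hmax
  obtain ⟨n, t, h⟩ := Groth.Agent.EtFound.exists_pow_mul_eq_zero a
  refine ⟨1 - t * a, fun hc => Ideal.IsPrime.ne_top ‹_› ((Ideal.eq_top_iff_one p).2 ?_),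
    IsReduced.eq_zero _ ⟨n + 1, ?_⟩⟩
  · have := p.add_mem hc (p.mul_mem_left t ha)
    rwa [sub_add_cancel] at this
  · rw [mul_pow, pow_succ a n, pow_succ (1 - t * a) n]
    linear_combination ((1 - t * a) ^ n * a) * h

variable [IsReduced T] [IsReduced C]

theorem exists_kill (p : Ideal T) [p.IsPrime] {x : C}
    (hx : ∀ q : Ideal C, q.IsPrime → q.under T = p → x ∈ q) : ∃ s ∉ p, algebraMap T C s * x = 0 := by
  have h1 : x ∈ (p.map (algebraMap T C)).radical := by
    rw [Ideal.radical_eq_sInf]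
    refine Ideal.mem_sInf.2 fun {q} hq => hx q hq.2 ?_
    haveI := hq.2
    exact ((hmax p ‹_›).eq_of_le (Ideal.IsPrime.ne_top inferInstance)
      (Ideal.map_le_iff_le_comap.1 hq.1)).symm
  obtain ⟨m, hm⟩ := h1
  have h2 : ∃ s ∉ p, algebraMap T C s * x ^ m = 0 := by
    generalize x ^ m = y at hm
    rw [Ideal.map] at hm
    refine Submodule.span_induction ?_ ⟨1, fun h => Ideal.IsPrime.ne_top ‹_› ((Ideal.eq_top_iff_one p).2 h), mul_zero _⟩
      ?_ ?_ hm
    · rintro _ ⟨a, ha, rfl⟩
      obtain ⟨s, hs, h⟩ := exists_smul_eq_zero hmax p ha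
      exact ⟨s, hs, by rw [← map_mul, h, map_zero]⟩
    · rintro y z - - ⟨s, hs, hy⟩ ⟨t, ht, hz⟩
      refine ⟨s * t, fun h => (Ideal.IsPrime.mem_or_mem ‹_› h).elim hs ht, ?_⟩
      rw [map_mul, mul_add, mul_assoc (algebraMap T C s) _ z, hz, mul_zero, add_zero,
        mul_comm (algebraMap T C s), mul_assoc, hy, mul_zero]
    · rintro c y - ⟨s, hs, hy⟩
      exact ⟨s, hs, by rw [smul_eq_mul, mul_left_comm, hy, mul_zero]⟩
  obtain ⟨s, hs, h⟩ := h2
  refine ⟨s, hs, IsReduced.eq_zero _ ⟨m + 1, ?_⟩⟩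
  rw [mul_pow, pow_succ (algebraMap T C s) m, mul_assoc, pow_succ x m, ← mul_assoc (algebraMap T C s) (x ^ m), h,
    zero_mul, mul_zero]

end

variable {T B : Type u} [CommRing T] [CommRing B] [Algebra T B] [Algebra.FinitePresentation T B]
  [Algebra.QuasiFinite T B] [IsReduced T]

theorem exists_local_iso (hmax : ∀ p : Ideal T, p.IsPrime → p.IsMaximal)
    (hroot : ∀ f : Polynomial T, f.Monic → 0 < f.natDegree → ∃ r, f.eval r = 0)
    (p : Ideal T) [p.IsPrime] :
    ∃ s ∉ p, (Localization.awayMap (algebraMap T (B ⧸ nilradical B)) s).Finite ∧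
      (Localization.awayMap (algebraMap T (B ⧸ nilradical B)) s).Etale := by
  classical
  let C := B ⧸ nilradical B
  haveI : IsReduced C := (Ideal.isRadical_iff_quotient_reduced _).1 (Ideal.radical_isRadical 0)
  haveI : p.IsMaximal := hmax p ‹_›
  -- residue fields
  letI := Ideal.Quotient.field p
  haveI : IsAlgClosed (T ⧸ p) := IsAlgClosed.of_exists_root _ fun f hf hirr => by
    obtain ⟨g, hg, hdeg, hgm⟩ := Polynomial.lifts_and_natDegree_eq_and_monic
      ((Polynomial.mem_lifts f).2 (Polynomial.map_surjective _ Ideal.Quotient.mk_surjective f)) hf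
    obtain ⟨r, hr⟩ := hroot g hgm (by rw [hdeg]; exact hirr.natDegree_pos)
    exact ⟨Ideal.Quotient.mk p r, by rw [← hg, Polynomial.eval_map, Polynomial.eval₂_at_apply, hr, map_zero]⟩
  have hqmax : ∀ q : Ideal C, q.IsPrime → q.under T = p → q.IsMaximal := fun q hq h => by
    obtain ⟨m, hm, hqm⟩ := Ideal.exists_le_maximal q hq.ne_top
    haveI := hm.isPrime
    have h2 : m.under T = p := ((hmax p ‹_›).eq_of_le (Ideal.IsPrime.ne_top inferInstance)
      (h ▸ Ideal.comap_mono hqm)).symm
    rwa [Algebra.QuasiFinite.eq_of_le_of_under_eq (R := T) q m hqm (h.trans h2.symm)]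
  have hsurj : ∀ q : Ideal C, q.IsPrime → q.under T = p → ∀ x : C, ∃ c : T, x - algebraMap T C c ∈ q := by
    intro q hq h x
    haveI := hqmax q hq h
    letI := Ideal.Quotient.field q
    let φ : T ⧸ p →+* C ⧸ q := Ideal.quotientMap q (algebraMap T C) h.ge
    letI := φ.toAlgebra
    haveI : IsScalarTower T (T ⧸ p) (C ⧸ q) := IsScalarTower.of_algebraMap_eq fun a => rfl
    haveI : Algebra.FiniteType (T ⧸ p) (C ⧸ q) := Algebra.FiniteType.of_restrictScalars_finiteType T _ _
    haveI : Module.Finite (T ⧸ p) (C ⧸ q) := finite_of_finite_type_of_isJacobsonRing _ _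
    obtain ⟨c, hc⟩ := (IsAlgClosed.algebraMap_bijective_of_isIntegral (k := T ⧸ p)).2 (Ideal.Quotient.mk q x)
    obtain ⟨c, rfl⟩ := Ideal.Quotient.mk_surjective c
    exact ⟨c, (Ideal.Quotient.eq).1 hc.symm⟩
  -- idempotents
  let ι := {q : Ideal C // q ∈ p.primesOver C}
  haveI : Finite ι := (Algebra.QuasiFinite.finite_primesOver p).to_subtype
  haveI := Fintype.ofFinite ι
  have hι : ∀ j : ι, j.1.IsPrime ∧ j.1.under T = p := fun j => ⟨j.2.1, j.2.2.over.symm⟩
  have hmem : ∀ q : Ideal C, q.IsPrime → q.under T = p → q ∈ p.primesOver C := fun q hq h => ⟨hq, ⟨h.symm⟩⟩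
  have hco : Pairwise (IsCoprime on fun j : ι => j.1) := fun i j hij => by
    rw [Function.onFun, Ideal.isCoprime_iff_sup_eq]
    exact (hqmax _ (hι i).1 (hι i).2).coprime_of_ne (hqmax _ (hι j).1 (hι j).2) fun h => hij (Subtype.ext h)
  choose e he using fun j : ι => Ideal.exists_forall_sub_mem_ideal hco (Pi.single j (1 : C))
  have hlocal : ∀ x y : C, (∀ j : ι, x - y ∈ j.1) → ∃ s ∉ p, algebraMap T C s * (x - y) = 0 := fun x y h =>
    exists_kill hmax p fun q hq hq' => h ⟨q, hmem q hq hq'⟩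
  have hspan : ∀ x : C, ∃ c : ι → T, ∀ k : ι, x - ∑ j, algebraMap T C (c j) * e j ∈ k.1 := fun x => by
    choose c hc using fun j : ι => hsurj j.1 (hι j).1 (hι j).2 x
    refine ⟨c, fun k => (Ideal.Quotient.eq).1 ?_⟩
    rw [map_sum, Finset.sum_eq_single k]
    · rw [map_mul, (Ideal.Quotient.eq).2 (he k k), Pi.single_eq_same, map_one, mul_one]
      exact (Ideal.Quotient.eq).2 (hc k)
    · intro j _ hj
      rw [map_mul, (Ideal.Quotient.eq).2 (he j k), Pi.single_eq_of_ne hj.symm, map_zero, mul_zero]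
    · simp
  have hone : ∀ k : ι, (∑ j, e j) - 1 ∈ k.1 := fun k => (Ideal.Quotient.eq).1 (by
    rw [map_sum, Finset.sum_eq_single k]
    · rw [(Ideal.Quotient.eq).2 (he k k), Pi.single_eq_same]
    · intro j _ hj
      rw [(Ideal.Quotient.eq).2 (he j k), Pi.single_eq_of_ne hj.symm, map_zero]
    · simp)
  have hmul : ∀ i j k : ι, e i * e j - (if i = j then e i else 0) ∈ k.1 := fun i j k => (Ideal.Quotient.eq).1 (by
    rw [map_mul, (Ideal.Quotient.eq).2 (he i k), (Ideal.Quotient.eq).2 (he j k)]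
    by_cases hij : i = j
    · subst hij
      rw [if_pos rfl, (Ideal.Quotient.eq).2 (he i k)]
      by_cases hik : k = i
      · subst hik; simp
      · simp [Pi.single_eq_of_ne hik]
    · rw [if_neg hij, map_zero]
      by_cases hik : k = i
      · subst hik; simp [Pi.single_eq_of_ne hij]
      · simp [Pi.single_eq_of_ne hik])
  obtain ⟨G, hG⟩ := Algebra.FiniteType.out (R := T) (A := C)
  choose cg hcg using fun g : ↥G => hspan g.1
  choose sg hsg hsg0 using fun g : ↥G => hlocal _ _ (hcg g)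
  choose sm hsm hsm0 using fun ij : ι × ι => hlocal _ _ (hmul ij.1 ij.2)
  obtain ⟨s1, hs1, hs10⟩ := hlocal _ _ hone
  -- opens
  haveI : Algebra.HasGoingDown T B := ⟨fun {q} _ Q _ hlt => absurd ((hmax q ‹_›).eq_of_le
    (Ideal.IsPrime.ne_top inferInstance) hlt.le) hlt.ne⟩
  choose et het using fun j : ι => Ideal.Quotient.mk_surjective (I := nilradical B) (e j)
  have hU : ∀ j : ι, ∃ u ∉ p, ∀ p' : Ideal T, p'.IsPrime → u ∉ p' → ∃ q : Ideal C,
      q.IsPrime ∧ q.under T = p' ∧ e j ∉ q := fun j => by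
    have hopen := PrimeSpectrum.isOpenMap_comap_of_hasGoingDown_of_finitePresentation (R := T) (S := B)
      _ (PrimeSpectrum.basicOpen (et j)).2
    have hpmem : (⟨p, ‹_›⟩ : PrimeSpectrum T) ∈
        PrimeSpectrum.comap (algebraMap T B) '' (PrimeSpectrum.basicOpen (et j) : Set (PrimeSpectrum B)) := by
      haveI := (hι j).1
      refine ⟨⟨j.1.comap (Ideal.Quotient.mk _), inferInstance⟩, ?_, PrimeSpectrum.ext ?_⟩
      · intro h
        change et j ∈ j.1.comap (Ideal.Quotient.mk _) at h
        rw [Ideal.mem_comap, het] at h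
        have h1 := j.1.sub_mem h (he j j)
        rw [sub_sub_cancel, Pi.single_eq_same] at h1
        exact (hι j).1.ne_top ((Ideal.eq_top_iff_one _).2 h1)
      · exact (hι j).2
    obtain ⟨_, ⟨u, rfl⟩, hu, hsub⟩ := PrimeSpectrum.isTopologicalBasis_basic_opens.exists_subset_of_mem_open hpmem hopen
    refine ⟨u, hu, fun p' hp' hu' => ?_⟩
    obtain ⟨Q, hQ, hQp⟩ := hsub (show (⟨p', hp'⟩ : PrimeSpectrum T) ∈ PrimeSpectrum.basicOpen u from hu')
    have hker : RingHom.ker (Ideal.Quotient.mk (nilradical B)) ≤ Q.asIdeal := by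
      rw [Ideal.mk_ker]
      exact nilradical_le_prime _
    have hcm : (Q.asIdeal.map (Ideal.Quotient.mk (nilradical B))).comap (Ideal.Quotient.mk _) = Q.asIdeal := by
      rw [Ideal.comap_map_of_surjective _ Ideal.Quotient.mk_surjective]
      exact sup_eq_left.2 hker
    refine ⟨Q.asIdeal.map (Ideal.Quotient.mk _), Ideal.map_isPrime_of_surjective Ideal.Quotient.mk_surjective hker,
      ?_, fun h => hQ ?_⟩
    · rw [Ideal.under, IsScalarTower.algebraMap_eq T B C, ← Ideal.comap_comap, Ideal.Quotient.algebraMap_eq, hcm]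
      exact congrArg PrimeSpectrum.asIdeal hQp
    · show et j ∈ Q.asIdeal
      rw [← hcm, Ideal.mem_comap, het]
      exact h
  choose u hu hu' using hU
  obtain ⟨s, hsdef⟩ : ∃ s, s = (∏ g, sg g) * (∏ ij, sm ij) * s1 * ∏ j, u j := ⟨_, rfl⟩
  have hsp : s ∉ p := by
    intro h
    rw [hsdef] at h
    have hp := ‹p.IsPrime›
    rcases hp.mem_or_mem h with h | h
    · rcases hp.mem_or_mem h with h | h
      · rcases hp.mem_or_mem h with h | h
        · obtain ⟨i, -, hi⟩ := (Ideal.IsPrime.prod_mem_iff (hp := hp)).1 h; exact hsg i hi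
        · obtain ⟨i, -, hi⟩ := (Ideal.IsPrime.prod_mem_iff (hp := hp)).1 h; exact hsm i hi
      · exact hs1 h
    · obtain ⟨i, -, hi⟩ := (Ideal.IsPrime.prod_mem_iff (hp := hp)).1 h; exact hu i hi
  let Ts := Localization.Away s
  let Cs := Localization.Away (algebraMap T C s)
  let w : Ts →+* Cs := Localization.awayMap (algebraMap T C) s
  have hw : ∀ a : T, w (algebraMap T Ts a) = algebraMap C Cs (algebraMap T C a) := fun a =>
    IsLocalization.map_eq _ a
  have hkill : ∀ (t : T) (x : C), t ∣ s → algebraMap T C t * x = 0 → algebraMap C Cs x = 0 := fun t x ⟨r, hr⟩ h => by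
    refine (IsLocalization.map_eq_zero_iff (Submonoid.powers (algebraMap T C s)) Cs x).2
      ⟨⟨_, Submonoid.mem_powers _⟩, ?_⟩
    show algebraMap T C s * x = 0
    rw [hr, map_mul, mul_right_comm, h, zero_mul]
  let e' : ι → Cs := fun j => algebraMap C Cs (e j)
  have he1 : ∑ j, e' j = 1 := by
    have := hkill s1 _ ⟨(∏ g, sg g) * (∏ ij, sm ij) * ∏ j, u j, by rw [hsdef]; ring⟩ hs10
    rwa [map_sub, map_one, map_sum, sub_eq_zero] at this
  have he2 : ∀ i j, e' i * e' j = if i = j then e' i else 0 := fun i j => by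
    have := hkill (sm (i, j)) _ (hsdef ▸ dvd_mul_of_dvd_left (dvd_mul_of_dvd_left (dvd_mul_of_dvd_right
      (Finset.dvd_prod_of_mem sm (Finset.mem_univ (i, j))) _) _) _) (hsm0 (i, j))
    rw [map_sub, map_mul, sub_eq_zero] at this
    refine this.trans ?_
    by_cases hij : i = j <;> simp [hij, e']
  letI : Algebra Ts Cs := w.toAlgebra
  let ψ : (ι → Ts) →ₐ[Ts] Cs :=
    { toFun := fun c => ∑ j, w (c j) * e' j
      map_one' := by simp [he1]
      map_mul' := fun c d => by
        rw [Finset.sum_mul_sum]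
        refine Finset.sum_congr rfl fun i _ => ?_
        rw [Finset.sum_eq_single i]
        · rw [mul_mul_mul_comm, he2, if_pos rfl, Pi.mul_apply, map_mul]
        · intro j _ hj
          rw [mul_mul_mul_comm, he2, if_neg hj.symm, mul_zero]
        · simp
      map_zero' := by simp
      map_add' := fun c d => by simp [add_mul, Finset.sum_add_distrib]
      commutes' := fun a => by simp [← Finset.mul_sum, he1, RingHom.algebraMap_toAlgebra] }
  have hinj : Function.Injective ψ := by
    rw [injective_iff_map_eq_zero]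
    intro c hc
    funext k
    have h1 : w (c k) * e' k = 0 := by
      have := congrArg (· * e' k) hc
      replace this : ∑ j : ι, w (c j) * e' j * e' k = (0 : Cs) :=
        (Finset.sum_mul (Finset.univ : Finset ι) (fun j => w (c j) * e' j) (e' k)).symm.trans
          (this.trans (zero_mul _))
      rwa [Finset.sum_eq_single k (fun (j : ι) _ hj => show w (c j) * e' j * e' k = 0 by rw [mul_assoc, he2, if_neg hj, mul_zero]) (by simp),
        mul_assoc, he2, if_pos rfl] at this
    obtain ⟨m, a, hm⟩ := IsLocalization.Away.surj s (c k)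
    have h2 : algebraMap C Cs (algebraMap T C a * e k) = 0 := by
      rw [map_mul, ← hw, ← hm, map_mul, mul_right_comm, h1, zero_mul]
    obtain ⟨⟨_, l, rfl⟩, h3⟩ := (IsLocalization.map_eq_zero_iff (Submonoid.powers (algebraMap T C s)) Cs _).1 h2
    change algebraMap T C s ^ l * (algebraMap T C a * e k) = 0 at h3
    rw [← mul_assoc, ← map_pow, ← map_mul] at h3
    have h4 : s * (s ^ l * a) = 0 := mul_eq_zero_of_forall hmax fun p' hp' hsp' => by
      obtain ⟨q, hq, hqp, hek⟩ := hu' k p' hp' fun h => hsp' (Ideal.mem_of_dvd _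
        (hsdef ▸ dvd_mul_of_dvd_right (Finset.dvd_prod_of_mem u (Finset.mem_univ k)) _) h)
      rw [← hqp]
      exact (hq.mem_or_mem (h3 ▸ q.zero_mem)).resolve_right hek
    have hus : IsUnit (algebraMap T Ts s) := IsLocalization.Away.algebraMap_isUnit s
    have h5 : algebraMap T Ts a = 0 := by
      have := congrArg (algebraMap T Ts) h4
      rw [map_mul, map_mul, map_pow, map_zero, ← mul_assoc] at this
      exact (hus.mul (hus.pow l)).mul_right_eq_zero.1 this
    exact (hus.pow m).mul_left_eq_zero.1 (hm.trans h5)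
  have hsurjψ : Function.Surjective ψ := by
    let A := ψ.range
    have hA : ∀ x : C, algebraMap C Cs x ∈ A := by
      intro x
      have hx : x ∈ Algebra.adjoin T (G : Set C) := hG.symm ▸ Algebra.mem_top
      induction hx using Algebra.adjoin_induction with
      | mem g hg =>
        have := hkill (sg ⟨g, hg⟩) _ (hsdef ▸ dvd_mul_of_dvd_left (dvd_mul_of_dvd_left (dvd_mul_of_dvd_left
          (Finset.dvd_prod_of_mem sg (Finset.mem_univ _)) _) _) _) (hsg0 ⟨g, hg⟩)
        rw [map_sub, sub_eq_zero] at this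
        exact ⟨fun j => algebraMap T Ts (cg ⟨g, hg⟩ j), by simp [ψ, this, hw, e']⟩
      | algebraMap a => rw [← hw]; exact A.algebraMap_mem _
      | add x y _ _ hx hy => rw [map_add]; exact A.add_mem hx hy
      | mul x y _ _ hx hy => rw [map_mul]; exact A.mul_mem hx hy
    intro z
    obtain ⟨m, x, hm⟩ := IsLocalization.Away.surj (algebraMap T C s) z
    have hus : IsUnit (algebraMap T Ts s) := IsLocalization.Away.algebraMap_isUnit s
    obtain ⟨v, hv⟩ := (hus.pow m).exists_left_inv
    have h1 : w v * algebraMap C Cs (algebraMap T C s) ^ m = 1 := by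
      rw [← hw, ← map_pow, ← map_mul, hv, map_one]
    have : z = w v * algebraMap C Cs x := by
      rw [← hm, mul_left_comm, h1, mul_one]
    rw [this]
    exact A.mul_mem (A.algebraMap_mem v) (hA x)
  let E : (ι → Ts) ≃ₐ[Ts] Cs := AlgEquiv.ofBijective ψ ⟨hinj, hsurjψ⟩
  have : Module.Finite Ts Cs := Module.Finite.equiv E.toLinearEquiv
  have : Algebra.Etale Ts Cs := Algebra.Etale.of_equiv E
  exact ⟨s, hsp, RingHom.finite_algebraMap.2 ‹_›, RingHom.etale_algebraMap.2 ‹_›⟩

theorem finite_etale_quotient (hmax : ∀ p : Ideal T, p.IsPrime → p.IsMaximal)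
    (hroot : ∀ f : Polynomial T, f.Monic → 0 < f.natDegree → ∃ r, f.eval r = 0) :
    (algebraMap T (B ⧸ nilradical B)).Finite ∧ (algebraMap T (B ⧸ nilradical B)).Etale := by
  let S : Set T := {s | (Localization.awayMap (algebraMap T (B ⧸ nilradical B)) s).Finite ∧
      (Localization.awayMap (algebraMap T (B ⧸ nilradical B)) s).Etale}
  have hS : Ideal.span S = ⊤ := by
    by_contra h
    obtain ⟨p, hp, hle⟩ := Ideal.exists_le_maximal _ h
    haveI := hp.isPrime
    obtain ⟨s, hs, hfe⟩ := exists_local_iso (B := B) hmax hroot p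
    exact hs (hle (Ideal.subset_span hfe))
  exact ⟨RingHom.finite_ofLocalizationSpan _ S hS fun r => r.2.1,
    RingHom.Etale.ofLocalizationSpan _ S hS fun r => r.2.2⟩

end Groth.Agent.EtFound.SplitZeroDim
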