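import Groth.Agent.EtFound.TopInvGlue
import Groth.Agent.EtFound.IntegralSplit
import Groth.Agent.DescLib.SepSurj
import Mathlib

/-! topological invariance of the small etale site: etale-local models -/

set_option autoImplicit false

universe u

open CategoryTheory CategoryTheory.Limits AlgebraicGeometry TopologicalSpace

noncomputable section

set_option backward.isDefEq.respectTransparency false
set_option backward.isDefEq.respectTransparency.types false

namespace Groth.Agent.EtFound.UH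

/-- Base change along a composite. -/
def rcomp {X Y Z : Scheme.{u}} (f : X ⟶ Y) (g : Y ⟶ Z) (W : Z.Etale) :
    (EtCoh.bc (f ≫ g)).obj W ≅ (EtCoh.bc f).obj ((EtCoh.bc g).obj W) :=
  (MorphismProperty.Over.pullbackComp (P := @Etale) (Q := ⊤) f g).app W

/-- Base change along equal maps. -/
def rcongr {X Y : Scheme.{u}} {f g : X ⟶ Y} (h : f = g) (W : Y.Etale) :
    (EtCoh.bc f).obj W ≅ (EtCoh.bc g).obj W :=
  eqToIso (by rw [h])

variable {X Y : Scheme.{u}} (f : X ⟶ Y)

/-- An étale-local model over the base of an etale scheme over `X`. -/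
structure Model (V : X.Etale) (y : Y) where
  Y' : Scheme.{u}
  v : Y' ⟶ Y
  hv : Etale v
  z : Y'
  hz : v.base z = y
  X' : Scheme.{u}
  a : X' ⟶ X
  b : X' ⟶ Y'
  sq : IsPullback a b f v
  E : Y'.Etale
  hE : IsSeparated E.hom
  κ : (EtCoh.bc b).obj E ≅ (EtCoh.bc a).obj V

variable {f}

/-- Shrinking a model. -/
def Model.comp {V : X.Etale} {y : Y} (M : Model f V y) {Y'' : Scheme.{u}} (w : Y'' ⟶ M.Y') (hw : Etale w)
    (z : Y'') (hz : w.base z = M.z) : Model f V y where
  Y' := Y''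
  v := w ≫ M.v
  hv := haveI := M.hv; inferInstance
  z := z
  hz := by rw [Scheme.Hom.comp_apply, hz, M.hz]
  X' := pullback M.b w
  a := pullback.fst M.b w ≫ M.a
  b := pullback.snd M.b w
  sq := (IsPullback.of_hasPullback M.b w).paste_horiz M.sq
  E := (EtCoh.bc w).obj M.E
  hE := haveI := M.hE; inferInstanceAs (IsSeparated (pullback.snd M.E.hom w))
  κ := (rcomp _ _ M.E).symm ≪≫ rcongr pullback.condition.symm M.E ≪≫ rcomp _ _ M.E ≪≫
    (EtCoh.bc _).mapIso M.κ ≪≫ (rcomp _ _ V).symm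

/-- At most `n` geometric points in each geometric fibre. -/
def Bd {X : Scheme.{u}} (W : X.Etale) (n : ℕ) : Prop :=
  ∀ (Ω : Type u) [Field Ω] [IsAlgClosed Ω] (ξ : Spec (CommRingCat.of Ω) ⟶ X)
    (s : Fin (n + 1) → {t : Spec (CommRingCat.of Ω) ⟶ W.left // t ≫ W.hom = ξ}), ¬ Function.Injective s

theorem isEmpty_of_bd_zero {W : X.Etale} (h : Bd W 0) : IsEmpty W.left := by
  refine ⟨fun (w : W.left) => h (AlgebraicClosure (W.left.residueField w)) _ (fun _ =>
    ⟨Spec.map (CommRingCat.ofHom (algebraMap (W.left.residueField w) (AlgebraicClosure (W.left.residueField w)))) ≫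
      W.left.fromSpecResidueField w, rfl⟩) (fun a b _ => Subsingleton.elim (α := Fin 1) a b)⟩

/-- A scheme with separated base change is separated. -/
theorem isSeparated_of_bc [IsIntegralHom f] [Surjective f] (V : Y.Etale) (W : X.Etale)
    (e : (EtCoh.bc f).obj V ≅ W) [IsSeparated W.hom] : IsSeparated V.hom := by
  have h1 : IsSeparated (pullback.snd V.hom f) := by
    have he : e.hom.left ≫ W.hom = pullback.snd V.hom f := MorphismProperty.Over.w e.hom
    haveI : IsIso e.hom.left := ⟨e.inv.left, congrArg (fun k => k.left) e.hom_inv_id,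
      congrArg (fun k => k.left) e.inv_hom_id⟩
    rw [← he]; infer_instance
  haveI : IsSeparated (pullback.fst V.hom f ≫ V.hom) := by rw [pullback.condition]; infer_instance
  haveI : IsIntegralHom (pullback.fst V.hom f) := MorphismProperty.pullback_fst _ _ inferInstance
  haveI : Surjective (pullback.fst V.hom f) := MorphismProperty.pullback_fst (P := @Surjective) _ _ ‹_›
  exact DescLib.isSeparated_of_comp_surjective (pullback.fst V.hom f) V.hom

variable (f) [IsIntegralHom f] [UniversallyInjective f] [Surjective f]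

/-- the local model at a point, from the lifts with fewer points in the fibres -/
theorem exists_model (n : ℕ)
    (ih : ∀ {X₁ Y₁ : Scheme.{u}} (g : X₁ ⟶ Y₁) [IsIntegralHom g] [UniversallyInjective g] [Surjective g]
      (R : X₁.Etale) [IsSeparated R.hom], Bd R n → (EtCoh.bc g).essImage R)
    (W : X.Etale) [IsSeparated W.hom] [Surjective W.hom] (hW : Bd W (n + 1)) (y : Y) :
    Nonempty (Model f W y) := by
  haveI : Etale W.hom := W.prop
  obtain ⟨x, rfl⟩ := f.surjective y
  obtain ⟨w, hw⟩ := W.hom.surjective x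
  obtain ⟨Y₀, v₀, hv₀, z₀, hz₀, h₀, hh₀, -⟩ := EtFound.exists_split f W.hom (f.base x)
    (fun x' hx' => ⟨w, hw.trans (f.injective hx').symm⟩) w (congrArg f.base hw)
  haveI := hv₀
  let X₁ := pullback f v₀
  let a₀ : X₁ ⟶ X := pullback.fst f v₀
  let b₀ : X₁ ⟶ Y₀ := pullback.snd f v₀
  haveI : IsIntegralHom b₀ := MorphismProperty.pullback_snd _ _ inferInstance
  haveI : UniversallyInjective b₀ := MorphismProperty.pullback_snd (P := @UniversallyInjective) _ _ ‹_›
  haveI : Surjective b₀ := MorphismProperty.pullback_snd (P := @Surjective) _ _ ‹_›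
  let W₁ := (EtCoh.bc a₀).obj W
  haveI hW₁s : IsSeparated W₁.hom := inferInstanceAs (IsSeparated (pullback.snd W.hom a₀))
  haveI : Etale W₁.hom := W₁.prop
  let σ : X₁ ⟶ W₁.left := pullback.lift h₀ (𝟙 X₁) (hh₀.trans (Category.id_comp _).symm)
  have hσ : σ ≫ W₁.hom = 𝟙 X₁ := pullback.lift_snd _ _ _
  haveI : Mono σ := SplitMono.mono ⟨W₁.hom, hσ⟩
  haveI : IsClosedImmersion σ := by
    haveI : IsClosedImmersion (σ ≫ W₁.hom) := by rw [hσ]; infer_instance
    exact IsClosedImmersion.of_comp σ W₁.hom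
  haveI : Etale σ := MorphismProperty.of_postcomp (W := @Etale) (W' := @Etale) σ W₁.hom inferInstance
    (hσ.symm ▸ inferInstanceAs (Etale (𝟙 X₁)))
  haveI : IsOpenImmersion σ := IsOpenImmersion.of_flat_of_mono _
  let O : W₁.left.Opens := ⟨(Set.range σ.base)ᶜ, σ.isClosedEmbedding.isClosed_range.isOpen_compl⟩
  let R : X₁.Etale := Scheme.Etale.mk (O.ι ≫ W₁.hom)
  haveI : IsSeparated R.hom := inferInstanceAs (IsSeparated (O.ι ≫ W₁.hom))
  have hR : Bd R n := by
    intro Ω _ _ ξ s hs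
    let q : Fin (n + 1) → (Spec (CommRingCat.of Ω) ⟶ W₁.left) := fun i => (s i).1 ≫ O.ι
    have hq : ∀ i, q i ≫ W₁.hom = ξ := fun i => (Category.assoc _ _ _).trans (s i).2
    have hne : ∀ i, ξ ≫ σ ≠ q i := fun i e => by
      have h1 := congrArg (fun k => k.base (IsLocalRing.closedPoint Ω)) e
      simp only [Scheme.Hom.comp_apply, q] at h1
      exact ((s i).1.base (IsLocalRing.closedPoint Ω)).2 ⟨_, h1⟩
    have hfst : ∀ p p' : Spec (CommRingCat.of Ω) ⟶ W₁.left, p ≫ W₁.hom = ξ → p' ≫ W₁.hom = ξ →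
        p ≫ pullback.fst W.hom a₀ = p' ≫ pullback.fst W.hom a₀ → p = p' := fun p p' hp hp' e =>
      pullback.hom_ext e (hp.trans hp'.symm)
    have hmk : ∀ p : Spec (CommRingCat.of Ω) ⟶ W₁.left, p ≫ W₁.hom = ξ →
        (p ≫ pullback.fst W.hom a₀) ≫ W.hom = ξ ≫ a₀ := fun p hp =>
      (Category.assoc _ _ _).trans ((congrArg (p ≫ ·) pullback.condition).trans
        ((Category.assoc _ _ _).symm.trans (congrArg (· ≫ a₀) hp)))
    have hσξ : (ξ ≫ σ) ≫ W₁.hom = ξ := by rw [Category.assoc, hσ, Category.comp_id]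
    let c : Fin (n + 1 + 1) → (Spec (CommRingCat.of Ω) ⟶ W₁.left) := Fin.cons (ξ ≫ σ) q
    have hc : ∀ j, c j ≫ W₁.hom = ξ := Fin.cases hσξ hq
    refine hW Ω (ξ ≫ a₀) (fun j => ⟨c j ≫ pullback.fst W.hom a₀, hmk _ (hc j)⟩) ?_
    have hci : Function.Injective c := Fin.cons_injective_iff.mpr
      ⟨fun ⟨i, e⟩ => hne i e.symm, fun i i' e => hs (Subtype.ext ((cancel_mono O.ι).mp e))⟩
    intro j j' e
    exact hci (hfst _ _ (hc j) (hc j') (congrArg Subtype.val e))
  obtain ⟨VR, ⟨eR⟩⟩ := ih b₀ R hR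
  obtain ⟨E, ⟨eE⟩⟩ := essImage_of_local b₀ W₁ fun t => by
    by_cases ht : t ∈ Set.range σ.base
    · let T : Y₀.Etale := Scheme.Etale.mk (𝟙 Y₀)
      let r : ((EtCoh.bc b₀).obj T).left ⟶ X₁ := pullback.snd (𝟙 Y₀) b₀
      refine ⟨T, MorphismProperty.Over.homMk (r ≫ σ) ?_, ?_, ?_⟩
      · rw [Category.assoc, hσ, Category.comp_id]; rfl
      · haveI : IsIso r := inferInstanceAs (IsIso (pullback.snd (𝟙 Y₀) b₀))
        exact inferInstanceAs (IsOpenImmersion (r ≫ σ))
      · obtain ⟨a, rfl⟩ := ht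
        haveI : IsIso r := inferInstanceAs (IsIso (pullback.snd (𝟙 Y₀) b₀))
        obtain ⟨p, hp⟩ := r.homeomorph.surjective a
        exact ⟨p, (Scheme.Hom.comp_apply r σ p).trans (congrArg σ.base hp)⟩
    · haveI : IsIso eR.hom.left := ⟨eR.inv.left, congrArg (fun k => k.left) eR.hom_inv_id,
        congrArg (fun k => k.left) eR.inv_hom_id⟩
      refine ⟨VR, eR.hom ≫ (MorphismProperty.Over.homMk O.ι rfl : R ⟶ W₁), ?_, ?_⟩
      · exact inferInstanceAs (IsOpenImmersion (eR.hom.left ≫ O.ι))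
      · obtain ⟨p, hp⟩ := eR.hom.left.homeomorph.surjective (⟨t, ht⟩ : O.toScheme)
        exact ⟨p, (Scheme.Hom.comp_apply eR.hom.left O.ι p).trans (congrArg O.ι.base hp)⟩
  exact ⟨{
    Y' := Y₀, v := v₀, hv := hv₀, z := z₀, hz := hz₀
    X' := X₁, a := a₀, b := b₀
    sq := IsPullback.of_hasPullback f v₀
    E := E
    hE := isSeparated_of_bc E W₁ eE
    κ := eE }⟩

end Groth.Agent.EtFound.UH
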