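import Groth.Agent.EtFound.OrbitCocycle
import Groth.Agent.EtFound.GermSupp
import Groth.Agent.EtFound.ConstVal
import Groth.Agent.EtFound.CoprodSections
import Groth.Agent.SiteBase.AbSecExact
import Groth.Agent.EtLC12.QcqsAcyclic
import Groth.Agent.S0537
import Groth.Agent.S2135
import Groth.Agent.S2787

/-!
# First cohomology of torsion free constant sheaves on geometrically unibranch irreducible schemes
-/

set_option autoImplicit false

universe u

open CategoryTheory CategoryTheory.Limits AlgebraicGeometry Opposite Abelian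
open Groth.Agent.MorLib.GF

namespace Groth.Agent.EtFound.UnibH1

set_option backward.isDefEq.respectTransparency false
set_option backward.isDefEq.respectTransparency.types false

theorem hasUniqueMinimalPrime_of_irreducibleSpace (R : Type u) [CommRing R] [IrreducibleSpace (PrimeSpectrum R)] :
    CAlgX.HasUniqueMinimalPrime R := by
  have h1 : (nilradical R).IsPrime := by
    have h := (IrreducibleSpace.isIrreducible_univ (X := PrimeSpectrum R))
    rw [← PrimeSpectrum.zeroLocus_bot, PrimeSpectrum.isIrreducible_zeroLocus_iff] at h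
    exact h
  refine ⟨nilradical R, ⟨⟨h1, bot_le⟩, fun P hP _ => @nilradical_le_prime _ _ P hP.1⟩, fun P hP => ?_⟩
  exact le_antisymm (hP.2 ⟨h1, bot_le⟩ (@nilradical_le_prime _ _ P hP.1.1)) (@nilradical_le_prime _ _ P hP.1.1)

theorem isGeomUnibranch_stalk {X : Scheme.{u}}
    (hX : ∀ (x : X) (R : Type u) [CommRing R] [IsLocalRing R] [Algebra (X.presheaf.stalk x) R]
      [IsLocalHom (algebraMap (X.presheaf.stalk x) R)] [Hensel.IsStrictHenselization (X.presheaf.stalk x) R],
      IrreducibleSpace (PrimeSpectrum R)) (x : X) : CAlg2.IsGeomUnibranch (X.presheaf.stalk x) := by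
  obtain ⟨S, _, _, _, _, _⟩ := Groth.Agent.S0537.result (X.presheaf.stalk x)
  haveI := hX x S
  exact (Groth.Agent.S2135.result (A := X.presheaf.stalk x) (Ash := S)).2
    (hasUniqueMinimalPrime_of_irreducibleSpace S)

/-- every point has a unique generization over the generic point, locally constant in the point -/
theorem existsUnique_gen {A X : Scheme.{u}} (f : A ⟶ X) [Etale f] [IrreducibleSpace X]
    (hY : ∀ y : X, CAlg2.IsGeomUnibranch (X.presheaf.stalk y)) (x : A) :
    ∃ z : A, f z = genericPoint X ∧ z ⤳ x ∧ (∀ z', f z' = genericPoint X → z' ⤳ x → z' = z) ∧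
      ∃ N : Set A, IsOpen N ∧ x ∈ N ∧ ∀ x' ∈ N, ∀ z', f z' = genericPoint X → z' ⤳ x' → z' = z := by
  obtain ⟨h1, h2⟩ := Groth.Agent.S2787.result f hY
  obtain ⟨z, hzx, hz⟩ := Flat.generalizingMap f (genericPoint_specializes (f x))
  obtain ⟨Z, ⟨hZ, hxZ⟩, -⟩ := h1 x
  obtain ⟨hZo, z₀, ⟨hz₀, hz₀η⟩, huniq⟩ := h2 Z hZ
  have hmem : ∀ x' ∈ Z, ∀ z', f z' = genericPoint X → z' ⤳ x' → z' = z₀ := fun x' hx' z' hz' hsp => by
    obtain ⟨Z', ⟨hZ', hz'Z⟩, -⟩ := h1 z'
    have hx'Z' : x' ∈ Z' := hsp.mem_closed (isClosed_of_mem_irreducibleComponents Z' hZ') hz'Z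
    obtain rfl : Z' = Z := (h1 x').unique ⟨hZ', hx'Z'⟩ ⟨hZ, hx'⟩
    exact huniq z' ⟨hz'Z, hz'⟩
  have hzz : z = z₀ := hmem x hxZ z hz hzx
  subst hzz
  exact ⟨z, hz, hzx, hmem x hxZ, Z, hZo, hxZ, hmem⟩

section germs

open ConstVal

variable {X : Scheme.{u}} {T : X.Etale} (hT : IsTerminal T) {G : EtCoh.Ab X} {M : AddCommGrpCat.{u + 1}}
  {φ : M ⟶ G.obj.obj (op T)} (h : ConstBy G φ (U := T))

include h in
theorem germ_eq_val {V : X.Etale} (s : G.obj.obj (op V)) {Ω : Type u} [Field Ω] [IsAlgClosed Ω]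
    {ξ : Spec (CommRingCat.of Ω) ⟶ X} (z : (Scheme.pointSmallEtale ξ).fiber.obj V) :
    (Scheme.pointSmallEtale ξ).toPresheafFiber V z G.obj s =
      (Scheme.pointSmallEtale ξ).toPresheafFiber V z G.obj (φV hT φ V (val hT h s (ptOf z))) := by
  obtain ⟨m, W, g, w, hw, hm⟩ := exists_value hT h s (ptOf z)
  have hv : val hT h s (ptOf z) = m := hw ▸ val_eq hT h g w hm
  obtain ⟨l, hl, -⟩ := Scheme.exists_fac_of_etale_of_isSepClosed g.left
    (z.left : Spec (CommRingCat.of Ω) ⟶ V.left) w hw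
  let z' : (Scheme.pointSmallEtale ξ).fiber.obj W := CategoryTheory.Over.homMk l (by
    show l ≫ W.hom = ξ
    rw [← MorphismProperty.Over.w g, ← Category.assoc, hl]
    exact CategoryTheory.Over.w z)
  have hz : (Scheme.pointSmallEtale ξ).fiber.map g z' = z := CategoryTheory.Over.OverMorphism.ext hl
  rw [hv, ← hz, ← (Scheme.pointSmallEtale ξ).toPresheafFiber_w_apply, ← (Scheme.pointSmallEtale ξ).toPresheafFiber_w_apply,
    hm, map_φV]

include h in
theorem val_sub {V : X.Etale} (s t : G.obj.obj (op V)) (x : V.left) :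
    val hT h (s - t) x = val hT h s x - val hT h t x := by
  obtain ⟨Ω, _, _, ξ, z, rfl⟩ := exists_algClosed_point V x
  refine (germ_φV_bijective hT h ξ z).1 ?_
  show (Scheme.pointSmallEtale ξ).toPresheafFiber V z G.obj (φV hT φ V _) =
    (Scheme.pointSmallEtale ξ).toPresheafFiber V z G.obj (φV hT φ V _)
  refine (germ_eq_val hT h (s - t) z).symm.trans ?_
  rw [map_sub, germ_eq_val hT h s z, germ_eq_val hT h t z, ← map_sub]
  simp only [φV, map_sub, ptOf]

include h in
theorem exists_val {V : X.Etale} (f : LocallyConstant V.left M) : ∃ s : G.obj.obj (op V), ∀ x, val hT h s x = f x := by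
  haveI : Etale V.hom := V.prop
  let O : M → V.left.Opens := fun m => ⟨f ⁻¹' {m}, f.isLocallyConstant.isOpen_fiber m⟩
  let Z : M → X.Etale := fun m => Scheme.Etale.mk ((O m).ι ≫ V.hom)
  let g : ∀ m, Z m ⟶ V := fun m => MorphismProperty.Over.homMk (O m).ι rfl trivial
  haveI : ∀ m, Mono (g m) := fun m =>
    (Scheme.Etale.forget X ⋙ CategoryTheory.Over.forget X).mono_of_mono_map (inferInstanceAs (Mono (O m).ι))
  obtain ⟨s, hs⟩ := (bijective_sections_of_disjoint G Z g (fun x => ⟨f x, (⟨x, rfl⟩ : (O (f x)).toScheme), rfl⟩)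
    (fun i j hij a b hab => hij (((a : (O i).toScheme).2).symm.trans
      ((congrArg f hab).trans (b : (O j).toScheme).2)))).2 fun m => φV hT φ (Z m) m
  refine ⟨s, fun x => ?_⟩
  exact val_eq hT h (g (f x)) (⟨x, rfl⟩ : (O (f x)).toScheme) (congrFun hs (f x))

end germs

set_option maxHeartbeats 1000000 in
theorem subsingleton_H1 {X : Scheme.{u}} [IrreducibleSpace X]
    (hY : ∀ y : X, CAlg2.IsGeomUnibranch (X.presheaf.stalk y))
    (M : Type) [AddCommGroup M] [IsAddTorsionFree M] : Subsingleton (EtCoh.H X (EtCoh.const X M) 1) := by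
  classical
  let hT := EtCore.topIsTerminal X
  let MM : AddCommGrpCat.{u + 1} := AddCommGrpCat.of (ULift.{u + 1} M)
  haveI : IsAddTorsionFree MM :=
    Function.Injective.isAddTorsionFree (AddEquiv.ulift : ULift.{u + 1} M ≃+ M).toAddMonoidHom
      (AddEquiv.ulift : ULift.{u + 1} M ≃+ M).injective
  have hc := ConstVal.constBy_const X MM (EtCoh.top X)
  let S : ShortComplex (EtCoh.Ab X) :=
    ShortComplex.mk (Injective.ι (EtCoh.const X M)) (cokernel.π _) (cokernel.condition _)
  have hS : S.ShortExact := { exact := ShortComplex.exact_cokernel _ }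
  haveI := hS.mono_f
  haveI := hS.epi_g
  haveI : Injective S.X₂ := inferInstanceAs (Injective (Injective.under _))
  refine subsingleton_of_forall_eq 0 fun c => ?_
  obtain ⟨z, rfl⟩ := Ext.covariant_sequence_exact₁ _ hS c (Ext.eq_zero_of_injective _) (rfl : 0 + 1 = 1)
  obtain ⟨ψ, rfl⟩ := (Ext.mk₀_bijective _ _).2 z
  let adj := constantSheafAdj X.smallEtaleTopology AddCommGrpCat.{u + 1} hT
  let q : S.X₃.obj.obj (op (EtCoh.top X)) := adj.homEquiv _ _ ψ ⟨1⟩
  suffices hlift : ∃ a, (S.g.hom.app (op (EtCoh.top X))).hom a = q by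
    obtain ⟨a, ha⟩ := hlift
    have hψ : (adj.homEquiv _ S.X₂).symm ((AddCommGrpCat.uliftZMultiplesAddEquiv _).symm a) ≫ S.g = ψ := by
      apply (adj.homEquiv _ _).injective
      rw [Adjunction.homEquiv_naturality_right, Equiv.apply_symm_apply]
      apply (AddCommGrpCat.uliftZMultiplesAddEquiv _).injective
      refine Eq.trans ?_ ha
      exact congrArg (S.g.hom.app (op (EtCoh.top X))) ((AddCommGrpCat.uliftZMultiplesAddEquiv _).apply_symm_apply a)
    rw [← hψ, ← Ext.mk₀_comp_mk₀, Ext.comp_assoc_of_second_deg_zero, hS.comp_extClass, Ext.comp_zero]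
  clear_value q
  clear! ψ
  -- local lifts
  haveI : Sheaf.IsLocallySurjective S.g :=
    (Sheaf.isLocallySurjective_iff_epi' AddCommGrpCat.{u + 1} _).2 inferInstance
  have hloc : ∀ x : X, ∃ (A : X.Etale) (a : A.left) (s : S.X₂.obj.obj (op A)),
      A.hom a = x ∧ (S.g.hom.app (op A)).hom s = (S.X₃.obj.map (hT.from A).op).hom q := fun x => by
    obtain ⟨A, g, a, ⟨s, hs⟩, ha⟩ := (mem_topology_iff _).1 (Presheaf.imageSieve_mem X.smallEtaleTopology
      S.g.hom (U := op (EtCoh.top X)) q) x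
    refine ⟨A, a, s, ?_, hs.trans (by rw [hT.hom_ext g (hT.from A)])⟩
    rw [← MorphismProperty.Over.w g]
    exact (Scheme.Hom.comp_apply _ _ _).trans ha
  choose A pa s hpa hs using hloc
  haveI : ∀ x, Etale (A x).hom := fun x => (A x).prop
  let W : X → X → X.Etale := fun x y => Scheme.Etale.mk (pullback.fst (A x).hom (A y).hom ≫ (A x).hom)
  let p₁ : ∀ x y, W x y ⟶ A x := fun x y => MorphismProperty.Over.homMk (pullback.fst _ _) rfl trivial
  let p₂ : ∀ x y, W x y ⟶ A y := fun x y =>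
    MorphismProperty.Over.homMk (pullback.snd _ _) pullback.condition.symm trivial
  haveI : ∀ x y, Etale (W x y).hom := fun x y => (W x y).prop
  have hgg : ∀ x y, ∃ gg : S.X₁.obj.obj (op (W x y)), (S.f.hom.app (op (W x y))).hom gg =
      (S.X₂.obj.map (p₁ x y).op).hom (s x) - (S.X₂.obj.map (p₂ x y).op).hom (s y) := fun x y => by
    refine (SiteBase.secExact_iff S (W x y)).1 (hS.exact.map_of_mono_of_preservesKernel
      (sheafToPresheaf X.smallEtaleTopology AddCommGrpCat.{u + 1} ⋙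
        (evaluation X.Etaleᵒᵖ AddCommGrpCat.{u + 1}).obj (op (W x y))) inferInstance inferInstance) _ ?_
    rw [map_sub, NatTrans.naturality_apply, NatTrans.naturality_apply, hs, hs, ← ConcreteCategory.comp_apply,
      ← ConcreteCategory.comp_apply, ← Functor.map_comp, ← Functor.map_comp, ← op_comp, ← op_comp,
      hT.hom_ext (p₁ x y ≫ hT.from (A x)) (p₂ x y ≫ hT.from (A y)), sub_self]
  choose gg hgg using hgg
  -- the geometric generic point
  let K : Type u := X.residueField (genericPoint X)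
  let Ω : Type u := AlgebraicClosure K
  let η₀ : X.residueField (genericPoint X) ⟶ CommRingCat.of Ω := CommRingCat.ofHom (algebraMap K (AlgebraicClosure K))
  have hη₀ : η₀.hom.IsIntegral := (Algebra.IsIntegral.isIntegral (R := K) (A := AlgebraicClosure K) ·)
  let ηb : Spec (CommRingCat.of Ω) ⟶ X := Spec.map η₀ ≫ X.fromSpecResidueField (genericPoint X)
  have hηb : pt ηb = genericPoint X := (Scheme.Hom.comp_apply _ _ _).trans (Scheme.fromSpecResidueField_apply _ _)
  let P := Scheme.pointSmallEtale ηb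
  haveI : ∀ x, LocallyQuasiFinite (A x).hom := fun x => UnibEtale.locallyQuasiFinite_of_formallyUnramified _
  let fib : ∀ x (ξ : Spec (CommRingCat.of Ω) ⟶ (A x).left), ξ ≫ (A x).hom = ηb → P.fiber.obj (A x) :=
    fun x ξ h => CategoryTheory.Over.homMk ξ h
  let σ : ∀ x (ξ : Spec (CommRingCat.of Ω) ⟶ (A x).left), ξ ≫ (A x).hom = ηb → ToType (P.presheafFiber.obj S.X₂.obj) :=
    fun x ξ h => P.toPresheafFiber (A x) (fib x ξ h) S.X₂.obj (s x)
  let tt : P.fiber.obj (EtCoh.top X) := CategoryTheory.Over.homMk ηb (Category.comp_id _)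
  let jj : MM → ToType (P.presheafFiber.obj S.X₂.obj) := fun m =>
    P.toPresheafFiber (EtCoh.top X) tt S.X₂.obj
      ((S.f.hom.app (op (EtCoh.top X))).hom (ConstVal.φV hT ((toSheafify X.smallEtaleTopology ((Functor.const X.Etaleᵒᵖ).obj MM)).app (op (EtCoh.top X))) (EtCoh.top X) m))
  have hjj : Function.Injective jj := fun m n e => by
    refine (ConstVal.germ_φV_bijective hT hc ηb tt).1 ?_
    refine (mono_iff_stalks S.f).1 inferInstance Ω ηb ?_
    refine (P.toPresheafFiber_naturality_apply S.f.hom _ tt _).trans (e.trans ?_)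
    exact (P.toPresheafFiber_naturality_apply S.f.hom _ tt _).symm
  have hjadd : ∀ m n, jj (m + n) = jj m + jj n := fun m n => by simp [jj, ConstVal.φV]
  let G : ∀ x y (ξ : Spec (CommRingCat.of Ω) ⟶ (A x).left) (ζ : Spec (CommRingCat.of Ω) ⟶ (A y).left),
      ξ ≫ (A x).hom = ηb → ζ ≫ (A y).hom = ηb → MM := fun x y ξ ζ h h' =>
    ConstVal.val hT hc (gg x y) (pt (pullback.lift ξ ζ (h.trans h'.symm)))
  have hG : ∀ x y ξ ζ h h', σ x ξ h - σ y ζ h' = jj (G x y ξ ζ h h') := fun x y ξ ζ h h' => by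
    let l := pullback.lift ξ ζ (h.trans h'.symm)
    let w : P.fiber.obj (W x y) := CategoryTheory.Over.homMk l (by
      show l ≫ pullback.fst _ _ ≫ (A x).hom = ηb
      rw [pullback.lift_fst_assoc, h])
    have e1 : P.fiber.map (p₁ x y) w = fib x ξ h := CategoryTheory.Over.OverMorphism.ext (pullback.lift_fst _ _ _)
    have e2 : P.fiber.map (p₂ x y) w = fib y ζ h' := CategoryTheory.Over.OverMorphism.ext (pullback.lift_snd _ _ _)
    have e3 : P.fiber.map (hT.from (W x y)) w = tt := CategoryTheory.Over.OverMorphism.ext (by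
      have h3 : (hT.from (W x y)).left = (W x y).hom :=
        (Category.comp_id _).symm.trans (MorphismProperty.Over.w (hT.from (W x y)))
      show l ≫ (hT.from (W x y)).left = ηb
      rw [h3]
      exact CategoryTheory.Over.w w)
    show P.toPresheafFiber (A x) (fib x ξ h) S.X₂.obj (s x) - P.toPresheafFiber (A y) (fib y ζ h') S.X₂.obj (s y) =
      P.toPresheafFiber (EtCoh.top X) tt S.X₂.obj _
    rw [← e1, ← e2, ← P.toPresheafFiber_w_apply, ← P.toPresheafFiber_w_apply, ← map_sub, ← hgg]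
    have h4 : P.toPresheafFiber (W x y) w S.X₁.obj (gg x y) = P.toPresheafFiber (W x y) w S.X₁.obj
        (ConstVal.φV hT ((toSheafify X.smallEtaleTopology ((Functor.const X.Etaleᵒᵖ).obj MM)).app (op (EtCoh.top X))) (W x y) (G x y ξ ζ h h')) := by
      have h5 := germ_eq_val hT hc (gg x y) w
      have e : ptOf w = pt l := congrArg l (Subsingleton.elim (default : Spec (CommRingCat.of Ω)) _)
      rw [e] at h5
      exact h5
    rw [← P.toPresheafFiber_naturality_apply S.f.hom, h4, P.toPresheafFiber_naturality_apply S.f.hom, ← e3,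
      ← P.toPresheafFiber_w_apply, ← NatTrans.naturality_apply, ConstVal.map_φV]
  have hco : ∀ x y w ξ ζ θ h h' h'', G x y ξ ζ h h' + G y w ζ θ h' h'' = G x w ξ θ h h'' :=
    fun x y w ξ ζ θ h h' h'' => hjj (by rw [hjadd, ← hG x y ξ ζ h h', ← hG y w ζ θ h' h'', ← hG x w ξ θ h h'', sub_add_sub_cancel])
  -- invariance
  have hzero : ∀ x ξ ξ' h h', pt ξ = pt ξ' → G x x ξ ξ' h h' = 0 := fun x ξ ξ' h h' hp => by
    have hz : (A x).hom (pt ξ) = pt ηb := (pt_comp ξ (A x).hom).symm.trans (congrArg pt h)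
    haveI : Finite {δ : Spec (CommRingCat.of Ω) ⟶ (A x).left // δ ≫ (A x).hom = ηb ∧ pt δ = pt ξ} :=
      (lifts_at (A x).hom ηb (pt ξ) hz).1
    refine OrbitCocycle.eq_zero (P := {δ : Spec (CommRingCat.of Ω) ⟶ (A x).left // δ ≫ (A x).hom = ηb ∧ pt δ = pt ξ})
      (fun a b => G x x a.1 b.1 a.2.1 b.2.1) (fun a b c => hco x x x a.1 b.1 c.1 a.2.1 b.2.1 c.2.1) (fun a b => ?_)
      ⟨ξ, h, rfl⟩ ⟨ξ', h', hp.symm⟩
    obtain ⟨τ, hτ, hτa, hτη⟩ := OrbitCocycle.exists_galois (A x).hom η₀ hη₀ (pt ξ) (hz.trans hηb)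
      a.2.1 a.2.2 b.2.1 b.2.2
    have hpt : ∀ {V : Scheme.{u}} (m : Spec (CommRingCat.of Ω) ⟶ V), pt (τ ≫ m) = pt m := fun m =>
      (pt_comp τ m).trans (congrArg m (Subsingleton.elim _ _))
    refine ⟨fun d => ⟨τ ≫ d.1, by rw [Category.assoc, d.2.1]; exact hτη, (hpt d.1).trans d.2.2⟩,
      fun d e hde => Subtype.ext ((cancel_epi τ).1 (congrArg Subtype.val hde)), Subtype.ext hτa, fun d e => ?_⟩
    show ConstVal.val hT hc (gg x x) _ = ConstVal.val hT hc (gg x x) _
    congr 1
    refine Eq.trans ?_ (hpt (pullback.lift d.1 e.1 (d.2.1.trans e.2.1.symm)))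
    refine congrArg pt (pullback.hom_ext ?_ ?_)
    · exact (pullback.lift_fst _ _ _).trans ((Category.assoc _ _ _).trans (congrArg (τ ≫ ·) (pullback.lift_fst _ _ _))).symm
    · exact (pullback.lift_snd _ _ _).trans ((Category.assoc _ _ _).trans (congrArg (τ ≫ ·) (pullback.lift_snd _ _ _))).symm
  -- the trivializing functions
  let x₀ : X := genericPoint X
  obtain ⟨ξ₀, hξ₀, -⟩ := exists_lift (A x₀).hom ηb (pa x₀) ((hpa x₀).trans hηb.symm)
  have hgen := fun (V : X.Etale) => haveI : Etale V.hom := V.prop; existsUnique_gen (X := X) V.hom hY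
  choose zg hzg hzsp huniq hN using hgen
  have hlf : ∀ x (u : (A x).left), ∃ ξ : Spec (CommRingCat.of Ω) ⟶ (A x).left, ξ ≫ (A x).hom = ηb ∧ pt ξ = zg (A x) u :=
    fun x u => exists_lift (A x).hom ηb _ ((hzg (A x) u).trans hηb.symm)
  choose ξg hξg hξgp using hlf
  let T₀ : ∀ x, (A x).left → MM := fun x u => G x x₀ (ξg x u) ξ₀ (hξg x u) hξ₀
  have hT₀ : ∀ x u ξ h, pt ξ = zg (A x) u → G x x₀ ξ ξ₀ h hξ₀ = T₀ x u := fun x u ξ h hp => by
    rw [← hco x x x₀ ξ (ξg x u) ξ₀ h (hξg x u) hξ₀, hzero x ξ (ξg x u) h (hξg x u) (hp.trans (hξgp x u).symm), zero_add]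
  have hlc : ∀ x, IsLocallyConstant (T₀ x) := fun x => (IsLocallyConstant.iff_exists_open _).2 fun u => by
    obtain ⟨N, hNo, huN, hN'⟩ := hN (A x) u
    refine ⟨N, hNo, huN, fun u' hu' => ?_⟩
    exact (hT₀ x u (ξg x u') (hξg x u') ((hξgp x u').trans (hN' u' hu' _ (hzg _ _) (hzsp _ _)))).symm ▸ rfl
  choose τ hτ using fun x => exists_val hT hc (⟨T₀ x, hlc x⟩ : LocallyConstant (A x).left MM)
  have hkey : ∀ x y, gg x y = (S.X₁.obj.map (p₁ x y).op).hom (τ x) - (S.X₁.obj.map (p₂ x y).op).hom (τ y) :=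
    fun x y => ConstVal.val_injective hT hc fun v => by
      rw [val_sub hT hc, ConstVal.val_map, ConstVal.val_map, hτ, hτ]
      let w := zg (W x y) v
      have hw : (W x y).hom w = genericPoint X := hzg (W x y) v
      have hwv : w ⤳ v := hzsp (W x y) v
      haveI : LocallyQuasiFinite (W x y).hom := UnibEtale.locallyQuasiFinite_of_formallyUnramified _
      obtain ⟨δ, hδ, hδw⟩ := exists_lift (W x y).hom ηb w (hw.trans hηb.symm)
      have hx1 : zg (A x) ((p₁ x y).left v) = (p₁ x y).left w := (huniq (A x) _ _ (by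
        exact (Scheme.Hom.comp_apply _ _ _).symm.trans ((congrArg (fun m : (W x y).left ⟶ X => m w) (MorphismProperty.Over.w (p₁ x y))).trans hw))
        (hwv.map (p₁ x y).left.continuous)).symm
      have hy1 : zg (A y) ((p₂ x y).left v) = (p₂ x y).left w := (huniq (A y) _ _ (by
        exact (Scheme.Hom.comp_apply _ _ _).symm.trans ((congrArg (fun m : (W x y).left ⟶ X => m w) (MorphismProperty.Over.w (p₂ x y))).trans hw))
        (hwv.map (p₂ x y).left.continuous)).symm
      have hξ : (δ ≫ pullback.fst (A x).hom (A y).hom) ≫ (A x).hom = ηb := (Category.assoc _ _ _).trans hδ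
      have hζ : (δ ≫ pullback.snd (A x).hom (A y).hom) ≫ (A y).hom = ηb := by
        rw [Category.assoc, ← pullback.condition]; exact hδ
      show _ = T₀ x _ - T₀ y _
      rw [← hT₀ x _ _ hξ (by rw [pt_comp, hδw]; exact hx1.symm), ← hT₀ y _ _ hζ (by rw [pt_comp, hδw]; exact hy1.symm),
        ← hco x y x₀ _ _ ξ₀ hξ hζ hξ₀, add_sub_cancel_right]
      show _ = ConstVal.val hT hc (gg x y) (pt (pullback.lift _ _ _))
      rw [show pullback.lift _ _ (hξ.trans hζ.symm) = δ from pullback.hom_ext (by simp) (by simp)]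
      refine Eq.trans ?_ (congrArg (ConstVal.val hT hc (gg x y)) hδw).symm
      have hopen := (ConstVal.val hT hc (gg x y)).isLocallyConstant.isOpen_fiber (ConstVal.val hT hc (gg x y) v)
      exact (hwv.mem_open hopen rfl).symm
  -- glue
  let s' : ∀ x, S.X₂.obj.obj (op (A x)) := fun x => s x - (S.f.hom.app (op (A x))).hom (τ x)
  have hW : ∀ x y, (S.X₂.obj.map (p₁ x y).op).hom (s' x) = (S.X₂.obj.map (p₂ x y).op).hom (s' y) := fun x y => by
    have := hgg x y
    rw [hkey, map_sub, NatTrans.naturality_apply, NatTrans.naturality_apply] at this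
    rw [map_sub, map_sub, sub_eq_sub_iff_sub_eq_sub]
    exact this.symm
  have hcov : ∀ x : (EtCoh.top X).left, ∃ (i : X) (a : (A i).left), (hT.from (A i)).left.base a = x := fun x => by
    refine ⟨x, pa x, ?_⟩
    have h3 : (hT.from (A x)).left = (A x).hom :=
      (Category.comp_id _).symm.trans (MorphismProperty.Over.w (hT.from (A x)))
    rw [h3]
    exact hpa x
  have hcomp : Presieve.Arrows.Compatible (S.X₂.obj ⋙ forget AddCommGrpCat.{u + 1}) (fun x => hT.from (A x)) s' := by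
    intro x y V a b _
    let cV : V ⟶ W x y := MorphismProperty.Over.homMk
      (pullback.lift a.left b.left ((MorphismProperty.Over.w a).trans (MorphismProperty.Over.w b).symm))
      (by
        show _ ≫ pullback.fst _ _ ≫ (A x).hom = V.hom
        rw [pullback.lift_fst_assoc]; exact MorphismProperty.Over.w a) trivial
    have ha : cV ≫ p₁ x y = a := MorphismProperty.Over.Hom.ext (pullback.lift_fst _ _ _)
    have hb : cV ≫ p₂ x y = b := MorphismProperty.Over.Hom.ext (pullback.lift_snd _ _ _)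
    show (S.X₂.obj.map a.op).hom (s' x) = (S.X₂.obj.map b.op).hom (s' y)
    rw [← ha, ← hb, op_comp, op_comp, Functor.map_comp, Functor.map_comp]
    exact congrArg (S.X₂.obj.map cV.op).hom (hW x y)
  obtain ⟨a, ha, -⟩ := (Presieve.isSheafFor_arrows_iff _ _).1
    (isSheafFor_of_covers S.X₂ A (fun x => hT.from (A x)) hcov) s' hcomp
  refine ⟨a, (isSheafFor_of_covers S.X₃ A (fun x => hT.from (A x)) hcov).isSeparatedFor.ext fun V v hv => ?_⟩
  obtain ⟨x⟩ := hv
  show (S.X₃.obj.map (hT.from (A x)).op).hom ((S.g.hom.app (op (EtCoh.top X))).hom a) = (S.X₃.obj.map (hT.from (A x)).op).hom q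
  rw [← NatTrans.naturality_apply, show (S.X₂.obj.map (hT.from (A x)).op).hom a = s' x from ha x, ← hs, map_sub]
  have hz0 : (S.g.hom.app (op (A x))).hom ((S.f.hom.app (op (A x))).hom (τ x)) = 0 :=
    congrArg (fun t : S.X₁ ⟶ S.X₃ => (t.hom.app (op (A x))).hom (τ x)) S.zero
  rw [hz0, sub_zero]

end Groth.Agent.EtFound.UnibH1
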